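import Mathlib

/-! Projective representations of the even permutations of `Fin r`: lifts, commutator scalars,
and the permutations used in the lower bound for their degree. -/

namespace Cfsg.Agent.AltSec

open Equiv
open scoped commutatorElement

variable {k V : Type*} [Field k] [AddCommGroup V] [Module k V] {r : ℕ}

abbrev GV (k V : Type*) [Field k] [AddCommGroup V] [Module k V] := (Module.End k V)ˣ

/-- scalar operators -/
noncomputable def sc : kˣ →* GV k V := Units.map (algebraMap k (Module.End k V)).toMonoidHom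

@[simp] theorem sc_apply (c : kˣ) (v : V) : ((sc c : GV k V) : Module.End k V) v = (c : k) • v := by
  simp [sc, Module.algebraMap_end_apply]

theorem sc_comm (c : kˣ) (g : GV k V) : sc c * g = g * sc c := by
  apply Units.ext; apply LinearMap.ext; intro v
  simp [Module.End.mul_apply]

theorem sc_commute (c : kˣ) (g : GV k V) : Commute (sc c) g := sc_comm c g

theorem sc_injective [Nontrivial V] : Function.Injective (sc : kˣ → GV k V) := by
  intro a b h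
  obtain ⟨v, hv⟩ := exists_ne (0 : V)
  apply Units.ext
  refine smul_left_injective k hv ?_
  have := congrArg (fun g : GV k V => (g : Module.End k V) v) h
  simpa using this

structure PRep (k V : Type*) [Field k] [AddCommGroup V] [Module k V] (r : ℕ) where
  f : Perm (Fin r) → GV k V
  mul : ∀ σ τ, Perm.sign σ = 1 → Perm.sign τ = 1 → ∃ c, f σ * f τ = sc c * f (σ * τ)
  faithful : ∀ σ, Perm.sign σ = 1 → (∃ c, f σ = sc c) → σ = 1
  nt : Nontrivial V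

namespace PRep

variable (ρ : PRep k V r)

/-- `X` is one of the operators representing `σ` -/
def Lifts (σ : Perm (Fin r)) (X : GV k V) : Prop := ∃ c, X = sc c * ρ.f σ

theorem lifts_f (σ) : ρ.Lifts σ (ρ.f σ) := ⟨1, by simp⟩

variable {ρ}

theorem Lifts.smul {σ X} (h : ρ.Lifts σ X) (c : kˣ) : ρ.Lifts σ (sc c * X) := by
  obtain ⟨d, rfl⟩ := h
  exact ⟨c * d, by rw [map_mul, mul_assoc]⟩

theorem Lifts.mul {σ τ X Y} (hσ : Perm.sign σ = 1) (hτ : Perm.sign τ = 1)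
    (h : ρ.Lifts σ X) (h' : ρ.Lifts τ Y) : ρ.Lifts (σ * τ) (X * Y) := by
  obtain ⟨a, rfl⟩ := h; obtain ⟨b, rfl⟩ := h'
  obtain ⟨c, hc⟩ := ρ.mul σ τ hσ hτ
  refine ⟨a * b * c, ?_⟩
  calc sc a * ρ.f σ * (sc b * ρ.f τ) = sc a * (ρ.f σ * sc b) * ρ.f τ := by group
    _ = sc a * (sc b * ρ.f σ) * ρ.f τ := by rw [sc_comm b (ρ.f σ)]
    _ = sc a * sc b * (ρ.f σ * ρ.f τ) := by group
    _ = sc a * sc b * sc c * ρ.f (σ * τ) := by rw [hc]; group
    _ = _ := by rw [map_mul, map_mul]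

theorem lifts_one : ρ.Lifts 1 1 := by
  obtain ⟨c, hc⟩ := ρ.mul 1 1 (by simp) (by simp)
  rw [mul_one] at hc
  refine ⟨c⁻¹, ?_⟩
  have := mul_right_cancel hc
  rw [this, ← map_mul, inv_mul_cancel, map_one]

theorem Lifts.unique {σ X Y} (h : ρ.Lifts σ X) (h' : ρ.Lifts σ Y) : ∃ c, Y = sc c * X := by
  obtain ⟨a, rfl⟩ := h; obtain ⟨b, rfl⟩ := h'
  exact ⟨b * a⁻¹, by rw [map_mul, map_inv]; group⟩

theorem Lifts.inv {σ X} (hσ : Perm.sign σ = 1) (h : ρ.Lifts σ X) : ρ.Lifts σ⁻¹ X⁻¹ := by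
  have h1 := h.mul hσ (by simp [hσ]) (ρ.lifts_f σ⁻¹)
  rw [mul_inv_cancel] at h1
  obtain ⟨c, hc⟩ := lifts_one.unique h1
  rw [mul_one] at hc
  refine ⟨c⁻¹, ?_⟩
  have h2 : X⁻¹ * (X * ρ.f σ⁻¹) = X⁻¹ * sc c := by rw [hc]
  rw [← mul_assoc, inv_mul_cancel, one_mul, ← sc_comm] at h2
  rw [h2, map_inv, ← mul_assoc, inv_mul_cancel, one_mul]

theorem Lifts.pow {σ X} (hσ : Perm.sign σ = 1) (h : ρ.Lifts σ X) :
    ∀ n : ℕ, ρ.Lifts (σ ^ n) (X ^ n)
  | 0 => by simpa using lifts_one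
  | n + 1 => by
    rw [pow_succ, pow_succ]
    exact (Lifts.pow hσ h n).mul (by simp [hσ]) hσ h

theorem Lifts.conj {σ g X Y} (hg : Perm.sign g = 1) (hσ : Perm.sign σ = 1)
    (hY : ρ.Lifts g Y) (hX : ρ.Lifts σ X) : ρ.Lifts (g * σ * g⁻¹) (Y * X * Y⁻¹) :=
  (hY.mul hg hσ hX).mul (by simp [hg, hσ]) (by simp [hg]) (hY.inv hg)

theorem Lifts.comm {σ τ X Y} (hσ : Perm.sign σ = 1) (hτ : Perm.sign τ = 1)
    (hX : ρ.Lifts σ X) (hY : ρ.Lifts τ Y) : ρ.Lifts ⁅σ, τ⁆ ⁅X, Y⁆ := by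
  rw [commutatorElement_def, commutatorElement_def]
  exact ((hX.mul hσ hτ hY).mul (by simp [hσ, hτ]) (by simp [hσ]) (hX.inv hσ)).mul
    (by simp [hσ, hτ]) (by simp [hτ]) (hY.inv hτ)

theorem Lifts.not_scalar {σ X} (hσ : Perm.sign σ = 1) (h : ρ.Lifts σ X) (h1 : σ ≠ 1) (c : kˣ) :
    X ≠ sc c := by
  rintro rfl
  obtain ⟨d, hd⟩ := h
  exact h1 (ρ.faithful σ hσ ⟨d⁻¹ * c, by rw [map_mul, hd, map_inv]; group⟩)

theorem Lifts.commute_iff {σ τ X X' Y Y'} (hX : ρ.Lifts σ X) (hX' : ρ.Lifts σ X')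
    (hY : ρ.Lifts τ Y) (hY' : ρ.Lifts τ Y') (h : Commute X Y) : Commute X' Y' := by
  obtain ⟨a, rfl⟩ := hX.unique hX'
  obtain ⟨b, rfl⟩ := hY.unique hY'
  exact ((sc_commute a _).mul_left ((sc_commute b X).symm.mul_right h))

/-- the lifts of `σ` and `τ` commute -/
def Cm (ρ : PRep k V r) (σ τ : Perm (Fin r)) : Prop := Commute (ρ.f σ) (ρ.f τ)

theorem Cm.lifts {σ τ X Y} (h : ρ.Cm σ τ) (hX : ρ.Lifts σ X) (hY : ρ.Lifts τ Y) : Commute X Y :=
  (ρ.lifts_f σ).commute_iff hX (ρ.lifts_f τ) hY h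

theorem cm_of {σ τ X Y} (hX : ρ.Lifts σ X) (hY : ρ.Lifts τ Y) (h : Commute X Y) : ρ.Cm σ τ :=
  hX.commute_iff (ρ.lifts_f σ) hY (ρ.lifts_f τ) h

theorem Cm.symm {σ τ} (h : ρ.Cm σ τ) : ρ.Cm τ σ := Commute.symm h

theorem Cm.mul {σ τ τ'} (hτ : Perm.sign τ = 1) (hτ' : Perm.sign τ' = 1) (h : ρ.Cm σ τ)
    (h' : ρ.Cm σ τ') : ρ.Cm σ (τ * τ') :=
  cm_of (ρ.lifts_f σ) ((ρ.lifts_f τ).mul hτ hτ' (ρ.lifts_f τ')) (Commute.mul_right h h')

theorem cm_one (σ) : ρ.Cm σ 1 := cm_of (ρ.lifts_f σ) lifts_one (Commute.one_right _)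

theorem Cm.pow {σ τ} (hτ : Perm.sign τ = 1) (h : ρ.Cm σ τ) (n : ℕ) : ρ.Cm σ (τ ^ n) :=
  cm_of (ρ.lifts_f σ) ((ρ.lifts_f τ).pow hτ n) (Commute.pow_right h n)

theorem Cm.conj {σ τ} {g : Perm (Fin r)} (hg : Perm.sign g = 1) (hσ : Perm.sign σ = 1)
    (hτ : Perm.sign τ = 1) (h : ρ.Cm σ τ) : ρ.Cm (g * σ * g⁻¹) (g * τ * g⁻¹) :=
  cm_of ((ρ.lifts_f g).conj hg hσ (ρ.lifts_f σ)) ((ρ.lifts_f g).conj hg hτ (ρ.lifts_f τ))
    ((Commute.map (h : Commute (ρ.f σ) (ρ.f τ)) (MulAut.conj (ρ.f g)).toMonoidHom))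

/-- commuting even permutations: the lifts commute up to a scalar -/
theorem exists_scalar {σ τ X Y} (hσ : Perm.sign σ = 1) (hτ : Perm.sign τ = 1)
    (hX : ρ.Lifts σ X) (hY : ρ.Lifts τ Y) (h : Commute σ τ) :
    ∃ c : kˣ, X * Y = sc c * (Y * X) := by
  have h' := hY.mul hτ hσ hX
  rw [← h.eq] at h'
  exact h'.unique (hX.mul hσ hτ hY)

theorem scalar_pow {X Y : GV k V} {c : kˣ} (h : X * Y = sc c * (Y * X)) (n : ℕ) :
    X * Y ^ n = sc (c ^ n) * (Y ^ n * X) := by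
  induction n with
  | zero => simp
  | succ n ih =>
    calc X * Y ^ (n + 1) = X * Y ^ n * Y := by group
      _ = sc (c ^ n) * Y ^ n * (X * Y) := by rw [ih]; group
      _ = sc (c ^ n) * (Y ^ n * sc c) * (Y * X) := by rw [h]; group
      _ = sc (c ^ n) * (sc c * Y ^ n) * (Y * X) := by rw [sc_comm c (Y ^ n)]
      _ = sc (c ^ (n + 1)) * (Y ^ (n + 1) * X) := by rw [pow_succ c, map_mul]; group

theorem pow_scalar {X : GV k V} {σ} (hσ : Perm.sign σ = 1) (hX : ρ.Lifts σ X) {n : ℕ}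
    (hn : σ ^ n = 1) : ∃ c, X ^ n = sc c := by
  obtain ⟨c, hc⟩ := lifts_one.unique (hn ▸ hX.pow hσ n)
  exact ⟨c, by simpa using hc⟩

theorem scalar_pow_eq_one {X Y : GV k V} {c : kˣ} {τ} (hτ : Perm.sign τ = 1)
    (hY : ρ.Lifts τ Y) {n : ℕ} (hn : τ ^ n = 1) (h : X * Y = sc c * (Y * X)) : c ^ n = 1 := by
  have := ρ.nt
  obtain ⟨d, hd⟩ := pow_scalar hτ hY hn
  have h1 := scalar_pow h n
  rw [hd, ← sc_comm, ← mul_assoc, ← map_mul] at h1
  exact mul_eq_right.1 (sc_injective (mul_right_cancel h1)).symm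

theorem cm_of_coprime {σ τ} (hσ : Perm.sign σ = 1) (hτ : Perm.sign τ = 1) (h : Commute σ τ)
    {a b : ℕ} (ha : σ ^ a = 1) (hb : τ ^ b = 1) (hab : Nat.Coprime a b) : ρ.Cm σ τ := by
  obtain ⟨c, hc⟩ := exists_scalar hσ hτ (ρ.lifts_f σ) (ρ.lifts_f τ) h
  have h1 : c ^ b = 1 := scalar_pow_eq_one hτ (ρ.lifts_f τ) hb hc
  have h2 : c⁻¹ ^ a = 1 := scalar_pow_eq_one hσ (ρ.lifts_f σ) ha
    (X := ρ.f τ) (by rw [hc, ← mul_assoc, ← map_mul, inv_mul_cancel, map_one, one_mul])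
  rw [inv_pow, inv_eq_one] at h2
  have h3 : c ^ Nat.gcd a b = 1 := pow_gcd_eq_one.2 ⟨h2, h1⟩
  rw [hab.gcd_eq_one, pow_one] at h3
  rw [h3, map_one, one_mul] at hc
  exact hc

end PRep

/-! ### permutations -/

variable {a b c d e g : Fin r}

/-- double transposition -/
def dt (a b c d : Fin r) : Perm (Fin r) := swap a b * swap c d

/-- the three-cycle `a ↦ b ↦ c ↦ a` -/
def tc (a b c : Fin r) : Perm (Fin r) := swap a b * swap b c

theorem conj_swap (σ : Perm (Fin r)) (a b : Fin r) :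
    σ * swap a b * σ⁻¹ = swap (σ a) (σ b) := (Equiv.swap_apply_apply σ a b).symm

theorem conj_dt (σ : Perm (Fin r)) (a b c d : Fin r) :
    σ * dt a b c d * σ⁻¹ = dt (σ a) (σ b) (σ c) (σ d) := by
  rw [dt, dt, ← conj_swap, ← conj_swap]; group

theorem conj_tc (σ : Perm (Fin r)) (a b c : Fin r) :
    σ * tc a b c * σ⁻¹ = tc (σ a) (σ b) (σ c) := by
  rw [tc, tc, ← conj_swap, ← conj_swap]; group

theorem sign_dt (hab : a ≠ b) (hcd : c ≠ d) : Perm.sign (dt a b c d) = 1 := by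
  simp [dt, Perm.sign_swap hab, Perm.sign_swap hcd]

theorem sign_tc (hab : a ≠ b) (hbc : b ≠ c) : Perm.sign (tc a b c) = 1 := by
  simp [tc, Perm.sign_swap hab, Perm.sign_swap hbc]

theorem map_viaEmbedding_swap {m : ℕ} (ι : Fin m ↪ Fin r) (i j : Fin m) :
    Perm.viaEmbedding (swap i j) ι = swap (ι i) (ι j) := by
  ext x
  by_cases hx : x ∈ Set.range ι
  · obtain ⟨y, rfl⟩ := hx
    rw [Perm.viaEmbedding_apply, Equiv.swap_apply_def, Equiv.swap_apply_def]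
    simp only [ι.apply_eq_iff_eq]
    split_ifs <;> rfl
  · rw [Perm.viaEmbedding_apply_of_notMem _ _ _ hx, Equiv.swap_apply_of_ne_of_ne]
    · exact fun h => hx ⟨i, h.symm⟩
    · exact fun h => hx ⟨j, h.symm⟩

theorem map_dt {m : ℕ} (ι : Fin m ↪ Fin r) (i j i' j' : Fin m) :
    Perm.viaEmbeddingHom ι (dt i j i' j') = dt (ι i) (ι j) (ι i') (ι j') := by
  rw [dt, map_mul]
  simp [dt, Perm.viaEmbeddingHom_apply, map_viaEmbedding_swap]

theorem map_tc {m : ℕ} (ι : Fin m ↪ Fin r) (i j l : Fin m) :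
    Perm.viaEmbeddingHom ι (tc i j l) = tc (ι i) (ι j) (ι l) := by
  rw [tc, map_mul]
  simp [tc, Perm.viaEmbeddingHom_apply, map_viaEmbedding_swap]

theorem exists_avoid (l : List (Fin r)) (h : l.length < r) : ∃ x, x ∉ l := by
  by_contra! hc
  have := Finset.card_le_card (s := (Finset.univ : Finset (Fin r))) (t := l.toFinset)
    (fun x _ => List.mem_toFinset.2 (hc x))
  simp only [Finset.card_univ, Fintype.card_fin] at this
  have := l.toFinset_card_le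
  omega

/-- even permutations are transitive on short tuples -/
theorem exists_even_map {m : ℕ} (f g : Fin m → Fin r) (hf : Function.Injective f)
    (hg : Function.Injective g) (hm : m + 2 ≤ r) :
    ∃ σ : Perm (Fin r), Perm.sign σ = 1 ∧ ∀ i, σ (f i) = g i := by
  obtain ⟨σ, hσ⟩ := Equiv.Perm.exists_extending_pair f g hf hg
  rcases Int.units_eq_one_or (Perm.sign σ) with h | h
  · exact ⟨σ, h, hσ⟩
  obtain ⟨x, hx⟩ := exists_avoid (List.ofFn f) (by simp; omega)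
  obtain ⟨y, hy⟩ := exists_avoid (x :: List.ofFn f) (by simp; omega)
  rw [List.mem_cons, not_or] at hy
  refine ⟨σ * swap x y, ?_, fun i => ?_⟩
  · simp [h, Perm.sign_swap (Ne.symm hy.1)]
  · rw [Perm.mul_apply, Equiv.swap_apply_of_ne_of_ne, hσ]
    · intro h'; exact hx (List.mem_ofFn.2 ⟨i, h'⟩)
    · intro h'; exact hy.2 (List.mem_ofFn.2 ⟨i, h'⟩)

end Cfsg.Agent.AltSec
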