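import Mathlib.GroupTheory.Sylow
import Mathlib.GroupTheory.Nilpotent
import Mathlib.GroupTheory.Abelianization.Defs
import Mathlib.GroupTheory.SpecificGroups.Cyclic
import Mathlib.FieldTheory.Finite.Basic
import Mathlib.NumberTheory.Basic
import Mathlib.Algebra.Group.Subgroup.Order

/-!
Lifting an element conjugate to one of its powers through a surjection of finite groups.
-/

set_option autoImplicit false

namespace Cfsg.Agent.AltSec.TorusLift

universe u v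

variable {K : Type u} [Group K] [Finite K] {A : Type v} [Group A]

/-- A nilpotent group with cyclic abelianisation is generated by any preimage of a generator. -/
theorem zpowers_eq_top [Group.IsNilpotent K] {q : K}
    (h : ∀ a : Abelianization K, a ∈ Subgroup.zpowers (Abelianization.of q)) :
    Subgroup.zpowers q = ⊤ := by
  by_contra hne
  obtain ⟨M, hM, hqM⟩ := (eq_top_or_exists_le_coatom (Subgroup.zpowers q)).resolve_left hne
  haveI hMn : M.Normal :=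
    Subgroup.NormalizerCondition.normal_of_coatom M Group.normalizerCondition_of_isNilpotent hM
  haveI : IsCyclic (K ⧸ M) := by
    obtain ⟨a, ha⟩ := SetLike.exists_not_mem_of_ne_top M hM.1 rfl
    refine ⟨(a : K ⧸ M), fun z => ?_⟩
    have htop : (Subgroup.zpowers (a : K ⧸ M)).comap (QuotientGroup.mk' M) = ⊤ :=
      hM.2 _ (lt_of_le_of_ne (fun m hm => by
        rw [Subgroup.mem_comap, QuotientGroup.mk'_apply]
        rw [(QuotientGroup.eq_one_iff m).2 hm]; exact one_mem _)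
        fun e => ha (by rw [e]; exact Subgroup.mem_zpowers _))
    obtain ⟨k, rfl⟩ := QuotientGroup.mk'_surjective M z
    have hk : k ∈ (Subgroup.zpowers (a : K ⧸ M)).comap (QuotientGroup.mk' M) := htop ▸ trivial
    exact hk
  letI : CommGroup (K ⧸ M) := IsCyclic.commGroup
  refine hM.1 (eq_top_iff.2 fun k _ => ?_)
  rw [← QuotientGroup.eq_one_iff]
  obtain ⟨z, hz⟩ := h (Abelianization.of k)
  have e := congrArg (Abelianization.lift (QuotientGroup.mk' M)) hz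
  simp only [map_zpow, Abelianization.lift_apply_of] at e
  rw [show (k : K ⧸ M) = QuotientGroup.mk' M k from rfl, ← e, QuotientGroup.mk'_apply,
    (QuotientGroup.eq_one_iff q).2 (hqM (Subgroup.mem_zpowers q)), one_zpow]

theorem exists_in_pgroup (φ : K →* A) {ℓ : ℕ} [Fact ℓ.Prime] {j : ℕ} {b : K}
    (hb : ℓ.Coprime (orderOf b)) {P : Subgroup K} (hP : IsPGroup ℓ P)
    (hPn : ∀ y ∈ P, b * y * b⁻¹ ∈ P) {x : A} (hx : orderOf x = ℓ)
    (himg : ∀ y ∈ P, φ y ∈ Subgroup.zpowers x) (hne : ∃ y ∈ P, φ y ≠ 1)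
    (hbx : φ b * x * (φ b)⁻¹ = x ^ j) :
    ∃ s ∈ P, orderOf s = ℓ ∧ b * s * b⁻¹ = s ^ j := by
  have hℓ : ℓ.Prime := Fact.out
  obtain ⟨Q, ⟨hQP, hQn, hQne⟩, hmin⟩ := wellFounded_lt.has_min
    {Q : Subgroup K | Q ≤ P ∧ (∀ y ∈ Q, b * y * b⁻¹ ∈ Q) ∧ ∃ y ∈ Q, φ y ≠ 1}
    ⟨P, le_rfl, hPn, hne⟩
  haveI : Group.IsNilpotent ↥Q := (hP.to_le hQP).isNilpotent
  obtain ⟨k, hk⟩ := IsPGroup.iff_card.1 (hP.to_le hQP)
  let β : ↥Q →* ↥Q :=
    ((MulAut.conj b).toMonoidHom.comp Q.subtype).codRestrict Q fun y => hQn y y.2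
  have hβ : ∀ (i : ℕ) (y : ↥Q), ((β^[i] y : ↥Q) : K) = b ^ i * y * (b ^ i)⁻¹ := by
    intro i
    induction i with
    | zero => intro y; simp
    | succ i ih =>
      intro y
      rw [Function.iterate_succ_apply', pow_succ']
      show b * ((β^[i] y : ↥Q) : K) * b⁻¹ = _
      rw [ih]; group
  set m := orderOf b with hm
  have hm0 : 0 < m := orderOf_pos b
  let γ : Abelianization ↥Q →* Abelianization ↥Q := Abelianization.map β
  have hγ : ∀ (i : ℕ) (y : ↥Q), γ^[i] (Abelianization.of y) = Abelianization.of (β^[i] y) := by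
    intro i
    induction i with
    | zero => intro y; rfl
    | succ i ih => intro y; rw [Function.iterate_succ_apply', ih, Function.iterate_succ_apply']; rfl
  letI : CommGroup ↥(Subgroup.zpowers x) := IsCyclic.commGroup
  let φQ : ↥Q →* ↥(Subgroup.zpowers x) :=
    (φ.comp Q.subtype).codRestrict _ fun y => himg y (hQP y.2)
  let ψ : Abelianization ↥Q →* ↥(Subgroup.zpowers x) := Abelianization.lift φQ
  have hconjx : ∀ (i : ℕ) (z : A), z ∈ Subgroup.zpowers x →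
      φ b ^ i * z * (φ b ^ i)⁻¹ = z ^ (j ^ i) := by
    intro i
    induction i with
    | zero => intro z _; simp
    | succ i ih =>
      intro z hz
      have h1 : φ b * z * (φ b)⁻¹ = z ^ j := by
        obtain ⟨t, rfl⟩ := hz
        dsimp only
        rw [← conj_zpow, hbx, ← zpow_natCast, ← zpow_natCast, ← zpow_mul, ← zpow_mul, mul_comm]
      rw [pow_succ, pow_succ', pow_mul,
        show φ b ^ i * φ b * z * (φ b ^ i * φ b)⁻¹
          = φ b ^ i * (φ b * z * (φ b)⁻¹) * (φ b ^ i)⁻¹ by group,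
        h1, ih (z ^ j) (pow_mem hz _)]
  have hψ : ∀ (i : ℕ) (y : ↥Q),
      ψ (γ^[i] (Abelianization.of y)) = ψ (Abelianization.of y) ^ (j ^ i) := by
    intro i y
    rw [hγ]
    simp only [ψ, Abelianization.lift_apply_of]
    apply Subtype.ext
    show φ ((β^[i] y : ↥Q) : K) = φ (y : K) ^ (j ^ i)
    rw [hβ, map_mul, map_mul, map_inv, map_pow]
    exact hconjx i _ (himg _ (hQP y.2))
  obtain ⟨y₀, hy₀, hy₀ne⟩ := hQne
  set a₀ := Abelianization.of (⟨y₀, hy₀⟩ : ↥Q) with ha₀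
  have hψa₀ : ψ a₀ ≠ 1 := by
    intro e
    exact hy₀ne (congrArg (Subtype.val : ↥(Subgroup.zpowers x) → A) e)
  have hzx : ∀ z : ↥(Subgroup.zpowers x), z ^ ℓ = 1 := fun z => by
    have := pow_card_eq_one' (x := z)
    rwa [Nat.card_zpowers, hx] at this
  have hordψ : orderOf (ψ a₀) = ℓ :=
    orderOf_eq_prime (hzx _) hψa₀
  have hjm : (j : ZMod ℓ) ^ m = 1 := by
    have h1 := hψ m ⟨y₀, hy₀⟩
    have h2 : β^[m] (⟨y₀, hy₀⟩ : ↥Q) = ⟨y₀, hy₀⟩ := by
      apply Subtype.ext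
      rw [hβ, hm, pow_orderOf_eq_one]; simp
    rw [hγ, h2, ← ha₀] at h1
    have h3 : ψ a₀ ^ 1 = ψ a₀ ^ j ^ m := by rw [pow_one]; exact h1
    rw [pow_eq_pow_iff_modEq, hordψ] at h3
    have := (ZMod.natCast_eq_natCast_iff' _ _ _).2 h3
    simpa using this.symm
  set c := (j ^ (m - 1)) ^ ℓ ^ k with hc
  have hcj : (c : ZMod ℓ) * j = 1 := by
    rw [hc, Nat.cast_pow, ZMod.pow_card_pow, Nat.cast_pow, ← pow_succ,
      show m - 1 + 1 = m by omega, hjm]
  have hcQ : c ^ m ≡ 1 [MOD ℓ ^ k] := by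
    rw [hc, ← pow_mul, mul_comm, pow_mul]
    have h1 : (ℓ : ℤ) ∣ ((j ^ (m - 1)) ^ m : ℕ) - 1 := by
      rw [← ZMod.intCast_zmod_eq_zero_iff_dvd]
      push_cast
      rw [← pow_mul, mul_comm, pow_mul, hjm, one_pow, sub_self]
    have h2 := dvd_sub_pow_of_dvd_sub h1 k
    rw [one_pow] at h2
    refine (Nat.modEq_iff_dvd.2 ?_).symm
    push_cast at h2 ⊢
    exact dvd_trans (pow_dvd_pow _ (Nat.le_succ k)) h2
  have hexp : ∀ (a : Abelianization ↥Q) {e e' : ℕ}, e ≡ e' [MOD ℓ ^ k] → a ^ e = a ^ e' := by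
    intro a e e' he
    refine pow_eq_pow_iff_modEq.2 (he.of_dvd ?_)
    rw [orderOf_dvd_iff_pow_eq_one]
    obtain ⟨q, rfl⟩ : ∃ q, Abelianization.of q = a := by
      induction a using QuotientGroup.induction_on with | H q => exact ⟨q, rfl⟩
    rw [← map_pow, ← hk, pow_card_eq_one', map_one]
  set f : ℕ → Abelianization ↥Q := fun i => (γ^[i] a₀) ^ (c ^ i) with hf
  set y := ∏ i ∈ Finset.range m, f i with hy
  have hfm : f m = f 0 := by
    have h2 : β^[m] (⟨y₀, hy₀⟩ : ↥Q) = ⟨y₀, hy₀⟩ := by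
      apply Subtype.ext
      rw [hβ, hm, pow_orderOf_eq_one]; simp
    simp only [hf, ha₀, hγ, h2, Function.iterate_zero, id]
    rw [hexp _ hcQ]
    simp
  have hshift : γ y ^ c = y := by
    rw [hy, map_prod, ← Finset.prod_pow]
    have e : ∀ i, γ (f i) ^ c = f (i + 1) := fun i => by
      simp only [hf, map_pow, ← pow_mul, Function.iterate_succ_apply', pow_succ]
    simp only [e]
    have h1 := Finset.prod_range_succ' f m
    rw [Finset.prod_range_succ, hfm] at h1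
    exact (mul_right_cancel h1).symm
  have hγy : γ y = y ^ c ^ (m - 1) := by
    conv_rhs => rw [← hshift, ← pow_mul, ← pow_succ', show m - 1 + 1 = m by omega]
    rw [hexp _ hcQ, pow_one]
  have hψy : ψ y ≠ 1 := by
    have e : ∀ i, ψ (f i) = ψ a₀ := fun i => by
      simp only [hf, map_pow]
      rw [ha₀, hψ, ← ha₀, ← pow_mul, ← mul_pow]
      conv_rhs => rw [← pow_one (ψ a₀)]
      rw [pow_eq_pow_iff_modEq, hordψ]
      refine (ZMod.natCast_eq_natCast_iff' _ _ _).1 ?_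
      push_cast
      rw [mul_comm, hcj, one_pow]
    rw [hy, map_prod, Finset.prod_congr rfl fun i _ => e i, Finset.prod_const, Finset.card_range]
    intro h1
    have := orderOf_dvd_of_pow_eq_one h1
    rw [hordψ] at this
    exact (hℓ.coprime_iff_not_dvd.1 hb) this
  obtain ⟨q₀, hq₀⟩ : ∃ q, Abelianization.of q = y := by
    clear_value y
    induction y using QuotientGroup.induction_on with | H q => exact ⟨q, rfl⟩
  set R : Subgroup K := ((Subgroup.zpowers y).comap Abelianization.of).map Q.subtype with hR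
  have hRQ : R = Q := by
    by_contra hne'
    refine hmin R ⟨(Subgroup.map_subtype_le _).trans hQP, ?_, ?_⟩
      (lt_of_le_of_ne (Subgroup.map_subtype_le _) hne')
    · rintro _ ⟨q, hq, rfl⟩
      refine ⟨β q, ?_, rfl⟩
      obtain ⟨t, ht⟩ := hq
      refine Subgroup.mem_comap.2 ⟨((c ^ (m - 1) : ℕ) : ℤ) * t, ?_⟩
      have e := congrArg γ ht
      simp only [map_zpow, hγy] at e
      dsimp only
      rw [zpow_mul, zpow_natCast, e]
      rfl
    · refine ⟨q₀, ⟨q₀, Subgroup.mem_comap.2 (hq₀ ▸ Subgroup.mem_zpowers y), rfl⟩, fun e => hψy ?_⟩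
      rw [← hq₀]
      exact Subtype.ext e
  have hgen : Subgroup.zpowers q₀ = ⊤ := zpowers_eq_top fun a => by
    obtain ⟨q, rfl⟩ : ∃ q, Abelianization.of q = a := by
      induction a using QuotientGroup.induction_on with | H q => exact ⟨q, rfl⟩
    obtain ⟨q', hq', e⟩ : (q : K) ∈ R := hRQ.symm ▸ q.2
    rw [hq₀, ← show q' = q from Subtype.ext e]
    exact hq'
  obtain ⟨t, ht⟩ : β q₀ ∈ Subgroup.zpowers q₀ := hgen ▸ trivial
  obtain ⟨u, hu⟩ := himg _ (hQP q₀.2)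
  have hφq : φ (q₀ : K) ≠ 1 := fun e => hψy (by rw [← hq₀]; exact Subtype.ext e)
  have htj : (ℓ : ℤ) ∣ t - j := by
    have e : φ (q₀ : K) ^ (t - (j : ℤ)) = 1 := by
      have h1 := congrArg (fun q : ↥Q => φ (q : K)) ht
      simp only [SubgroupClass.coe_zpow, map_zpow] at h1
      rw [zpow_sub, h1, zpow_natCast]
      show φ (b * (q₀ : K) * b⁻¹) * _ = 1
      have h2 := hconjx 1 _ (himg _ (hQP q₀.2))
      rw [pow_one, pow_one] at h2
      rw [map_mul, map_mul, map_inv, h2, mul_inv_cancel]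
    have h3 : orderOf (φ (q₀ : K)) = ℓ := by
      refine orderOf_eq_prime ?_ hφq
      exact congrArg Subtype.val (hzx ⟨_, himg _ (hQP q₀.2)⟩)
    rw [← h3]
    exact orderOf_dvd_iff_zpow_eq_one.2 e
  have hqne : (q₀ : K) ≠ 1 := fun e => hφq (by rw [e, map_one])
  obtain ⟨n, -, hn⟩ := (Nat.dvd_prime_pow hℓ).1 (hk ▸ orderOf_dvd_natCard q₀)
  have hn0 : 1 ≤ n := by
    rcases Nat.eq_zero_or_pos n with rfl | h
    · rw [pow_zero, orderOf_eq_one_iff] at hn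
      exact absurd (congrArg Subtype.val hn) hqne
    · exact h
  refine ⟨(q₀ : K) ^ ℓ ^ (n - 1), pow_mem (hQP q₀.2) _, ?_, ?_⟩
  · rw [orderOf_pow' _ (pow_ne_zero _ hℓ.ne_zero), Subgroup.orderOf_coe, hn,
      Nat.gcd_eq_right (pow_dvd_pow ℓ (by omega)),
      Nat.pow_div (by omega) hℓ.pos, show n - (n - 1) = 1 by omega, pow_one]
  · have hb1 : b * (q₀ : K) * b⁻¹ = (q₀ : K) ^ t := (congrArg Subtype.val ht).symm
    rw [← conj_pow, hb1, ← zpow_natCast, ← zpow_mul, ← pow_mul, ← zpow_natCast (q₀ : K)]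
    refine zpow_eq_zpow_iff_modEq.2 (Int.modEq_iff_dvd.2 ?_)
    rw [Subgroup.orderOf_coe, hn]
    obtain ⟨r, hr⟩ := htj
    refine ⟨-r, ?_⟩
    push_cast
    rw [show (ℓ : ℤ) ^ n = ℓ ^ (n - 1) * ℓ by rw [← pow_succ, show n - 1 + 1 = n by omega]]
    linear_combination -((ℓ : ℤ) ^ (n - 1)) * hr

/-- A subgroup minimal among those covering two elements, and a lift of order prime to `N`. -/
theorem setup {φ : K →* A} (hφ : Function.Surjective φ) {x b₀ : A} {N j : ℕ}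
    (hN : orderOf x = N) (hcop : N.Coprime (orderOf b₀)) (hbx : b₀ * x * b₀⁻¹ = x ^ j) :
    ∃ b : K, N.Coprime (orderOf b) ∧ φ b = b₀ ∧ ∃ K₀ : Subgroup K, b ∈ K₀ ∧
      ∀ ℓ : ℕ, ℓ.Prime → ℓ ∣ N → ¬ ℓ * ℓ ∣ N → ∃ P : Subgroup K, P ≤ K₀ ∧ IsPGroup ℓ P ∧
        (∀ g ∈ K₀, ∀ y ∈ P, g * y * g⁻¹ ∈ P) ∧
        (∀ y ∈ P, φ y ∈ Subgroup.zpowers (x ^ (N / ℓ))) ∧ ∃ y ∈ P, φ y ≠ 1 := by
  obtain ⟨K₀, ⟨hKle, hKx, hKb⟩, hmin⟩ := wellFounded_lt.has_min
    {K₀ : Subgroup K | (∀ g ∈ K₀, φ g ∈ Subgroup.normalizer (Subgroup.zpowers x : Set A)) ∧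
      x ∈ K₀.map φ ∧ b₀ ∈ K₀.map φ}
    ⟨(Subgroup.normalizer (Subgroup.zpowers x : Set A)).comap φ, fun g hg => hg, by
      rw [Subgroup.map_comap_eq_self_of_surjective hφ]
      exact Subgroup.le_normalizer (Subgroup.mem_zpowers x), by
      rw [Subgroup.map_comap_eq_self_of_surjective hφ]
      have h1 : ∀ i : ℤ, b₀ * x ^ i * b₀⁻¹ = x ^ ((j : ℤ) * i) := fun i => by
        rw [← conj_zpow, hbx, ← zpow_natCast, ← zpow_mul]
      have hcj : Nat.Coprime (orderOf x) j := by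
        by_cases h0 : N = 1
        · rw [hN, h0]; exact Nat.coprime_one_left _
        have h2 : orderOf (x ^ j) = orderOf x := by
          rw [← hbx]; exact (SemiconjBy.orderOf_eq _ (SemiconjBy.conj_mk b₀ x)).symm
        have hx0 : 0 < orderOf x := by
          obtain ⟨x', rfl⟩ := hφ x
          exact Nat.pos_of_dvd_of_pos (orderOf_map_dvd φ x') (orderOf_pos x')
        rcases Nat.eq_zero_or_pos j with rfl | hj
        · rw [pow_zero, orderOf_one, hN] at h2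
          exact absurd h2.symm h0
        rw [orderOf_pow' x hj.ne'] at h2
        have hg : Nat.gcd (orderOf x) j = 1 := by
          have h3 := Nat.div_mul_cancel (Nat.gcd_dvd_left (orderOf x) j)
          rw [h2] at h3
          nlinarith
        exact hg
      refine Subgroup.mem_normalizer_iff.2 fun z => ⟨?_, fun hz => ?_⟩
      · rintro ⟨i, rfl⟩; exact ⟨_, (h1 i).symm⟩
      · obtain ⟨i, hi⟩ := hz
        obtain ⟨u, hu⟩ := exists_pow_eq_self_of_coprime hcj.symm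
        have e : z = b₀⁻¹ * x ^ i * b₀ := by dsimp only at hi; rw [hi]; group
        have e2 : b₀ * x ^ u * b₀⁻¹ = x := by
          rw [← conj_pow, hbx, hu]
        refine ⟨(u : ℤ) * i, ?_⟩
        dsimp only
        rw [e, zpow_mul, zpow_natCast]
        calc (x ^ u) ^ i = b₀⁻¹ * (b₀ * x ^ u * b₀⁻¹) ^ i * b₀ := by rw [conj_zpow]; group
          _ = _ := by rw [e2]⟩
  obtain ⟨b', hb'K, hb'⟩ := hKb
  have hn0 : 0 < orderOf b₀ := by
    rw [← hb']; exact Nat.pos_of_dvd_of_pos (orderOf_map_dvd φ b') (orderOf_pos b')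
  set M := orderOf b' with hM
  have hM0 : 0 < M := orderOf_pos b'
  obtain ⟨u, hu⟩ := exists_pow_eq_self_of_coprime (x := b₀) (n := N ^ M)
    (Nat.Coprime.pow_left M hcop)
  refine ⟨(b' ^ N ^ M) ^ u, ?_, by rw [map_pow, map_pow, hb', hu], K₀,
    pow_mem (pow_mem hb'K _) _, fun ℓ hℓ hℓN hsq => ?_⟩
  · refine Nat.Coprime.coprime_dvd_right (orderOf_pow_dvd (x := b' ^ N ^ M) u) ?_
    have hN0 : 0 < N := by
      obtain ⟨x', rfl⟩ := hφ x
      exact hN ▸ Nat.pos_of_dvd_of_pos (orderOf_map_dvd φ x') (orderOf_pos x')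
    rw [orderOf_pow' _ (pow_ne_zero _ hN0.ne'), ← hM]
    refine Nat.coprime_of_dvd fun r hr hrN hrd => ?_
    set g := Nat.gcd M (N ^ M)
    have hMg : g * (M / g) = M := Nat.mul_div_cancel' (Nat.gcd_dvd_left _ _)
    have hv : r ^ (M.factorization r) ∣ g :=
      Nat.dvd_gcd (Nat.ordProj_dvd M r) ((pow_dvd_pow r (Nat.factorization_lt r hM0.ne').le).trans
        (pow_dvd_pow_of_dvd hrN M))
    refine Nat.pow_succ_factorization_not_dvd hM0.ne' hr ?_
    rw [pow_succ]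
    exact (mul_dvd_mul hv hrd).trans hMg.dvd
  haveI : Fact ℓ.Prime := ⟨hℓ⟩
  set xl := x ^ (N / ℓ) with hxl
  have hN0 : 0 < N := by
    obtain ⟨x', rfl⟩ := hφ x
    exact hN ▸ Nat.pos_of_dvd_of_pos (orderOf_map_dvd φ x') (orderOf_pos x')
  have hNl : N / ℓ ≠ 0 := (Nat.div_pos (Nat.le_of_dvd hN0 hℓN) hℓ.pos).ne'
  have hxlo : orderOf xl = ℓ := by
    rw [hxl, orderOf_pow' _ hNl, hN,
      Nat.gcd_eq_right (Nat.div_dvd_of_dvd hℓN), Nat.div_div_self hℓN hN0.ne']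
  let φ₀ : ↥K₀ →* A := φ.comp K₀.subtype
  set T : Subgroup ↥K₀ := (Subgroup.zpowers xl).comap φ₀ with hT
  haveI hTn : T.Normal := ⟨fun y hy g => by
    rw [hT, Subgroup.mem_comap] at hy ⊢
    rw [map_mul, map_mul, map_inv]
    obtain ⟨i, hi⟩ := hy
    obtain ⟨t, ht⟩ := (Subgroup.mem_normalizer_iff.1 (hKle g g.2) x).1 (Subgroup.mem_zpowers x)
    refine ⟨t * i, ?_⟩
    dsimp only at hi ht ⊢
    rw [← hi, ← conj_zpow, hxl, ← conj_pow, show φ₀ g * x * (φ₀ g)⁻¹ = x ^ t from ht.symm,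
      ← zpow_natCast, ← zpow_natCast, ← zpow_mul, ← zpow_mul, ← zpow_mul]
    ring_nf⟩
  let P : Sylow ℓ ↥T := default
  set P' : Subgroup ↥K₀ := (P : Subgroup ↥T).map T.subtype with hP'
  have hker : φ₀.ker ≤ T := fun y hy => by
    rw [hT, Subgroup.mem_comap, MonoidHom.mem_ker.1 hy]; exact one_mem _
  have hfr : Subgroup.normalizer (P' : Set ↥K₀) ⊔ T = ⊤ := Sylow.normalizer_sup_eq_top P
  obtain ⟨x', hx'K, hx'⟩ := hKx
  have hPne : ∃ y ∈ P', φ₀ y ≠ 1 := by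
    by_contra hall
    push Not at hall
    have hle : (P : Subgroup ↥T) ≤ (φ₀.comp T.subtype).ker := fun y hy =>
      MonoidHom.mem_ker.2 (hall _ ⟨y, hy, rfl⟩)
    have h1 : (φ₀.comp T.subtype).ker.index = ℓ := by
      rw [Subgroup.index_ker]
      have e : (φ₀.comp T.subtype).range = Subgroup.zpowers xl := by
        rw [MonoidHom.range_comp, Subgroup.range_subtype, hT, Subgroup.map_comap_eq,
          inf_eq_right]
        rw [Subgroup.zpowers_le]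
        exact ⟨(⟨x', hx'K⟩ : ↥K₀) ^ (N / ℓ), by
          rw [map_pow]; exact congrArg (· ^ (N / ℓ)) hx'⟩
      rw [e, Nat.card_zpowers, hxlo]
    refine P.not_dvd_index ?_
    have h2 := Subgroup.index_dvd_of_le hle
    rwa [h1] at h2
  have hsup : Subgroup.normalizer (P' : Set ↥K₀) ⊔ φ₀.ker = ⊤ := by
    rw [eq_top_iff, ← hfr, sup_le_iff]
    refine ⟨le_sup_left, ?_⟩
    intro y hy
    -- `T` is covered by `P'` and the kernel
    obtain ⟨z, hz, hzne⟩ := hPne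
    have hzT : z ∈ T := by obtain ⟨z, -, rfl⟩ := hz; exact z.2
    haveI : Finite ↥(Subgroup.zpowers xl) :=
      Nat.finite_of_card_ne_zero (by rw [Nat.card_zpowers, hxlo]; exact hℓ.ne_zero)
    have hgz : Subgroup.zpowers (φ₀ z) = Subgroup.zpowers xl := by
      rw [hT, Subgroup.mem_comap] at hzT
      refine Subgroup.eq_of_le_of_card_ge (Subgroup.zpowers_le.2 hzT) ?_
      rw [Nat.card_zpowers, Nat.card_zpowers, hxlo]
      have hd : orderOf (φ₀ z) ∣ ℓ := by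
        rw [← hxlo, ← Nat.card_zpowers xl, ← Subgroup.orderOf_mk (φ₀ z) hzT]
        exact orderOf_dvd_natCard _
      rcases (Nat.dvd_prime hℓ).1 hd with h | h
      · exact absurd (orderOf_eq_one_iff.1 h) hzne
      · exact h.ge
    rw [hT, Subgroup.mem_comap, ← hgz] at hy
    obtain ⟨i, hi⟩ := hy
    have e : y = z ^ i * (z ^ (-i) * y) := by rw [zpow_neg, mul_inv_cancel_left]
    rw [e]
    refine Subgroup.mul_mem_sup (zpow_mem (Subgroup.le_normalizer hz) i) ?_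
    rw [MonoidHom.mem_ker, map_mul, map_zpow, ← hi]
    simp
  have htop : Subgroup.normalizer (P' : Set ↥K₀) = ⊤ := by
    by_contra hne
    have hmapeq : (Subgroup.normalizer (P' : Set ↥K₀)).map φ₀ = K₀.map φ := by
      have h := congrArg (Subgroup.map φ₀) hsup
      rw [Subgroup.map_sup, (Subgroup.map_eq_bot_iff _).2 le_rfl, sup_bot_eq,
        ← MonoidHom.range_eq_map, MonoidHom.range_comp, Subgroup.range_subtype] at h
      exact h
    refine hmin ((Subgroup.normalizer (P' : Set ↥K₀)).map K₀.subtype)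
      ⟨fun g hg => hKle g (Subgroup.map_subtype_le _ hg), ?_, ?_⟩
      (lt_of_le_of_ne (Subgroup.map_subtype_le _) fun e => hne ?_)
    · rw [Subgroup.map_map, hmapeq]; exact ⟨x', hx'K, hx'⟩
    · rw [Subgroup.map_map, hmapeq]; exact ⟨b', hb'K, hb'⟩
    · refine Subgroup.map_injective K₀.subtype_injective ?_
      rw [e, ← MonoidHom.range_eq_map, Subgroup.range_subtype]
  refine ⟨P'.map K₀.subtype, Subgroup.map_subtype_le _,
    (P.2.map T.subtype).map K₀.subtype, ?_, ?_, ?_⟩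
  · rintro g hg _ ⟨y, hy, rfl⟩
    exact ⟨_, (Subgroup.mem_normalizer_iff.1 (htop.symm ▸ Subgroup.mem_top (⟨g, hg⟩ : ↥K₀)) y).1 hy,
      rfl⟩
  · rintro _ ⟨_, ⟨y, -, rfl⟩, rfl⟩
    exact y.2
  · obtain ⟨z, hz, hzne⟩ := hPne
    exact ⟨_, ⟨z, hz, rfl⟩, hzne⟩

/-- Lift of a single element of prime order. -/
theorem exists_lift_prime {φ : K →* A} (hφ : Function.Surjective φ) {x b₀ : A} {ℓ j : ℕ}
    (hℓ : ℓ.Prime) (hx : orderOf x = ℓ) (hcop : ℓ.Coprime (orderOf b₀))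
    (hbx : b₀ * x * b₀⁻¹ = x ^ j) :
    ∃ s b : K, orderOf s = ℓ ∧ b * s * b⁻¹ = s ^ j := by
  obtain ⟨b, hb, hφb, K₀, hbK, h⟩ := setup hφ hx hcop hbx
  obtain ⟨P, -, hP, hPn, himg, hne⟩ := h ℓ hℓ dvd_rfl
    fun h => absurd (Nat.le_of_dvd hℓ.pos h) (not_le.2 (lt_mul_self hℓ.one_lt))
  rw [Nat.div_self hℓ.pos, pow_one] at himg
  haveI : Fact ℓ.Prime := ⟨hℓ⟩
  obtain ⟨s, -, hs, hbs⟩ := exists_in_pgroup φ hb hP (hPn b hbK) hx himg hne (by rw [hφb]; exact hbx)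
  exact ⟨s, b, hs, hbs⟩

/-- Lift of an element whose order is the product of two primes. -/
theorem exists_lift_two {φ : K →* A} (hφ : Function.Surjective φ) {x b₀ : A} {ℓ₁ ℓ₂ j : ℕ}
    (h₁ : ℓ₁.Prime) (h₂ : ℓ₂.Prime) (hne : ℓ₁ ≠ ℓ₂) (hx : orderOf x = ℓ₁ * ℓ₂)
    (hcop : (ℓ₁ * ℓ₂).Coprime (orderOf b₀)) (hbx : b₀ * x * b₀⁻¹ = x ^ j) :
    ∃ s b : K, orderOf s = ℓ₁ * ℓ₂ ∧ b * s * b⁻¹ = s ^ j := by
  obtain ⟨b, hb, hφb, K₀, hbK, h⟩ := setup hφ hx hcop hbx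
  have key : ∀ {a c : ℕ}, a.Prime → c.Prime → a ≠ c → a * c = ℓ₁ * ℓ₂ →
      ∃ P : Subgroup K, P ≤ K₀ ∧ IsPGroup a P ∧ (∀ g ∈ K₀, ∀ y ∈ P, g * y * g⁻¹ ∈ P) ∧
        ∃ s ∈ P, orderOf s = a ∧ b * s * b⁻¹ = s ^ j := by
    intro a c ha hc hac hm
    obtain ⟨P, hPle, hP, hPn, himg, hne'⟩ := h a ha (hm ▸ dvd_mul_right a c) (fun hd => by
      rw [← hm, Nat.mul_dvd_mul_iff_left ha.pos] at hd
      exact hac ((Nat.prime_dvd_prime_iff_eq ha hc).1 hd))
    have hxa : orderOf (x ^ (ℓ₁ * ℓ₂ / a)) = a := by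
      rw [← hm, Nat.mul_div_cancel_left _ ha.pos, orderOf_pow' _ hc.ne_zero, hx, ← hm,
        Nat.gcd_eq_right (dvd_mul_left c a), Nat.mul_div_cancel _ hc.pos]
    have hbxa : φ b * x ^ (ℓ₁ * ℓ₂ / a) * (φ b)⁻¹ = (x ^ (ℓ₁ * ℓ₂ / a)) ^ j := by
      rw [hφb, ← conj_pow, hbx, ← pow_mul, ← pow_mul, mul_comm]
    haveI : Fact a.Prime := ⟨ha⟩
    exact ⟨P, hPle, hP, hPn, exists_in_pgroup φ
      (Nat.Coprime.coprime_dvd_left (hm ▸ dvd_mul_right a c) hb) hP (hPn b hbK) hxa himg hne'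
      hbxa⟩
  obtain ⟨P₁, hle₁, hp₁, hn₁, s₁, hs₁P, hs₁, hb₁⟩ := key h₁ h₂ hne rfl
  obtain ⟨P₂, hle₂, hp₂, hn₂, s₂, hs₂P, hs₂, hb₂⟩ := key h₂ h₁ hne.symm (mul_comm _ _)
  have hcomm : Commute s₁ s₂ := by
    haveI : Fact ℓ₁.Prime := ⟨h₁⟩
    haveI : Fact ℓ₂.Prime := ⟨h₂⟩
    have hd : Disjoint P₁ P₂ := IsPGroup.disjoint_of_ne ℓ₁ ℓ₂ hne P₁ P₂ hp₁ hp₂
    have m1 : s₁ * s₂ * s₁⁻¹ * s₂⁻¹ ∈ P₁ := by
      rw [show s₁ * s₂ * s₁⁻¹ * s₂⁻¹ = s₁ * (s₂ * s₁⁻¹ * s₂⁻¹) by group]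
      exact mul_mem hs₁P (hn₁ _ (hle₂ hs₂P) _ (inv_mem hs₁P))
    have m2 : s₁ * s₂ * s₁⁻¹ * s₂⁻¹ ∈ P₂ :=
      mul_mem (hn₂ _ (hle₁ hs₁P) _ hs₂P) (inv_mem hs₂P)
    have e := Subgroup.disjoint_def.1 hd m1 m2
    show s₁ * s₂ = s₂ * s₁
    rwa [mul_inv_eq_one, mul_inv_eq_iff_eq_mul] at e
  refine ⟨s₁ * s₂, b, ?_, ?_⟩
  · rw [hcomm.orderOf_mul_eq_mul_orderOf_of_coprime]
    · rw [hs₁, hs₂]
    · rw [hs₁, hs₂]; exact (Nat.coprime_primes h₁ h₂).2 hne
  · rw [hcomm.mul_pow, ← hb₁, ← hb₂]; group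

end Cfsg.Agent.AltSec.TorusLift
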