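import Cfsg.Agent.AltSec.TorusTest
import Cfsg.Agent.AltSec.TorusLift
import Cfsg.Agent.Chev.Functorial
import Mathlib.GroupTheory.Perm.ViaEmbedding
import Mathlib.GroupTheory.SpecificGroups.Alternating
import Mathlib.GroupTheory.Perm.Fin

/-!
Alternating sections of Chevalley groups excluded by the torus certificate.
-/

set_option autoImplicit false

namespace Cfsg.Agent.AltSec.TorusAlt

open Cfsg.Lie Cfsg.Agent.Chev Cfsg.Agent.Chev.SS Cfsg.Agent.AltSec.TorusTest
open scoped MatrixGroups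

universe u v

/-- The alternating group on fewer points inside the one on more. -/
noncomputable def embAlt {m r : ℕ} (h : m ≤ r) :
    alternatingGroup (Fin m) →* alternatingGroup (Fin r) :=
  ((Equiv.Perm.viaEmbeddingHom (Fin.castLEEmb h)).comp (alternatingGroup (Fin m)).subtype).codRestrict
    (alternatingGroup (Fin r)) fun σ => by
      classical
      rw [Equiv.Perm.mem_alternatingGroup]
      show Equiv.Perm.sign (Equiv.Perm.viaEmbedding (σ : Equiv.Perm (Fin m)) (Fin.castLEEmb h)) = 1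
      simp only [Equiv.Perm.viaEmbedding, Equiv.Perm.sign_extendDomain]
      exact Equiv.Perm.mem_alternatingGroup.1 σ.2

theorem embAlt_injective {m r : ℕ} (h : m ≤ r) : Function.Injective (embAlt h) := fun _ _ e =>
  Subtype.ext (Equiv.Perm.viaEmbeddingHom_injective _ (congrArg Subtype.val e))

variable {D : ChevalleyDatum}

theorem false_of_lift {F : Type u} [Field F] (hF : Facts.{u} D) (C : Alcove D)
    (hC : C.Valid) {rows : List (List ℤ)} {marks : List ℕ} (hrows : rowsOK D C rows marks = true)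
    (p : ℕ) [Fact p.Prime] [CharP F p] {N j : ℕ} {ps : List ℕ}
    (htest : test rows marks N j ps = true) (hN : 0 < N) (hps : ∀ l ∈ ps, 1 < l ∧ l ∣ N)
    (hNe : Int.gcd N C.e = 1) (hpN : ¬ p ∣ N) (hj : N.Coprime j)
    {s b : ↥(D.group F)} (hs : orderOf s = N) (hbs : b * s * b⁻¹ = s ^ j) : False := by
  let ι : ↥(D.group F) →* GL D.Idx (AlgebraicClosure F) :=
    (gmap D (algebraMap F (AlgebraicClosure F))).comp (D.group F).subtype
  have hι : Function.Injective ι :=
    (gmap_injective _).comp (D.group F).subtype_injective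
  have hmem : ∀ g : ↥(D.group F), ι g ∈ D.group (AlgebraicClosure F) := fun g =>
    gmap_mem_group hF hF _ g.2
  haveI : CharP (AlgebraicClosure F) p :=
    charP_of_injective_algebraMap (algebraMap F (AlgebraicClosure F)).injective p
  refine false_of_test hF C hC hrows p htest hN ?_ (fun l hl => (hps l hl).2) hNe hj
    (hmem s) (hmem b) ?_ (fun l hl h => ?_) ?_
  · exact fun h => hpN ((CharP.cast_eq_zero_iff _ p N).1 h)
  · rw [← map_pow, ← hs, pow_orderOf_eq_one, map_one]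
  · rw [← map_pow, ← map_one ι] at h
    obtain ⟨h1, h2⟩ := hps l hl
    have h3 := Nat.le_of_dvd (Nat.div_pos (Nat.le_of_dvd hN h2) (by omega))
      (hs ▸ orderOf_dvd_of_pow_eq_one (hι h))
    exact absurd (Nat.div_lt_self hN h1) (not_lt.2 h3)
  · rw [← map_inv, ← map_mul, ← map_mul, hbs, map_pow]

/-- A prime order element of an alternating group with a conjugating element gives a contradiction. -/
theorem false_of_prime {F : Type u} [Field F] [Finite F] (hF : Facts.{u} D) (C : Alcove D)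
    (hC : C.Valid) {rows : List (List ℤ)} {marks : List ℕ} (hrows : rowsOK D C rows marks = true)
    (p : ℕ) [Fact p.Prime] [CharP F p] {ℓ j : ℕ} (hℓ : ℓ.Prime)
    (htest : test rows marks ℓ j [ℓ] = true) (hNe : Int.gcd ℓ C.e = 1) (hp : p ≠ ℓ)
    (hj : ℓ.Coprime j) {r m : ℕ} (hmr : m ≤ r) (x b₀ : alternatingGroup (Fin m))
    (hx : orderOf x = ℓ) (hb : ℓ.Coprime (orderOf b₀)) (hbx : b₀ * x * b₀⁻¹ = x ^ j)
    (H : Subgroup ↥(D.group F)) (K : Subgroup ↥H) [K.Normal]
    (h : Nonempty (↥H ⧸ K ≃* ↥(alternatingGroup (Fin r)))) : False := by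
  obtain ⟨f⟩ := h
  have hφ : Function.Surjective (f.toMonoidHom.comp (QuotientGroup.mk' K)) :=
    f.surjective.comp (QuotientGroup.mk'_surjective K)
  obtain ⟨s, b, hs, hbs⟩ := TorusLift.exists_lift_prime hφ (x := embAlt hmr x)
    (b₀ := embAlt hmr b₀) hℓ (by rw [orderOf_injective _ (embAlt_injective hmr), hx])
    (by rw [orderOf_injective _ (embAlt_injective hmr)]; exact hb)
    (by rw [← map_inv, ← map_mul, ← map_mul, hbx, map_pow])
  exact false_of_lift hF C hC hrows p htest hℓ.pos (ps := [ℓ])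
    (fun l hl => by rw [List.mem_singleton] at hl; subst hl; exact ⟨hℓ.one_lt, dvd_rfl⟩) hNe
    (fun h => hp ((Nat.prime_dvd_prime_iff_eq Fact.out hℓ).1 h)) hj (s := (s : ↥(D.group F)))
    (b := (b : ↥(D.group F))) (by rw [Subgroup.orderOf_coe, hs]) (congrArg Subtype.val hbs)

/-- The same for an element whose order is a product of two primes. -/
theorem false_of_two {F : Type u} [Field F] [Finite F] (hF : Facts.{u} D) (C : Alcove D)
    (hC : C.Valid) {rows : List (List ℤ)} {marks : List ℕ} (hrows : rowsOK D C rows marks = true)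
    (p : ℕ) [Fact p.Prime] [CharP F p] {ℓ₁ ℓ₂ j : ℕ} (h₁ : ℓ₁.Prime) (h₂ : ℓ₂.Prime)
    (hne : ℓ₁ ≠ ℓ₂) (htest : test rows marks (ℓ₁ * ℓ₂) j [ℓ₁, ℓ₂] = true)
    (hNe : Int.gcd (ℓ₁ * ℓ₂ : ℕ) C.e = 1) (hp : p ≠ ℓ₁ ∧ p ≠ ℓ₂) (hj : (ℓ₁ * ℓ₂).Coprime j)
    {r m : ℕ} (hmr : m ≤ r) (x b₀ : alternatingGroup (Fin m)) (hx : orderOf x = ℓ₁ * ℓ₂)
    (hb : (ℓ₁ * ℓ₂).Coprime (orderOf b₀)) (hbx : b₀ * x * b₀⁻¹ = x ^ j)
    (H : Subgroup ↥(D.group F)) (K : Subgroup ↥H) [K.Normal]
    (h : Nonempty (↥H ⧸ K ≃* ↥(alternatingGroup (Fin r)))) : False := by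
  obtain ⟨f⟩ := h
  have hφ : Function.Surjective (f.toMonoidHom.comp (QuotientGroup.mk' K)) :=
    f.surjective.comp (QuotientGroup.mk'_surjective K)
  obtain ⟨s, b, hs, hbs⟩ := TorusLift.exists_lift_two hφ (x := embAlt hmr x)
    (b₀ := embAlt hmr b₀) h₁ h₂ hne (by rw [orderOf_injective _ (embAlt_injective hmr), hx])
    (by rw [orderOf_injective _ (embAlt_injective hmr)]; exact hb)
    (by rw [← map_inv, ← map_mul, ← map_mul, hbx, map_pow])
  refine false_of_lift hF C hC hrows p htest (Nat.mul_pos h₁.pos h₂.pos) (ps := [ℓ₁, ℓ₂])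
    (fun l hl => ?_) hNe (fun hd => ?_) hj (s := (s : ↥(D.group F)))
    (b := (b : ↥(D.group F))) (by rw [Subgroup.orderOf_coe, hs]) (congrArg Subtype.val hbs)
  · simp only [List.mem_cons, List.not_mem_nil, or_false] at hl
    rcases hl with rfl | rfl
    exacts [⟨h₁.one_lt, dvd_mul_right _ _⟩, ⟨h₂.one_lt, dvd_mul_left _ _⟩]
  · rcases (Fact.out : p.Prime).dvd_mul.1 hd with h | h
    · exact hp.1 ((Nat.prime_dvd_prime_iff_eq Fact.out h₁).1 h)
    · exact hp.2 ((Nat.prime_dvd_prime_iff_eq Fact.out h₂).1 h)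

/-- A permutation given by a function and its inverse, as an element of the alternating group. -/
def mkAlt {m : ℕ} (f g : Fin m → Fin m) (h₁ : ∀ i, g (f i) = i) (h₂ : ∀ i, f (g i) = i)
    (hs : Equiv.Perm.sign (⟨f, g, h₁, h₂⟩ : Equiv.Perm (Fin m)) = 1) : alternatingGroup (Fin m) :=
  ⟨⟨f, g, h₁, h₂⟩, Equiv.Perm.mem_alternatingGroup.2 hs⟩

end Cfsg.Agent.AltSec.TorusAlt
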