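import Cfsg.Agent.AltSec.D4TwistFix
import Cfsg.Agent.AltSec.TorusLift
import Cfsg.Agent.AltSec.TorusAlt
import Mathlib.GroupTheory.SpecificGroups.Alternating.Simple

/-!
`Alt(8)` is not a section of `³D₄` in characteristic five.
-/

set_option autoImplicit false
set_option maxRecDepth 100000

namespace Cfsg.Agent.AltSec.D4Eight

open Cfsg.Lie Cfsg.Agent.Chev Cfsg.Agent.AltSec.D4Twist
open scoped MatrixGroups

universe u v

theorem alt8_simple : IsSimpleGroup (alternatingGroup (Fin 8)) :=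
  alternatingGroup.isSimpleGroup (by simp)

theorem card_alt8 : Nat.card (alternatingGroup (Fin 8)) = 20160 := by
  haveI : Nontrivial (Fin 8) := inferInstance
  rw [nat_card_alternatingGroup, Nat.card_eq_fintype_card, Fintype.card_fin]
  decide +kernel

/-- The sum of two indices of the elementary abelian group of order 16. -/
def eAdd (a b : Fin 16) : Fin 16 := ⟨(a : ℕ) ^^^ (b : ℕ), Nat.xor_lt_two_pow (n := 4) a.2 b.2⟩

/-- The action of an index: translations of `{0, 1, 2, 3}` and of `{4, 5, 6, 7}`. -/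
def eFun (a : Fin 16) (i : Fin 8) : Fin 8 :=
  if (i : ℕ) < 4 then Fin.ofNat 8 ((i : ℕ) ^^^ ((a : ℕ) % 4))
  else Fin.ofNat 8 (4 + (((i : ℕ) - 4) ^^^ ((a : ℕ) / 4)))

theorem eFun_self : ∀ a : Fin 16, ∀ i : Fin 8, eFun a (eFun a i) = i := by decide +kernel

theorem eFun_add : ∀ a b : Fin 16, ∀ i : Fin 8,
    eFun a (eFun b i) = eFun (eAdd a b) i ∧ eFun a (eFun b i) = eFun b (eFun a i) := by
  decide +kernel

theorem eFun_sep : ∀ a b : Fin 16, (∀ i : Fin 8, eFun a i = eFun b i) → a = b := by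
  decide +kernel

/-- The permutation of an index. -/
def ePerm (a : Fin 16) : Equiv.Perm (Fin 8) := ⟨eFun a, eFun a, eFun_self a, eFun_self a⟩

theorem ePerm_sign : ∀ a : Fin 16, Equiv.Perm.sign (ePerm a) = 1 := by decide +kernel

/-- The elementary abelian group of order 16 in `Alt(8)`. -/
theorem exists_sixteen : ∃ E : Subgroup (alternatingGroup (Fin 8)), Nat.card ↥E = 16 ∧
    ∀ x ∈ E, x * x = 1 ∧ ∀ y ∈ E, x * y = y * x := by
  let g : Fin 16 → alternatingGroup (Fin 8) := fun a =>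
    ⟨ePerm a, Equiv.Perm.mem_alternatingGroup.2 (ePerm_sign a)⟩
  have hmul : ∀ a b, g a * g b = g (eAdd a b) := fun a b =>
    Subtype.ext (Equiv.ext fun i => (eFun_add a b i).1)
  have hcomm : ∀ a b, g a * g b = g b * g a := fun a b =>
    Subtype.ext (Equiv.ext fun i => (eFun_add a b i).2)
  have hsq : ∀ a, g a * g a = 1 := fun a => Subtype.ext (Equiv.ext fun i => eFun_self a i)
  have hinj : Function.Injective g := fun a b h =>
    eFun_sep a b fun i => congrArg (fun x : alternatingGroup (Fin 8) =>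
      (x : Equiv.Perm (Fin 8)) i) h
  let E : Subgroup (alternatingGroup (Fin 8)) :=
    { carrier := Set.range g
      one_mem' := ⟨eAdd 0 0, by rw [← hmul, hsq]⟩
      mul_mem' := by
        rintro _ _ ⟨a, rfl⟩ ⟨b, rfl⟩
        exact ⟨_, (hmul a b).symm⟩
      inv_mem' := by
        rintro _ ⟨a, rfl⟩
        exact ⟨a, (inv_eq_of_mul_eq_one_right (hsq a)).symm⟩ }
  refine ⟨E, ?_, ?_⟩
  · show Nat.card ↥(Set.range g) = 16
    rw [Nat.card_range_of_injective hinj, Nat.card_eq_fintype_card, Fintype.card_fin]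
  · rintro _ ⟨a, rfl⟩
    exact ⟨hsq a, by rintro _ ⟨b, rfl⟩; exact hcomm a b⟩

/-- Automorphisms permute the non-identity elements. -/
def autPerm (A : Type v) [Group A] : MulAut A →* Equiv.Perm {x : A // x ≠ 1} where
  toFun e :=
    { toFun := fun x => ⟨e x, fun h => x.2 (e.injective (h.trans (map_one e).symm))⟩
      invFun := fun x => ⟨e.symm x, fun h => x.2 (e.symm.injective (h.trans (map_one e.symm).symm))⟩
      left_inv := fun x => Subtype.ext (e.symm_apply_apply x)
      right_inv := fun x => Subtype.ext (e.apply_symm_apply x) }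
  map_one' := rfl
  map_mul' _ _ := rfl

theorem conj_eq_of_autPerm {A : Type v} [Group A] {V : Subgroup A} [V.Normal] {g z : A}
    (hz : z ∈ V) (hz1 : z ≠ 1)
    (h : autPerm ↥V (MulAut.conjNormal g) = 1) : g * z * g⁻¹ = z := by
  have h' := congrArg (fun e : Equiv.Perm {x : ↥V // x ≠ 1} =>
    (((e ⟨⟨z, hz⟩, fun e' => hz1 (congrArg Subtype.val e')⟩ : {x : ↥V // x ≠ 1}) : ↥V) : A)) h
  exact ((MulAut.conjNormal_apply g (⟨z, hz⟩ : ↥V)).symm.trans h' : _)

/-- A 7-cycle in eight points. -/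
def x7 : alternatingGroup (Fin 8) :=
  TorusAlt.mkAlt
    (fun i => if (i : ℕ) < 7 then ⟨((i : ℕ) + 1) % 7, by omega⟩ else i)
    (fun i => if (i : ℕ) < 7 then ⟨((i : ℕ) + 6) % 7, by omega⟩ else i) (by decide) (by decide)
    (by decide +kernel)

/-- An element squaring the 7-cycle. -/
def b7 : alternatingGroup (Fin 8) :=
  TorusAlt.mkAlt
    (fun i => if (i : ℕ) < 7 then ⟨(2 * (i : ℕ)) % 7, by omega⟩ else i)
    (fun i => if (i : ℕ) < 7 then ⟨(4 * (i : ℕ)) % 7, by omega⟩ else i) (by decide) (by decide)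
    (by decide +kernel)

theorem orderOf_x7 : orderOf x7 = 7 := by
  haveI : Fact (Nat.Prime 7) := ⟨by norm_num⟩
  exact orderOf_eq_prime (by decide +kernel) (by decide +kernel)

theorem units_fourteen : ∀ r < 14, Nat.Coprime 14 r →
    ∃ e, e < 3 ∧ (r = 9 ^ e % 14 ∨ r = (14 - 1) * 9 ^ e % 14) := by
  decide +kernel

theorem crt_spec : ∀ a : Fin 14, (a : ℕ) = crt ((a : ℕ) % 2) ((a : ℕ) % 7) := by
  decide +kernel

theorem rval_zero_seven : ∀ r : Fin 24, rval 7 ![0, 0, 0, 0] r = 0 := by decide +kernel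

/-- An element of order 14 fixed by the twisted Frobenius and conjugate to its ninth power has
trivial square or trivial seventh power. -/
theorem fourteen {k : Type u} [Field k] [IsAlgClosed k] [CharP k 5] (q : ℕ) (σ : k →+* k)
    (hσ : ∀ t, σ t = t ^ q) (hq : Nat.Coprime 14 q) {x b : GL chevD4.Idx k}
    (hx : x ∈ chevD4.group k) (hb : b ∈ chevD4.group k) (h14 : x ^ 14 = 1)
    (hfix : D4Torus.frob σ x = x) (hbx : b * x * b⁻¹ = x ^ 9) : x ^ 2 = 1 ∨ x ^ 7 = 1 := by
  haveI : Fact (Nat.Prime 5) := ⟨by norm_num⟩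
  have h14k : ((14 : ℕ) : k) ≠ 0 := fun h => by
    have := (CharP.cast_eq_zero_iff k 5 14).1 h
    omega
  have hq' : Nat.Coprime 14 (q % 14) := by
    rw [Nat.Coprime, Nat.gcd_comm, ← Nat.gcd_rec]; exact hq
  obtain ⟨e, -, he⟩ := units_fourteen (q % 14) (Nat.mod_lt _ (by norm_num)) hq'
  obtain ⟨a, ζ, y, c, ha, hadm, hζ, hy, hc, hval⟩ := exists_point 5 q σ hσ (N := 14) (j := 9)
    (by norm_num) h14k (by decide) ⟨e, he⟩ hx hb h14 hfix hbx
  have hζ7 : IsPrimitiveRoot (ζ ^ 7) 2 := hζ.pow (by norm_num) (by norm_num)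
  have hval2 : ∀ r : Fin 24, chiU (c ^ 7) (r : ℕ) = (ζ ^ 7) ^ rval 2 (fun i => a i % 2) r := by
    intro r
    rw [TorusTest.chiU_pow', hval, ← rval_mod (show 2 ∣ 14 by norm_num) (by norm_num) a r,
      ← pow_eq_pow_mod _ hζ7.pow_eq_one, ← pow_mul, ← pow_mul, mul_comm]
  have hc7 : y * x ^ 7 * y⁻¹ = torusHom (c ^ 7) := by rw [map_pow, ← hc, conj_pow]
  have hadm2 := admissible_of q σ hσ (N := 2) (j := 1) (by norm_num) (by decide)
    ⟨0, Or.inl (by
      simp [Nat.odd_iff.1 (Nat.coprime_two_left.1 (hq.coprime_dvd_left (by norm_num)))])⟩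
    (Subgroup.one_mem _) hy (by rw [map_pow, hfix]) (by group) hc7 hζ7 hval2
  have hvec : ![((⟨a 0 % 2, Nat.mod_lt _ two_pos⟩ : Fin 2) : ℕ),
      ((⟨a 1 % 2, Nat.mod_lt _ two_pos⟩ : Fin 2) : ℕ),
      ((⟨a 2 % 2, Nat.mod_lt _ two_pos⟩ : Fin 2) : ℕ),
      ((⟨a 3 % 2, Nat.mod_lt _ two_pos⟩ : Fin 2) : ℕ)] = fun i => a i % 2 := by
    funext i; fin_cases i <;> rfl
  have hkill : ∀ n : ℕ, (∀ r : Fin 24, chiU (c ^ n) (r : ℕ) = 1) → x ^ n = 1 := by
    intro n h
    have h1 : torusHom (c ^ n) = (1 : GL chevD4.Idx k) := (torusHom_eq_one_iff _).2 h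
    rw [map_pow, ← hc, conj_pow, mul_inv_eq_one, mul_eq_left] at h1
    exact h1
  rcases two_check _ _ _ _ (by rw [hvec]; exact hadm2) with ⟨h0, h1, h2, h3⟩ | ⟨-, hmem⟩
  · right
    refine hkill 7 fun r => ?_
    rw [hval2 r, show (fun i => a i % 2) = ![0, 0, 0, 0] by
      funext i
      fin_cases i
      exacts [congrArg Fin.val h0, congrArg Fin.val h1, congrArg Fin.val h2, congrArg Fin.val h3],
      rval_zero, pow_zero]
  · left
    have hchk : check14 (a 0 % 2) (a 1 % 2) (a 2 % 2) (a 3 % 2) = true := by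
      simp only [List.cons.injEq, and_true] at hmem
      rcases hmem with ⟨e0, e1, e2, e3⟩ | ⟨e0, e1, e2, e3⟩ | ⟨e0, e1, e2, e3⟩ <;>
        rw [e0, e1, e2, e3]
      exacts [check14_a, check14_b, check14_c]
    simp only [check14, List.all_eq_true, List.mem_range] at hchk
    have h7 := hchk (a 0 % 7) (Nat.mod_lt _ (by norm_num)) (a 1 % 7) (Nat.mod_lt _ (by norm_num))
      (a 2 % 7) (Nat.mod_lt _ (by norm_num)) (a 3 % 7) (Nat.mod_lt _ (by norm_num))
    have hcrt : ![crt (a 0 % 2) (a 0 % 7), crt (a 1 % 2) (a 1 % 7), crt (a 2 % 2) (a 2 % 7),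
        crt (a 3 % 2) (a 3 % 7)] = a := by
      funext i
      fin_cases i
      exacts [(crt_spec ⟨_, ha 0⟩).symm, (crt_spec ⟨_, ha 1⟩).symm, (crt_spec ⟨_, ha 2⟩).symm,
        (crt_spec ⟨_, ha 3⟩).symm]
    rw [hcrt, hadm] at h7
    simp only [Bool.not_true, Bool.or_false, Bool.and_eq_true, beq_iff_eq] at h7
    refine hkill 2 fun r => ?_
    have h := rval_mod (show 7 ∣ 14 by norm_num) (by norm_num) a r
    rw [show (fun i => a i % 7) = ![0, 0, 0, 0] by
      funext i; fin_cases i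
      exacts [h7.1.1.1, h7.1.1.2, h7.1.2, h7.2], rval_zero_seven] at h
    obtain ⟨m, hm⟩ := Nat.dvd_of_mod_eq_zero h
    rw [TorusTest.chiU_pow', hval, ← pow_mul, hm, show 7 * m * 2 = 14 * m by ring, pow_mul,
      hζ.pow_eq_one, one_pow]

/-- A minimal preimage of `Alt(8)` does not embed. -/
theorem core {F : Type u} [Field F] [Fintype F] [CharP F 5] (a : ℕ) (ha : 1 ≤ a)
    (hF : Fintype.card F = (5 ^ a) ^ 3) {K : Type u} [Group K] [Finite K]
    (jK : K →* ↥(twistedD4 F (5 ^ a))) (hj : Function.Injective jK)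
    (φK : K →* alternatingGroup (Fin 8)) (hsur : Function.Surjective φK)
    (hmin' : ∀ L : Subgroup K, L.map φK = ⊤ → L = ⊤) : False := by
  classical
  haveI := alt8_simple
  haveI : Fact (Nat.Prime 5) := ⟨by norm_num⟩
  set N := φK.ker with hN
  haveI : Fact (Nat.Prime 2) := ⟨Nat.prime_two⟩
  by_cases h2N : 2 ∣ Nat.card ↥N
  · -- a central involution
    let P₀ : Sylow 2 ↥N := default
    set P := (P₀ : Subgroup ↥N).map N.subtype with hP
    have hPn : Subgroup.normalizer (P : Set K) = ⊤ := hmin' _ (by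
      have h := congrArg (Subgroup.map φK) (Sylow.normalizer_sup_eq_top P₀)
      rwa [Subgroup.map_sup, (Subgroup.map_eq_bot_iff N).2 (le_refl N), sup_bot_eq,
        ← MonoidHom.range_eq_map, MonoidHom.range_eq_top.2 hsur] at h)
    haveI hPN : P.Normal := Subgroup.normalizer_eq_top_iff.1 hPn
    let V : Subgroup K :=
      { carrier := {x | x ∈ P ∧ (∀ y ∈ P, x * y = y * x) ∧ x * x = 1}
        one_mem' := ⟨one_mem _, fun y _ => by rw [one_mul, mul_one], one_mul 1⟩
        mul_mem' := fun {a b} ha hb => ⟨mul_mem ha.1 hb.1, fun y hy => by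
            rw [mul_assoc, hb.2.1 y hy, ← mul_assoc, ha.2.1 y hy, mul_assoc],
          by rw [mul_assoc, ← mul_assoc b, hb.2.1 a ha.1, mul_assoc a b b, hb.2.2, mul_one, ha.2.2]⟩
        inv_mem' := fun {a} ha => by
          rw [inv_eq_of_mul_eq_one_right ha.2.2]; exact ha }
    haveI hVn : V.Normal := ⟨fun x hx g => ⟨hPN.conj_mem x hx.1 g, fun y hy => by
        have h := hx.2.1 _ (hPN.conj_mem y hy g⁻¹)
        rw [inv_inv] at h
        calc g * x * g⁻¹ * y = g * (x * (g⁻¹ * y * g)) * g⁻¹ := by group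
          _ = g * (g⁻¹ * y * g * x) * g⁻¹ := by rw [h]
          _ = y * (g * x * g⁻¹) := by group,
      by rw [show g * x * g⁻¹ * (g * x * g⁻¹) = g * (x * x) * g⁻¹ by group, hx.2.2, mul_one,
        mul_inv_cancel]⟩⟩
    -- `V` is small
    have hVcard : Nat.card ↥V < 16 := by
      rw [← Subgroup.card_map_of_injective (K := V) (f := jK) hj]
      refine card_elementary 5 a ha hF (by norm_num) _ ?_ ?_
      · rintro _ ⟨x, hx, rfl⟩; rw [← map_mul, hx.2.2, map_one]
      · rintro _ ⟨x, hx, rfl⟩ _ ⟨y, hy, rfl⟩; rw [← map_mul, ← map_mul, hx.2.1 y hy.1]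
    have hV8 : Nat.card ↥V ≤ 8 := by
      have hp : IsPGroup 2 ↥V := fun x => ⟨1, by
        rw [pow_one, pow_two]; exact Subtype.ext x.2.2.2⟩
      obtain ⟨n, hn⟩ := IsPGroup.iff_card.1 hp
      rw [hn] at hVcard ⊢
      rw [show (16 : ℕ) = 2 ^ 4 from rfl] at hVcard
      have := (Nat.pow_lt_pow_iff_right (by norm_num)).1 hVcard
      calc 2 ^ n ≤ 2 ^ 3 := Nat.pow_le_pow_right (by norm_num) (by omega)
        _ = 8 := rfl
    -- the conjugation action is trivial
    let ψ : K →* Equiv.Perm {x : ↥V // x ≠ 1} :=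
      (autPerm ↥V).comp (MulAut.conjNormal (H := V))
    have hψ : ψ.ker = ⊤ := by
      haveI : (ψ.ker.map φK).Normal := Subgroup.Normal.map inferInstance φK hsur
      rcases IsSimpleGroup.eq_bot_or_eq_top_of_normal (ψ.ker.map φK) inferInstance with h | h
      · exfalso
        have hle : ψ.ker ≤ φK.ker := (Subgroup.map_eq_bot_iff _).1 h
        have hdvd : φK.ker.index ≤ ψ.ker.index :=
          Nat.le_of_dvd (Nat.pos_of_ne_zero Subgroup.index_ne_zero_of_finite)
            (Subgroup.index_dvd_of_le hle)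
        rw [Subgroup.index_ker, Subgroup.index_ker, MonoidHom.range_eq_top.2 hsur,
          Subgroup.card_top, card_alt8] at hdvd
        have h7 : Nat.card (Equiv.Perm {x : ↥V // x ≠ 1}) ≤ Nat.factorial 7 := by
          rw [Nat.card_perm]
          refine Nat.factorial_le ?_
          have e := Nat.card_congr (Equiv.optionSubtypeNe (1 : ↥V))
          rw [Finite.card_option] at e
          omega
        have := le_trans hdvd (le_trans (Nat.card_le_card_of_injective _
          ψ.range.subtype_injective) h7)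
        exact absurd this (by decide +kernel)
      · exact hmin' _ h
    obtain ⟨z, hzV, hz1⟩ : ∃ z ∈ V, z ≠ 1 := by
      have hPpg : IsPGroup 2 ↥P := P₀.2.map N.subtype
      haveI : Nontrivial ↥P := by
        rw [← Finite.one_lt_card_iff_nontrivial, hP,
          ← Nat.card_congr ((P₀ : Subgroup ↥N).equivMapOfInjective _ N.subtype_injective).toEquiv,
          P₀.card_eq_multiplicity]
        refine Nat.one_lt_pow ?_ (by norm_num)
        exact (Nat.Prime.factorization_pos_of_dvd Nat.prime_two Nat.card_pos.ne' h2N).ne'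
      haveI := hPpg.center_nontrivial
      obtain ⟨c, hc⟩ := exists_prime_orderOf_dvd_card' 2 (G := ↥(Subgroup.center ↥P)) (by
        obtain ⟨n, hn⟩ := IsPGroup.iff_card.1 (hPpg.to_subgroup (Subgroup.center ↥P))
        rw [hn]
        refine dvd_pow_self 2 fun h0 => ?_
        subst h0
        rw [pow_zero] at hn
        exact absurd hn (Nat.ne_of_gt Finite.one_lt_card))
      refine ⟨((c : ↥P) : K), ⟨(c : ↥P).2, fun y hy => ?_, ?_⟩, fun e => ?_⟩
      · exact congrArg Subtype.val (Subgroup.mem_center_iff.1 c.2 ⟨y, hy⟩).symm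
      · have h := pow_orderOf_eq_one c
        rw [hc, pow_two] at h
        exact congrArg (fun x : ↥(Subgroup.center ↥P) => ((x : ↥P) : K)) h
      · rw [show c = 1 from Subtype.ext (Subtype.ext e), orderOf_one] at hc
        norm_num at hc
    have hcentral : ∀ g : K, g * z * g⁻¹ = z := fun g =>
      conj_eq_of_autPerm hzV hz1 (MonoidHom.mem_ker.1 (hψ ▸ Subgroup.mem_top g : g ∈ ψ.ker))
    -- an element of order 14
    obtain ⟨s, b, hs, hbs⟩ := TorusLift.exists_lift_prime hsur (x := x7) (b₀ := b7) (j := 2)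
      (show Nat.Prime 7 by norm_num) orderOf_x7
      (Nat.Coprime.coprime_dvd_right (orderOf_dvd_of_pow_eq_one (n := 3) (by decide +kernel))
        (by norm_num))
      (by decide +kernel)
    obtain ⟨σ, ι, hσ, hι, hmem, hfix⟩ := exists_frob_fix 5 a ha hF
    haveI : CharP (AlgebraicClosure F) 5 :=
      charP_of_injective_algebraMap (algebraMap F (AlgebraicClosure F)).injective 5
    set τ := ι.comp jK with hτ
    have hτinj : Function.Injective τ := hι.comp hj
    have hzc : ∀ g : K, Commute z g := fun g =>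
      (mul_inv_eq_iff_eq_mul.1 (hcentral g)).symm
    have hz2 : z ^ 2 = 1 := by rw [pow_two]; exact hzV.2.2
    have hs7 : s ^ 7 = 1 := hs ▸ pow_orderOf_eq_one s
    have h14 : (z * s) ^ 14 = 1 := by
      rw [(hzc s).mul_pow, show (14 : ℕ) = 2 * 7 from rfl, pow_mul, hz2, one_pow, one_mul,
        mul_comm 2 7, pow_mul, hs7, one_pow]
    have hb9 : b * (z * s) * b⁻¹ = (z * s) ^ 9 := by
      rw [(hzc s).mul_pow, show (9 : ℕ) = 2 * 4 + 1 from rfl, pow_succ, pow_mul, hz2, one_pow,
        one_mul, show 2 * 4 + 1 = 7 + 2 from rfl, pow_add, hs7, one_mul, ← hbs, ← mul_assoc,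
        ← mul_assoc, ← mul_assoc, ← (hzc b).eq]
    rcases fourteen (5 ^ a) σ hσ (Nat.Coprime.pow_right _ (by norm_num)) (hmem (jK (z * s)))
      (hmem (jK b)) (by show τ (z * s) ^ 14 = 1; rw [← map_pow, h14, map_one])
      (hfix (jK (z * s))) (by
        show τ b * τ (z * s) * (τ b)⁻¹ = τ (z * s) ^ 9
        rw [← map_inv, ← map_mul, ← map_mul, hb9, map_pow]) with h | h
    · have h' : (z * s) ^ 2 = 1 := hτinj (by rw [map_pow, map_one]; exact h)
      rw [(hzc s).mul_pow, hz2, one_mul] at h'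
      have := Nat.le_of_dvd two_pos (hs ▸ orderOf_dvd_of_pow_eq_one h')
      omega
    · have h' : (z * s) ^ 7 = 1 := hτinj (by rw [map_pow, map_one]; exact h)
      rw [(hzc s).mul_pow, hs7, mul_one, show (7 : ℕ) = 2 * 3 + 1 from rfl, pow_succ, pow_mul, hz2,
        one_pow, one_mul] at h'
      exact hz1 h'
  · -- an elementary abelian subgroup of order 16 lifts
    obtain ⟨E, hE16, hE⟩ := exists_sixteen
    set T := E.comap φK with hT
    let S₀ : Sylow 2 ↥T := default
    set j : ↥T →* ↥(twistedD4 F (5 ^ a)) := jK.comp T.subtype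
    have hjinj : Function.Injective j :=
      hj.comp T.subtype_injective
    set φT : ↥T →* alternatingGroup (Fin 8) := φK.comp T.subtype
    have hker : φT.ker = N.subgroupOf T := rfl
    have hinj : ∀ x ∈ (S₀ : Subgroup ↥T), φT x = 1 → x = 1 := by
      intro x hx e
      have h1 : orderOf x ∣ Nat.card ↥N := by
        have hxN : (x : K) ∈ N := MonoidHom.mem_ker.2 e
        rw [← Subgroup.orderOf_coe x, ← Subgroup.orderOf_mk (x : K) hxN]
        exact orderOf_dvd_natCard _
      obtain ⟨n, hn⟩ := IsPGroup.iff_orderOf.1 S₀.2 ⟨x, hx⟩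
      rw [Subgroup.orderOf_mk] at hn
      rcases n with _ | n
      · exact orderOf_eq_one_iff.1 hn
      · exact absurd ((dvd_pow_self 2 (Nat.succ_ne_zero n)).trans (hn ▸ h1)) h2N
    have hcard : 16 ≤ Nat.card ↥(S₀ : Subgroup ↥T) := by
      have hrange : φT.range = E := by
        rw [MonoidHom.range_comp, Subgroup.range_subtype, hT,
          Subgroup.map_comap_eq_self_of_surjective hsur]
      have h16 : 2 ^ 4 ∣ Nat.card ↥(S₀ : Subgroup ↥T) := by
        refine S₀.pow_dvd_card_of_pow_dvd_card ?_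
        have h := Subgroup.card_range_dvd φT
        rw [hrange, hE16] at h
        exact h
      exact Nat.le_of_dvd Nat.card_pos h16
    refine absurd (card_elementary 5 a ha hF (by norm_num) ((S₀ : Subgroup ↥T).map j) ?_ ?_) ?_
    · rintro _ ⟨x, hx, rfl⟩
      rw [← map_mul, hinj (x * x) (mul_mem hx hx) (by rw [map_mul]; exact (hE _ x.2).1), map_one]
    · rintro _ ⟨x, hx, rfl⟩ _ ⟨y, hy, rfl⟩
      have e : x * y * (y * x)⁻¹ = 1 := hinj _ (mul_mem (mul_mem hx hy) (inv_mem (mul_mem hy hx))) (by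
        rw [map_mul, map_mul, map_inv, map_mul, mul_inv_eq_one]
        exact (hE _ x.2).2 _ y.2)
      rw [← map_mul, ← map_mul, mul_inv_eq_one.1 e]
    · rw [not_lt, ← Nat.card_congr ((S₀ : Subgroup ↥T).equivMapOfInjective j hjinj).toEquiv]
      exact hcard

/-- No subgroup of `³D₄` in characteristic five has `Alt(8)` as a quotient. -/
theorem not_alt8 {F : Type u} [Field F] [Fintype F] [CharP F 5] (a : ℕ) (ha : 1 ≤ a)
    (hF : Fintype.card F = (5 ^ a) ^ 3) (H : Subgroup ↥(twistedD4 F (5 ^ a)))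
    (φ : ↥H →* alternatingGroup (Fin 8)) (hφ : Function.Surjective φ) : False := by
  classical
  obtain ⟨K, hK, hmin⟩ := wellFounded_lt.has_min {K : Subgroup ↥H | K.map φ = ⊤}
    ⟨⊤, by rw [Set.mem_setOf_eq, ← MonoidHom.range_eq_map]
           exact MonoidHom.range_eq_top.2 hφ⟩
  refine core a ha hF (H.subtype.comp K.subtype)
    (H.subtype_injective.comp K.subtype_injective)
    (φ.comp K.subtype) (fun x => ?_) (fun L hL => ?_)
  · obtain ⟨w, hw, e⟩ : x ∈ K.map φ := hK.symm ▸ trivial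
    exact ⟨⟨w, hw⟩, e⟩
  · by_contra hne
    refine hmin (L.map K.subtype) (by rw [Set.mem_setOf_eq, Subgroup.map_map]; exact hL) ?_
    refine lt_of_le_of_ne (Subgroup.map_subtype_le L) fun e => hne ?_
    refine Subgroup.map_injective K.subtype_injective ?_
    rw [e, ← MonoidHom.range_eq_map, Subgroup.range_subtype]

end Cfsg.Agent.AltSec.D4Eight
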