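import Cfsg.Agent.AltSec.TorusTest
import Cfsg.Agent.Chev.Twist.D4Torus

/-!
Semisimple elements of `D₄` fixed by a twisted Frobenius and conjugate to a power: the multisets
of root values and of values at three Weyl orbits of orthogonal root pairs.
-/

set_option autoImplicit false
set_option maxRecDepth 100000

namespace Cfsg.Agent.AltSec.D4Twist

open Cfsg.Lie Cfsg.Agent.Chev Cfsg.Agent.Chev.SS
open scoped MatrixGroups

universe u v

/-- One Weyl orbit of orthogonal root pairs. -/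
def pairs0 : List (Fin 24 × Fin 24) :=
  [(0, 5), (0, 18), (1, 4), (1, 19), (2, 3), (2, 20), (3, 2), (3, 21), (4, 1), (4, 22), (5, 0),
    (5, 23), (6, 9), (6, 14), (7, 8), (7, 15), (8, 7), (8, 16), (9, 6), (9, 17), (10, 11),
    (10, 12), (11, 10), (11, 13), (12, 10), (12, 13), (13, 11), (13, 12), (14, 6), (14, 17),
    (15, 7), (15, 16), (16, 8), (16, 15), (17, 9), (17, 14), (18, 0), (18, 23), (19, 1), (19, 22),
    (20, 2), (20, 21), (21, 3), (21, 20), (22, 4), (22, 19), (23, 5), (23, 18)]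

/-- The triality on root numbers. -/
def rhoN (r : Fin 24) : Fin 24 := Fin.ofNat 24 (d4_031_P.getD (r : ℕ) 0)

/-- The three orbits. -/
def pairs (i : Fin 3) : List (Fin 24 × Fin 24) :=
  pairs0.map fun x => ((rhoN^[(i : ℕ)]) x.1, (rhoN^[(i : ℕ)]) x.2)

/-- Coordinates of the roots in the fundamental ones. -/
def rows : List (List ℕ) :=
  [[1, 2, 1, 1], [1, 1, 1, 1], [1, 1, 1, 0], [1, 1, 0, 1], [1, 1, 0, 0], [1, 0, 0, 0],
    [0, 1, 1, 1], [0, 1, 1, 0], [0, 1, 0, 1], [0, 1, 0, 0], [0, 0, 1, 0], [0, 0, 0, 1]]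

/-- Signed coordinate of a root. -/
def coord (r : Fin 24) (i : Fin 4) : ℤ :=
  if (r : ℕ) < 12 then -(((rows.getD (r : ℕ) []).getD (i : ℕ) 0 : ℕ) : ℤ)
  else (((rows.getD (23 - (r : ℕ)) []).getD (i : ℕ) 0 : ℕ) : ℤ)

theorem coord_spec : ∀ (r : Fin 24) (j : Fin 4),
    chevD4.cartan (j : ℕ) (r : ℕ) = ∑ i : Fin 4, coord r i * chevD4.cartan (j : ℕ) (chevD4.simple (i : ℕ)) := by
  decide +kernel

/-- Exponent of a root value at a point. -/
def rval (N : ℕ) (a : Fin 4 → ℕ) (r : Fin 24) : ℕ :=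
  ((coord r 0 * (a 0 : ℤ) + coord r 1 * (a 1 : ℤ) + coord r 2 * (a 2 : ℤ) +
    coord r 3 * (a 3 : ℤ)) % (N : ℤ)).toNat

/-- The numbers of roots with each value. -/
def rootCount (N : ℕ) (a : Fin 4 → ℕ) (t : ℕ) : ℕ :=
  (List.finRange 24).countP fun r => rval N a r == t

/-- The numbers of pairs with each value. -/
def pairCount (N : ℕ) (a : Fin 4 → ℕ) (i : Fin 3) (t : ℕ) : ℕ :=
  (pairs i).countP fun x => (rval N a x.1 + rval N a x.2) % N == t

/-- The conditions on a point. -/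
def admissible (N j : ℕ) (a : Fin 4 → ℕ) : Bool :=
  ((List.range N).all fun t => rootCount N a t == rootCount N a (j * t % N)) &&
  ((List.range N).all fun t =>
    pairCount N a 0 t == pairCount N a 0 (j * t % N) &&
    pairCount N a 1 t == pairCount N a 0 t && pairCount N a 2 t == pairCount N a 0 t)

/-- A map applied to both entries. -/
def mapP (f : Fin 24 → Fin 24) (l : List (Fin 24 × Fin 24)) : List (Fin 24 × Fin 24) :=
  l.map fun x => (f x.1, f x.2)

theorem wPerm_pairs : ∀ (i : Fin 3) (k : Fin chevD4.rank),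
    (mapP (fun r => wPerm facts_chevD4.{0} k r) (pairs i)).Perm (pairs i) := by
  decide +kernel

theorem neg_pairs : ∀ i : Fin 3,
    (mapP (fun r => negF facts_chevD4.{0} r) (pairs i)).Perm (pairs i) := by
  decide +kernel

theorem rho_pairs : ∀ i : Fin 3,
    (mapP (fun r => d4_031_ρ r) (pairs i)).Perm (pairs (i + 1)) := by
  decide +kernel

theorem mapP_mapP (f g : Fin 24 → Fin 24) (l : List (Fin 24 × Fin 24)) :
    mapP f (mapP g l) = mapP (fun r => f (g r)) l := by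
  simp [mapP, List.map_map, Function.comp_def]

theorem mapP_perm (f : Fin 24 → Fin 24) {l l' : List (Fin 24 × Fin 24)} (h : l.Perm l') :
    (mapP f l).Perm (mapP f l') := h.map _

theorem pWord_pairs (i : Fin 3) : ∀ w : List (Fin chevD4.rank),
    (mapP (fun r => pWord facts_chevD4.{u} w r) (pairs i)).Perm (pairs i) := by
  intro w
  induction w with
  | nil =>
    exact List.Perm.of_eq (List.map_id'' (fun _ => rfl) _)
  | cons k w ih =>
    have h := (mapP_perm (fun r => wPerm facts_chevD4.{u} k r) ih).trans (wPerm_pairs i k)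
    exact (List.Perm.of_eq (mapP_mapP _ _ _).symm).trans h

theorem countP_pairs {l l' : List (Fin 24 × Fin 24)} (f : Fin 24 → Fin 24)
    (h : (mapP f l).Perm l') (P : Fin 24 → Fin 24 → Bool) :
    l'.countP (fun x => P x.1 x.2) = l.countP fun x => P (f x.1) (f x.2) := by
  rw [← h.countP_eq, mapP, List.countP_map]
  rfl

theorem countP_roots (e : Equiv.Perm (Fin 24)) (P : Fin 24 → Bool) :
    (List.finRange 24).countP P = (List.finRange 24).countP fun r => P (e r) := by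
  rw [← (Equiv.Perm.map_finRange_perm e).countP_eq, List.countP_map]
  rfl

variable {k : Type u} [Field k] [IsAlgClosed k]

theorem cartanInv : CartanInv chevD4 2 :=
  ⟨fun a i => (([[2, 2, 1, 1], [2, 4, 2, 2], [1, 2, 2, 1], [1, 2, 1, 2]] : List (List ℤ)).getD
    (a : ℕ) []).getD (i : ℕ) 0, by decide +kernel⟩

/-- The exponents of a torus conjugate of an element fixed by the twisted Frobenius and conjugate
to a power are admissible. -/
theorem admissible_of (q : ℕ) (σ : k →+* k)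
    (hσ : ∀ t, σ t = t ^ q) {N j : ℕ} (hN : 0 < N) (hj : N.Coprime j)
    (hgen : ∃ e : ℕ, q % N = j ^ e % N ∨ q % N = ((N - 1) * j ^ e) % N)
    {x b y : GL chevD4.Idx k} (hb : b ∈ chevD4.group k) (hy : y ∈ chevD4.group k)
    (hfix : D4Torus.frob σ x = x) (hbx : b * x * b⁻¹ = x ^ j)
    {c : Fin chevD4.rank → kˣ} (hc : y * x * y⁻¹ = torusHom c)
    {ζ : kˣ} (hζ : IsPrimitiveRoot ζ N) {a : Fin 4 → ℕ}
    (hval : ∀ r : Fin 24, chiU c (r : ℕ) = ζ ^ rval N a r) :
    admissible N j a = true := by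
  classical
  haveI : NeZero N := ⟨hN.ne'⟩
  have hNz : (N : ℤ) ≠ 0 := by exact_mod_cast hN.ne'
  have hpair : ∀ r s : Fin 24, chiU c (r : ℕ) * chiU c (s : ℕ) =
      ζ ^ ((rval N a r + rval N a s) % N) := fun r s => by
    rw [hval, hval, ← pow_add, ← pow_eq_pow_mod _ hζ.pow_eq_one]
  have hlt : ∀ r, rval N a r < N := fun r => by
    rw [rval]
    exact (Int.toNat_lt (Int.emod_nonneg _ hNz)).2 (Int.emod_lt_of_pos _ (by exact_mod_cast hN))
  -- counting functions in terms of the values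
  set R : kˣ → ℕ := fun z => (List.finRange 24).countP fun r : Fin 24 =>
    decide (chiU c (r : ℕ) = z) with hRdef
  set P : Fin 3 → kˣ → ℕ := fun i z => (pairs i).countP fun x : Fin 24 × Fin 24 =>
    decide (chiU c (x.1 : ℕ) * chiU c (x.2 : ℕ) = z) with hPdef
  have hR : ∀ t, t < N → R (ζ ^ t) = rootCount N a t := fun t ht => by
    refine List.countP_congr fun r _ => ?_
    simp only [decide_eq_true_eq, beq_iff_eq, hval]
    exact ⟨fun h => hζ.pow_inj (hlt r) ht h, fun h => by rw [h]⟩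
  have hP : ∀ i t, t < N → P i (ζ ^ t) = pairCount N a i t := fun i t ht => by
    refine List.countP_congr fun x _ => ?_
    simp only [decide_eq_true_eq, beq_iff_eq, hpair]
    exact ⟨fun h => hζ.pow_inj (Nat.mod_lt _ hN) ht h, fun h => by rw [h]⟩
  -- powers prime to `N` are injective
  have hinj : ∀ {e : ℕ}, N.Coprime e → ∀ {z z' : kˣ}, z ^ N = 1 → z' ^ N = 1 →
      (z ^ e = z' ^ e ↔ z = z') := by
    intro e he z z' hz hz'
    refine ⟨fun h => ?_, fun h => by rw [h]⟩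
    obtain ⟨m, hm⟩ : ∃ m, (ζ ^ e) ^ m = ζ :=
      exists_pow_eq_self_of_coprime (by rw [← hζ.eq_orderOf]; exact he.symm)
    have hem : e * m ≡ 1 [MOD N] := by
      rw [hζ.eq_orderOf, ← pow_eq_pow_iff_modEq, pow_mul, hm, pow_one]
    have key : ∀ w : kˣ, w ^ N = 1 → (w ^ e) ^ m = w := fun w hw => by
      conv_rhs => rw [← pow_one w]
      rw [← pow_mul, pow_eq_pow_iff_modEq]
      exact hem.of_dvd (orderOf_dvd_of_pow_eq_one hw)
    rw [← key z hz, h, key z' hz']
  have hζN : ∀ t : ℕ, (ζ ^ t) ^ N = 1 := fun t => by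
    rw [← pow_mul, mul_comm, pow_mul, hζ.pow_eq_one, one_pow]
  have hpN : ∀ r s : Fin 24, (chiU c (r : ℕ) * chiU c (s : ℕ)) ^ N = 1 := fun r s => by
    rw [hpair]; exact hζN _
  have hcN' : ∀ r : Fin 24, chiU c (r : ℕ) ^ N = 1 := fun r => by rw [hval]; exact hζN _
  -- the conjugating element
  obtain ⟨-, -, -, -, -, w, -, hw⟩ := exists_decomp facts_chevD4 (c₁ := c ^ j) (c₂ := c)
    (g := y * b * y⁻¹) (Subgroup.mul_mem _ (Subgroup.mul_mem _ hy hb) (Subgroup.inv_mem _ hy)) (by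
      rw [map_pow, ← hc, conj_pow, ← hbx]; group)
  have hw' : ∀ r : Fin 24, chiU c (pWord facts_chevD4 w r : ℕ) ^ j = chiU c (r : ℕ) := fun r => by
    rw [← TorusTest.chiU_pow']; exact hw r
  have hPj : ∀ i (t : ℕ), P i ((ζ ^ t) ^ j) = P i (ζ ^ t) := by
    intro i t
    simp only [hPdef]
    rw [countP_pairs _ (pWord_pairs i w)
      (fun r s => decide (chiU c (r : ℕ) * chiU c (s : ℕ) = ζ ^ t))]
    refine List.countP_congr fun x _ => ?_
    simp only [decide_eq_true_eq]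
    rw [← hw' x.1, ← hw' x.2, ← mul_pow]
    exact hinj hj (hpN _ _) (hζN t)
  have hRj : ∀ t : ℕ, R ((ζ ^ t) ^ j) = R (ζ ^ t) := by
    intro t
    simp only [hRdef]
    rw [countP_roots (pWord facts_chevD4 w) (fun r => decide (chiU c (r : ℕ) = ζ ^ t))]
    refine List.countP_congr fun r _ => ?_
    simp only [decide_eq_true_eq]
    rw [← hw' r]
    exact hinj hj (hcN' _) (hζN t)
  -- the twisted Frobenius
  have hy' : D4Torus.frob σ y ∈ chevD4.group k := by
    show d4_031_facts.aut (gmap chevD4 σ y) ∈ chevD4.group k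
    have h := Subgroup.mem_map_of_mem (d4_031_facts.aut (F := k)).toMonoidHom
      (gmap_mem_group facts_chevD4 facts_chevD4 σ hy)
    rwa [GraphFacts.map_group d4_031_facts facts_chevD4] at h
  set c' : Fin chevD4.rank → kˣ :=
    fun i => Units.map σ.toMonoidHom (c (d4_031_π.symm i)) with hc'
  have hfc : D4Torus.frob σ y * x * (D4Torus.frob σ y)⁻¹ = torusHom c' := by
    rw [← D4Torus.frob_torusHom, ← hc, map_mul, map_mul, map_inv, hfix]
  obtain ⟨-, -, -, -, -, w₂, -, hw₂⟩ := exists_decomp facts_chevD4 (c₁ := c) (c₂ := c')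
    (g := y * (D4Torus.frob σ y)⁻¹) (Subgroup.mul_mem _ hy (Subgroup.inv_mem _ hy'))
    (by rw [← hc, ← hfc]; group)
  have htw : ∀ r : Fin 24,
      chiU c (pWord facts_chevD4 w₂ (d4_031_ρ r) : ℕ) = chiU c (r : ℕ) ^ q := fun r => by
    rw [hw₂, hc']
    refine (D4Torus.chiU_twist σ c r).trans ?_
    apply Units.ext
    rw [Units.coe_map, Units.val_pow_eq_pow_val]
    exact hσ _
  have hqN : N.Coprime q := by
    obtain ⟨e, he | he⟩ := hgen
    · have h1 : N.Coprime (j ^ e) := hj.pow_right e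
      rw [Nat.Coprime, Nat.gcd_rec, he, ← Nat.gcd_rec]; exact h1
    · have h1 : N.Coprime ((N - 1) * j ^ e) := by
        refine Nat.Coprime.mul_right ?_ (hj.pow_right e)
        rw [Nat.Coprime, Nat.gcd_self_sub_right (by omega)]
        exact Nat.gcd_one_right N
      rw [Nat.Coprime, Nat.gcd_rec, he, ← Nat.gcd_rec]; exact h1
  have hneg : ∀ i (t : ℕ), P i ((ζ ^ t) ^ (N - 1)) = P i (ζ ^ t) := by
    intro i t
    simp only [hPdef]
    rw [countP_pairs _ (neg_pairs i)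
      (fun r s => decide (chiU c (r : ℕ) * chiU c (s : ℕ) = (ζ ^ t) ^ (N - 1)))]
    refine List.countP_congr fun x _ => ?_
    simp only [decide_eq_true_eq]
    have e : ∀ z : kˣ, z ^ N = 1 → z ^ (N - 1) = z⁻¹ := fun z hz => by
      refine eq_inv_of_mul_eq_one_left ?_
      rw [← pow_succ, show N - 1 + 1 = N by omega, hz]
    have hn : ∀ r : Fin 24, chiU c (negF facts_chevD4.{0} r : ℕ) = (chiU c (r : ℕ))⁻¹ :=
      fun r => chiU_neg facts_chevD4 c r.2
    rw [hn, hn, e _ (hζN t), ← mul_inv, inv_inj]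
  have hPq : ∀ i (t : ℕ), P i ((ζ ^ t) ^ q) = P i (ζ ^ t) := by
    intro i t
    have hpow : ∀ e : ℕ, P i ((ζ ^ t) ^ j ^ e) = P i (ζ ^ t) := by
      intro e
      induction e with
      | zero => rw [pow_zero, pow_one]
      | succ e ih => rw [pow_succ, pow_mul, ← pow_mul ζ, hPj, pow_mul, ih]
    obtain ⟨e, he | he⟩ := hgen
    · rw [pow_eq_pow_mod _ (hζN t), he, ← pow_eq_pow_mod _ (hζN t), hpow]
    · rw [pow_eq_pow_mod _ (hζN t), he, ← pow_eq_pow_mod _ (hζN t), mul_comm, pow_mul,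
        ← pow_mul ζ, hneg, pow_mul, hpow]
  have hPρ : ∀ i (t : ℕ), P (i + 1) (ζ ^ t) = P i (ζ ^ t) := by
    intro i t
    rw [← hPq (i + 1) t]
    simp only [hPdef]
    have hperm : (mapP (fun r => pWord facts_chevD4.{u} w₂ (d4_031_ρ r)) (pairs i)).Perm
        (pairs (i + 1)) := by
      have h := (mapP_perm (fun r => pWord facts_chevD4.{u} w₂ r) (rho_pairs i)).trans
        (pWord_pairs (i + 1) w₂)
      exact (List.Perm.of_eq (mapP_mapP _ _ _).symm).trans h
    rw [countP_pairs (fun r => pWord facts_chevD4.{u} w₂ (d4_031_ρ r)) hperm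
      (fun r s => decide (chiU c (r : ℕ) * chiU c (s : ℕ) = (ζ ^ t) ^ q))]
    refine List.countP_congr fun x _ => ?_
    simp only [decide_eq_true_eq]
    rw [htw, htw, ← mul_pow, hinj hqN (hpN _ _) (hζN t)]
  simp only [admissible, Bool.and_eq_true, List.all_eq_true, List.mem_range, beq_iff_eq]
  refine ⟨fun t ht => ?_, fun t ht => ⟨⟨?_, ?_⟩, ?_⟩⟩
  · rw [← hR t ht, ← hR _ (Nat.mod_lt _ hN), ← pow_eq_pow_mod _ hζ.pow_eq_one, mul_comm, pow_mul,
      hRj]
  · rw [← hP 0 t ht, ← hP 0 _ (Nat.mod_lt _ hN), ← pow_eq_pow_mod _ hζ.pow_eq_one, mul_comm,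
      pow_mul, hPj]
  · rw [← hP 1 t ht, ← hP 0 t ht]
    exact hPρ 0 t
  · rw [← hP 2 t ht, ← hP 0 t ht, ← hPρ 0 t]
    exact hPρ 1 t

/-- A semisimple element fixed by the twisted Frobenius and conjugate to a power gives an
admissible point, and the root values of a conjugate in the torus. -/
theorem exists_point (p : ℕ) [Fact p.Prime] [CharP k p] (q : ℕ) (σ : k →+* k)
    (hσ : ∀ t, σ t = t ^ q) {N j : ℕ} (hN : 0 < N) (hNk : (N : k) ≠ 0) (hj : N.Coprime j)
    (hgen : ∃ e : ℕ, q % N = j ^ e % N ∨ q % N = ((N - 1) * j ^ e) % N)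
    {x b : GL chevD4.Idx k} (hx : x ∈ chevD4.group k) (hb : b ∈ chevD4.group k)
    (hxN : x ^ N = 1) (hfix : D4Torus.frob σ x = x) (hbx : b * x * b⁻¹ = x ^ j) :
    ∃ (a : Fin 4 → ℕ) (ζ : kˣ) (y : GL chevD4.Idx k) (c : Fin chevD4.rank → kˣ),
      (∀ i, a i < N) ∧ admissible N j a = true ∧ IsPrimitiveRoot ζ N ∧ y ∈ chevD4.group k ∧
      y * x * y⁻¹ = torusHom c ∧ ∀ r : Fin 24, chiU c (r : ℕ) = ζ ^ rval N a r := by
  classical
  obtain ⟨y, hy, c, hc⟩ :=
    exists_conj_torus facts_chevD4 p (by norm_num) cartanInv hx hNk hxN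
  have hcN : ∀ s : Fin chevD4.nroots, chiU c (s : ℕ) ^ N = 1 := by
    intro s
    rw [← TorusTest.chiU_pow']
    refine (torusHom_eq_one_iff _).1 ?_ s
    rw [map_pow, ← hc, conj_pow, hxN, mul_one, mul_inv_cancel]
  haveI : NeZero (N : k) := ⟨hNk⟩
  haveI : NeZero N := ⟨hN.ne'⟩
  obtain ⟨ζ₀, hζ₀⟩ := HasEnoughRootsOfUnity.exists_primitiveRoot k N
  obtain ⟨ζ, rfl⟩ := hζ₀.isUnit hN.ne'
  have hζ : IsPrimitiveRoot ζ N := IsPrimitiveRoot.coe_units_iff.1 hζ₀
  have hlog : ∀ i : Fin 4, ∃ a : ℕ, a < N ∧ chiU c (chevD4.simple (i : ℕ)) = ζ ^ a := fun i => by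
    have h := hcN ⟨chevD4.simple i, facts_chevD4.{u}.simple_lt i i.2⟩
    obtain ⟨a, ha', ha⟩ := hζ₀.eq_pow_of_pow_eq_one
      (ξ := ((chiU c (chevD4.simple i) : kˣ) : k)) (by rw [← Units.val_pow_eq_pow_val, h]; rfl)
    exact ⟨a, ha', Units.ext (by rw [Units.val_pow_eq_pow_val, ha])⟩
  choose a haN ha using hlog
  have hNz : (N : ℤ) ≠ 0 := by exact_mod_cast hN.ne'
  have hval : ∀ r : Fin 24, chiU c (r : ℕ) = ζ ^ rval N a r := by
    intro r
    have e : chiU c (r : ℕ) = ζ ^ (∑ i : Fin 4, coord r i * (a i : ℤ)) := by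
      rw [TorusTest.zpow_sum']
      simp only [mul_comm (coord r _), zpow_mul, zpow_natCast, ← ha]
      simp only [chiU, ← Finset.prod_zpow, ← zpow_mul]
      rw [Finset.prod_comm]
      show ∏ i : Fin 4, c i ^ chevD4.cartan (i : ℕ) (r : ℕ) = _
      refine Finset.prod_congr rfl fun i _ => ?_
      rw [← TorusTest.zpow_sum', coord_spec r i]
      exact congrArg _ (Finset.sum_congr rfl fun l _ => mul_comm _ _)
    rw [e, rval, ← zpow_natCast, TorusTest.zpow_iff hζ,
      Int.toNat_of_nonneg (Int.emod_nonneg _ hNz), Fin.sum_univ_four]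
    exact Int.dvd_self_sub_of_emod_eq rfl
  exact ⟨a, ζ, y, c, haN, admissible_of q σ hσ hN hj hgen hb hy hfix hbx hc hζ hval, hζ, hy, hc,
    hval⟩

/-- Reduction of a root value. -/
theorem rval_mod {N M : ℕ} (hM : M ∣ N) (hN : 0 < N) (a : Fin 4 → ℕ) (r : Fin 24) :
    rval N a r % M = rval M (fun i => a i % M) r := by
  have hM0 : 0 < M := Nat.pos_of_dvd_of_pos hM hN
  have hNz : (N : ℤ) ≠ 0 := by exact_mod_cast hN.ne'
  have hMz : (M : ℤ) ≠ 0 := by exact_mod_cast hM0.ne'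
  apply Int.natCast_inj.1
  rw [rval, rval, Int.natCast_mod, Int.toNat_of_nonneg (Int.emod_nonneg _ hNz),
    Int.toNat_of_nonneg (Int.emod_nonneg _ hMz),
    Int.emod_emod_of_dvd _ (Int.natCast_dvd_natCast.2 hM)]
  refine Int.emod_eq_emod_iff_emod_sub_eq_zero.2 (Int.emod_eq_zero_of_dvd ?_)
  have key : ∀ n : ℕ, (M : ℤ) ∣ (n : ℤ) - ((n % M : ℕ) : ℤ) := fun n => by
    rw [Int.natCast_mod]
    exact Int.dvd_self_sub_of_emod_eq rfl
  have e : (coord r 0 * (a 0 : ℤ) + coord r 1 * (a 1 : ℤ) + coord r 2 * (a 2 : ℤ) +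
      coord r 3 * (a 3 : ℤ)) - (coord r 0 * ((a 0 % M : ℕ) : ℤ) + coord r 1 * ((a 1 % M : ℕ) : ℤ) +
        coord r 2 * ((a 2 % M : ℕ) : ℤ) + coord r 3 * ((a 3 % M : ℕ) : ℤ)) =
      coord r 0 * ((a 0 : ℤ) - ((a 0 % M : ℕ) : ℤ)) + coord r 1 * ((a 1 : ℤ) - ((a 1 % M : ℕ) : ℤ)) +
      coord r 2 * ((a 2 : ℤ) - ((a 2 % M : ℕ) : ℤ)) +
      coord r 3 * ((a 3 : ℤ) - ((a 3 % M : ℕ) : ℤ)) := by ring
  rw [e]
  exact dvd_add (dvd_add (dvd_add ((key _).mul_left _) ((key _).mul_left _)) ((key _).mul_left _))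
    ((key _).mul_left _)

end Cfsg.Agent.AltSec.D4Twist
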