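import Cfsg.Agent.AltSec.D4Twist

/-! The kernel-checked tables for `³D₄`. -/

set_option autoImplicit false
set_option maxRecDepth 100000

namespace Cfsg.Agent.AltSec.D4Twist

open Cfsg.Lie Cfsg.Agent.Chev

/-- No admissible point of order 5 for the squaring map. -/
theorem five_check : ∀ a b c d : Fin 5,
    admissible 5 2 ![(a : ℕ), (b : ℕ), (c : ℕ), (d : ℕ)] = true →
      a = 0 ∧ b = 0 ∧ c = 0 ∧ d = 0 := by
  decide +kernel

/-- The admissible involutions. -/
theorem two_check : ∀ a b c d : Fin 2,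
    admissible 2 1 ![(a : ℕ), (b : ℕ), (c : ℕ), (d : ℕ)] = true →
      (a = 0 ∧ b = 0 ∧ c = 0 ∧ d = 0) ∨
        (rootCount 2 ![(a : ℕ), (b : ℕ), (c : ℕ), (d : ℕ)] 0 = 8 ∧
          ([(a : ℕ), (b : ℕ), (c : ℕ), (d : ℕ)] = [0, 1, 0, 0] ∨
            [(a : ℕ), (b : ℕ), (c : ℕ), (d : ℕ)] = [1, 0, 1, 1] ∨
            [(a : ℕ), (b : ℕ), (c : ℕ), (d : ℕ)] = [1, 1, 1, 1])) := by
  decide +kernel

/-- The point with given residues modulo 2 and 7. -/
def crt (u v : ℕ) : ℕ := (7 * u + 8 * v) % 14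

/-- All points over an involution are rejected. -/
def check14 (e₀ e₁ e₂ e₃ : ℕ) : Bool :=
  (List.range 7).all fun a => (List.range 7).all fun b => (List.range 7).all fun c =>
    (List.range 7).all fun d => (a == 0 && b == 0 && c == 0 && d == 0) ||
      !admissible 14 9 ![crt e₀ a, crt e₁ b, crt e₂ c, crt e₃ d]

theorem check14_a : check14 0 1 0 0 = true := by decide +kernel

theorem check14_b : check14 1 0 1 1 = true := by decide +kernel

theorem check14_c : check14 1 1 1 1 = true := by decide +kernel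

end Cfsg.Agent.AltSec.D4Twist
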