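import Cfsg.Agent.AltSec.InvolCount
import Mathlib.GroupTheory.OrderOfElement
import Mathlib.SetTheory.Cardinal.Finite

/-!
A bound on elementary abelian 2-subgroups from the fixed spaces of involutions.
-/

set_option autoImplicit false

namespace Cfsg.Agent.AltSec.ElemTwo

universe u v w

variable {F : Type u} [Field F] {V : Type v} [AddCommGroup V] [Module F V] [FiniteDimensional F V]
variable {G : Type w} [Group G] [Finite G]

/-- An elementary abelian 2-subgroup all of whose involutions have small fixed spaces has order less
than 16. -/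
theorem card_lt_sixteen (h2 : (2 : F) ≠ 0) (ρ : G →* Module.End F V) (d m : ℕ)
    (hd : Module.finrank F V = d) (hnum : d + 15 * m < 8 * d)
    (E : Subgroup G) (hsq : ∀ x ∈ E, x * x = 1) (hc : ∀ x ∈ E, ∀ y ∈ E, x * y = y * x)
    (hfix : ∀ x ∈ E, x ≠ 1 → InvolCount.fixDim (ρ x) ≤ m) : Nat.card ↥E < 16 := by
  classical
  by_contra hlt
  push Not at hlt
  have key : ∀ k, k ≤ 4 → ∃ gs : List G, (∀ g ∈ gs, g ∈ E) ∧
      (InvolCount.allProds gs).length = 2 ^ k ∧ (InvolCount.allProds gs).Nodup ∧
      (∀ a ∈ InvolCount.allProds gs, a ∈ E) ∧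
      ∀ a ∈ InvolCount.allProds gs, ∀ b ∈ InvolCount.allProds gs,
        a * b ∈ InvolCount.allProds gs := by
    intro k
    induction k with
    | zero => intro _; exact ⟨[], by simp [InvolCount.allProds]⟩
    | succ k ih =>
      intro hk
      obtain ⟨gs, hgs, hlen, hnd, hE, hcl⟩ := ih (by omega)
      obtain ⟨g, hgE, hg⟩ : ∃ g ∈ E, g ∉ InvolCount.allProds gs := by
        by_contra hall
        push Not at hall
        have h1 : Nat.card ↥E ≤ (InvolCount.allProds gs).toFinset.card := by
          exact le_trans (Nat.card_mono (InvolCount.allProds gs).toFinset.finite_toSet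
            (fun x hx => List.mem_toFinset.2 (hall x hx))) (le_of_eq (Nat.card_eq_finsetCard _))
        rw [List.toFinset_card_of_nodup hnd, hlen] at h1
        have : 2 ^ k < 16 := by
          calc 2 ^ k < 2 ^ 4 := Nat.pow_lt_pow_right (by norm_num) (by omega)
            _ = 16 := by norm_num
        omega
      refine ⟨g :: gs, fun x hx => ?_, ?_, ?_, ?_, ?_⟩
      · rcases List.mem_cons.1 hx with rfl | hx
        exacts [hgE, hgs x hx]
      · simp only [InvolCount.allProds, List.length_append, List.length_map, hlen, pow_succ]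
        ring
      · simp only [InvolCount.allProds]
        refine List.nodup_append'.2 ⟨hnd, hnd.map fun a b => mul_left_cancel, fun a ha ha' => ?_⟩
        obtain ⟨b, hb, rfl⟩ := List.mem_map.1 ha'
        refine hg ?_
        have := hcl _ ha _ hb
        rwa [mul_assoc, hsq b (hE b hb), mul_one] at this
      · intro a ha
        simp only [InvolCount.allProds, List.mem_append, List.mem_map] at ha
        rcases ha with ha | ⟨b, hb, rfl⟩
        exacts [hE a ha, E.mul_mem hgE (hE b hb)]
      · intro a ha b hb
        simp only [InvolCount.allProds, List.mem_append, List.mem_map] at ha hb ⊢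
        rcases ha with ha | ⟨a', ha', rfl⟩ <;> rcases hb with hb | ⟨b', hb', rfl⟩
        · exact Or.inl (hcl a ha b hb)
        · exact Or.inr ⟨a * b', hcl a ha b' hb', by
            rw [← mul_assoc, hc g hgE a (hE a ha), mul_assoc]⟩
        · exact Or.inr ⟨a' * b, hcl a' ha' b hb, by rw [mul_assoc]⟩
        · refine Or.inl ?_
          rw [show g * a' * (g * b') = a' * b' by
            rw [hc g hgE a' (hE a' ha'), mul_assoc, ← mul_assoc g g, hsq g hgE, one_mul]]
          exact hcl a' ha' b' hb'
  obtain ⟨gs, hgs, hlen, hnd, hE, -⟩ := key 4 le_rfl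
  have hmap : ∀ l : List G,
      InvolCount.allProds (l.map ρ) = (InvolCount.allProds l).map ρ := by
    intro l
    induction l with
    | nil => simp [InvolCount.allProds]
    | cons a l ih =>
      simp [InvolCount.allProds, ih, List.map_map, Function.comp_def]
  have h := InvolCount.half_le h2 (gs.map ρ) ⊤
    (fun g hg => by
      obtain ⟨a, ha, rfl⟩ := List.mem_map.1 hg
      rw [← map_mul, hsq a (hgs a ha), map_one])
    (fun g hg g' hg' => by
      obtain ⟨a, ha, rfl⟩ := List.mem_map.1 hg
      obtain ⟨b, hb, rfl⟩ := List.mem_map.1 hg'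
      exact (show Commute a b from hc a (hgs a ha) b (hgs b hb)).map ρ)
    (fun g _ x _ => Submodule.mem_top)
  rw [hmap, List.length_map, hlen, finrank_top, hd, List.map_map] at h
  have hbound : ∀ a ∈ InvolCount.allProds gs,
      (InvolCount.fixIn ⊤ ∘ ρ) a ≤ if a = 1 then d else m := by
    intro a ha
    show InvolCount.fixIn ⊤ (ρ a) ≤ _
    rw [InvolCount.fixIn, top_inf_eq]
    split
    · exact hd ▸ Submodule.finrank_le _
    · next hne => exact hfix a (hE a ha) hne
  have e : ∀ l : List G, (l.map fun a => if a = 1 then d else m).sum + l.count 1 * m =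
      m * l.length + l.count 1 * d := by
    intro l
    induction l with
    | nil => simp
    | cons b l ih =>
      rw [List.map_cons, List.sum_cons, List.length_cons, List.count_cons]
      by_cases hb : b = 1
      · subst hb
        simp only [if_true, beq_self_eq_true, add_mul, one_mul, mul_add, mul_one]
        omega
      · simp only [if_neg hb, beq_iff_eq, hb, if_false, add_zero, mul_add, mul_one]
        omega
  have h1 := List.sum_le_sum hbound
  have h3 := e (InvolCount.allProds gs)
  have hcount : (InvolCount.allProds gs).count 1 ≤ 1 := List.nodup_iff_count_le_one.1 hnd 1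
  rw [hlen] at h3
  rcases Nat.le_one_iff_eq_zero_or_eq_one.1 hcount with h0 | h0 <;> rw [h0] at h3 <;> omega

end Cfsg.Agent.AltSec.ElemTwo
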