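import Cfsg.Agent.AltSec.D4TwistCheck
import Cfsg.Agent.AltSec.ElemTwo
import Mathlib.LinearAlgebra.Matrix.ToLin

/-!
Elements of `³D₄` are fixed by the twisted Frobenius, and their involutions fix at most 12
dimensions of the adjoint module.
-/

set_option autoImplicit false
set_option maxRecDepth 100000

namespace Cfsg.Agent.AltSec.D4Twist

open Cfsg.Lie Cfsg.Agent.Chev Cfsg.Agent.Chev.SS
open scoped MatrixGroups

universe u

theorem exists_frob_fix {F : Type u} [Field F] [Fintype F] (p a : ℕ) [Fact p.Prime] [CharP F p]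
    (ha : 1 ≤ a) (hF : Fintype.card F = (p ^ a) ^ 3) :
    ∃ (σ : AlgebraicClosure F →+* AlgebraicClosure F)
      (ι : ↥(twistedD4 F (p ^ a)) →* GL chevD4.Idx (AlgebraicClosure F)),
      (∀ t, σ t = t ^ p ^ a) ∧ Function.Injective ι ∧
      (∀ g, ι g ∈ chevD4.group (AlgebraicClosure F)) ∧ ∀ g, D4Torus.frob σ (ι g) = ι g := by
  obtain ⟨φ, hφ, -, hφq, hG1⟩ :=
    exists_twistD4 (Nat.Prime.isPrimePow (Fact.out : p.Prime) |>.pow (by omega : a ≠ 0)) hF
  set T := twistD4 F φ hφ
  let k := AlgebraicClosure F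
  let j : F →+* k := algebraMap F k
  haveI : CharP k p := charP_of_injective_algebraMap j.injective p
  have hσ : ∀ t : k, iterateFrobenius k p a t = t ^ p ^ a := fun t => iterateFrobenius_def ..
  have hσj : ∀ t : F, iterateFrobenius k p a (j t) = j (φ t) := fun t => by
    rw [hσ, show φ t = t ^ p ^ a by simpa using hφq 1 t, map_pow]
  have hmem : ∀ g : ↥(twistedD4 F (p ^ a)), (g : GL chevD4.Idx F) ∈ T.G1 := fun g => by rw [hG1]; exact g.2
  refine ⟨iterateFrobenius k p a, (gmap chevD4 j).comp (twistedD4 F (p ^ a)).subtype, hσ,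
    (gmap_injective _).comp (Subgroup.subtype_injective _),
    fun g => gmap_mem_group facts_chevD4 facts_chevD4 j (T.G1_le_group (hmem g)), fun g => ?_⟩
  have h := T.mem_fx.1 (T.G1_le_fx (hmem g))
  rw [T.σ_apply] at h
  show d4_031_facts.aut (gmap chevD4 (iterateFrobenius k p a) (gmap chevD4 j (g : GL chevD4.Idx F))) =
    gmap chevD4 j (g : GL chevD4.Idx F)
  conv_rhs => rw [← h]
  show _ = gmap chevD4 j (d4_031_facts.aut (gmap chevD4 φ (g : GL chevD4.Idx F)))
  rw [D4Torus.gmap_aut]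
  congr 1
  apply Units.ext
  ext x y
  simp only [gmap_apply]
  exact hσj _

variable {k : Type u} [Field k]

/-- A matrix group acting on column vectors. -/
def endHom : GL chevD4.Idx k →* Module.End k (chevD4.Idx → k) :=
  (Matrix.toLinAlgEquiv' (R := k) (n := chevD4.Idx)).toMonoidHom.comp
    (Units.coeHom (Matrix chevD4.Idx chevD4.Idx k))

theorem fix_conj (e g : GL chevD4.Idx k) :
    InvolCount.fixDim (endHom (e * g * e⁻¹)) ≤ InvolCount.fixDim (endHom g) := by
  set K := LinearMap.ker (endHom (e * g * e⁻¹) - 1)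
  let L : ↥K →ₗ[k] ↥(LinearMap.ker (endHom g - 1)) :=
    ((endHom e⁻¹).comp K.subtype).codRestrict _ fun x => by
      have hx := x.2
      rw [LinearMap.mem_ker, LinearMap.sub_apply, Module.End.one_apply, sub_eq_zero] at hx ⊢
      have h := congrArg (endHom e⁻¹) hx
      rw [← Module.End.mul_apply, ← map_mul, show e⁻¹ * (e * g * e⁻¹) = g * e⁻¹ by group,
        map_mul, Module.End.mul_apply] at h
      exact h
  refine LinearMap.finrank_le_finrank_of_injective (f := L) fun x y h => Subtype.ext ?_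
  have h' : endHom e⁻¹ (x : chevD4.Idx → k) = endHom e⁻¹ (y : chevD4.Idx → k) :=
    congrArg Subtype.val h
  have h'' := congrArg (endHom e) h'
  rwa [← Module.End.mul_apply, ← Module.End.mul_apply, ← map_mul, mul_inv_cancel, map_one,
    Module.End.one_apply, Module.End.one_apply] at h''

/-- The coordinates fixed by a torus involution. -/
def fixCoord (a : Fin 4 → ℕ) : chevD4.Idx → Bool :=
  Sum.elim (fun _ => true) fun s : Fin chevD4.nroots => rval 2 a s == 0

theorem fixCoord_card : ∀ a b c d : Fin 2,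
    rootCount 2 ![(a : ℕ), (b : ℕ), (c : ℕ), (d : ℕ)] 0 = 8 →
      (Finset.univ.filter fun i : chevD4.Idx =>
        fixCoord ![(a : ℕ), (b : ℕ), (c : ℕ), (d : ℕ)] i = true).card = 12 := by
  decide +kernel

theorem fix_torus {c : Fin chevD4.rank → kˣ} {a : Fin 4 → ℕ}
    (hone : ∀ r : Fin chevD4.nroots, chiU c (r : ℕ) = 1 → rval 2 a r = 0) :
    InvolCount.fixDim (endHom (torusHom c : GL chevD4.Idx k)) ≤
      (Finset.univ.filter fun i : chevD4.Idx => fixCoord a i = true).card := by
  classical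
  set S := Finset.univ.filter fun i : chevD4.Idx => fixCoord a i = true with hS
  set K := LinearMap.ker (endHom (torusHom c : GL chevD4.Idx k) - 1) with hK
  let L : ↥K →ₗ[k] ({i // i ∈ S} → k) :=
    (LinearMap.funLeft k k (Subtype.val : {i // i ∈ S} → chevD4.Idx)).comp K.subtype
  have hL : Function.Injective L := by
    rw [← LinearMap.ker_eq_bot, eq_bot_iff]
    rintro ⟨x, hx⟩ hLx
    rw [LinearMap.mem_ker] at hLx
    rw [Submodule.mem_bot]
    refine Subtype.ext (funext fun i => ?_)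
    show x i = 0
    by_cases hi : i ∈ S
    · exact congrFun hLx ⟨i, hi⟩
    · rw [hK, LinearMap.mem_ker, LinearMap.sub_apply, Module.End.one_apply, sub_eq_zero] at hx
      have hxi := congrFun hx i
      rcases i with j | s
      · exact absurd (show Sum.inl j ∈ S from Finset.mem_filter.2 ⟨Finset.mem_univ _, rfl⟩) hi
      · have hi' : rval 2 a s ≠ 0 := fun h =>
          hi (Finset.mem_filter.2 ⟨Finset.mem_univ _, beq_iff_eq.2 h⟩)
        have e : (endHom (torusHom c : GL chevD4.Idx k)) x (Sum.inr s) =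
            (chiU c (s : ℕ) : k) * x (Sum.inr s) := by
          show Matrix.mulVec (Matrix.diagonal _) x (Sum.inr s) = _
          rw [Matrix.mulVec_diagonal]
          rfl
        rw [e, ← sub_eq_zero, ← sub_one_mul] at hxi
        refine (mul_eq_zero.1 hxi).resolve_left fun h => hi' (hone s (Units.ext ?_))
        rw [Units.val_one]
        exact sub_eq_zero.1 h
  calc InvolCount.fixDim (endHom (torusHom c : GL chevD4.Idx k)) ≤
        Module.finrank k ({i // i ∈ S} → k) := LinearMap.finrank_le_finrank_of_injective hL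
    _ = S.card := by rw [Module.finrank_fintype_fun_eq_card, Fintype.card_coe]

theorem rval_zero : ∀ r : Fin 24, rval 2 ![0, 0, 0, 0] r = 0 := by decide +kernel

/-- An involution fixed by the twisted Frobenius fixes at most 12 dimensions. -/
theorem invol_fix [IsAlgClosed k] (p : ℕ) [Fact p.Prime] [CharP k p] (q : ℕ) (σ : k →+* k)
    (hσ : ∀ t, σ t = t ^ q) (hq : q % 2 = 1) (h2 : (2 : k) ≠ 0) {x : GL chevD4.Idx k}
    (hx : x ∈ chevD4.group k) (hfix : D4Torus.frob σ x = x) (hsq : x * x = 1) (hne : x ≠ 1) :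
    InvolCount.fixDim (endHom x) ≤ 12 := by
  obtain ⟨a, ζ, y, c, ha, hadm, hζ, hy, hc, hval⟩ := exists_point p q σ hσ (N := 2) (j := 1)
    (by norm_num) (by exact_mod_cast h2) (by decide) ⟨0, Or.inl (by simp [hq])⟩
    hx (Subgroup.one_mem _) (by rw [pow_two, hsq]) hfix (by group)
  have hvec : ![((⟨a 0, ha 0⟩ : Fin 2) : ℕ), ((⟨a 1, ha 1⟩ : Fin 2) : ℕ),
      ((⟨a 2, ha 2⟩ : Fin 2) : ℕ), ((⟨a 3, ha 3⟩ : Fin 2) : ℕ)] = a := by
    funext i; fin_cases i <;> rfl
  rcases two_check ⟨a 0, ha 0⟩ ⟨a 1, ha 1⟩ ⟨a 2, ha 2⟩ ⟨a 3, ha 3⟩ (by rw [hvec]; exact hadm) with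
    ⟨h0, h1, h2', h3⟩ | ⟨h8, -⟩
  · exfalso
    apply hne
    have ha0 : a = ![0, 0, 0, 0] := by
      funext i
      fin_cases i
      exacts [congrArg Fin.val h0, congrArg Fin.val h1, congrArg Fin.val h2', congrArg Fin.val h3]
    have h : torusHom c = (1 : GL chevD4.Idx k) := (torusHom_eq_one_iff c).2 fun s => by
      refine (hval s).trans ?_
      rw [ha0]
      exact (congrArg (ζ ^ ·) (rval_zero s)).trans (pow_zero _)
    rw [← hc, mul_inv_eq_one, mul_eq_left] at h
    exact h
  · have hcard := fixCoord_card _ _ _ _ h8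
    rw [hvec] at hcard
    have hlt : ∀ r : Fin 24, rval 2 a r < 2 := fun r => by
      rw [rval]; omega
    refine le_trans ?_ (le_of_le_of_eq (fix_torus (c := c) (a := a) fun r hr => ?_) hcard)
    · have e : x = y⁻¹ * torusHom c * (y⁻¹)⁻¹ := by rw [← hc]; group
      conv_lhs => rw [e]
      exact fix_conj _ _
    · exact hζ.pow_inj (hlt r) (by norm_num) (by rw [← hval r, hr, pow_zero])

/-- Elementary abelian 2-subgroups of `³D₄` are small. -/
theorem card_elementary {F : Type u} [Field F] [Fintype F] (p a : ℕ) [Fact p.Prime] [CharP F p]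
    (ha : 1 ≤ a) (hF : Fintype.card F = (p ^ a) ^ 3) (hp : p ≠ 2)
    (E : Subgroup ↥(twistedD4 F (p ^ a))) (hsq : ∀ x ∈ E, x * x = 1)
    (hc : ∀ x ∈ E, ∀ y ∈ E, x * y = y * x) : Nat.card ↥E < 16 := by
  classical
  obtain ⟨σ, ι, hσ, hι, hmem, hfix⟩ := exists_frob_fix p a ha hF
  haveI : CharP (AlgebraicClosure F) p :=
    charP_of_injective_algebraMap (algebraMap F (AlgebraicClosure F)).injective p
  have h2 : (2 : AlgebraicClosure F) ≠ 0 := fun h => hp
    ((Nat.prime_dvd_prime_iff_eq Fact.out Nat.prime_two).1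
      ((CharP.cast_eq_zero_iff (AlgebraicClosure F) p 2).1 (by exact_mod_cast h)))
  have hq : (p ^ a) % 2 = 1 :=
    Nat.odd_iff.1 ((Nat.Prime.odd_of_ne_two Fact.out hp).pow)
  haveI : Finite ↥(twistedD4 F (p ^ a)) := inferInstance
  refine ElemTwo.card_lt_sixteen h2 (endHom.comp ι) 28 12 ?_ (by norm_num) E hsq hc ?_
  · rw [Module.finrank_fintype_fun_eq_card]
    decide +kernel
  · intro x hx hne
    exact invol_fix p (p ^ a) σ hσ hq h2 (hmem x) (hfix x)
      (by rw [← map_mul, hsq x hx, map_one]) fun e => hne (hι (by rw [e, map_one]))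

end Cfsg.Agent.AltSec.D4Twist
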