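import Cfsg.Agent.AltSec.Basic

/-! Commutator scalars of lifts of double transpositions. -/

namespace Cfsg.Agent.AltSec

open Equiv
open scoped commutatorElement

variable {k V : Type*} [Field k] [AddCommGroup V] [Module k V] {r : ℕ}

theorem nodup_map (σ : Perm (Fin r)) {l : List (Fin r)} (h : l.Nodup) : (l.map σ).Nodup :=
  h.map σ.injective

theorem exists_avoid2 (l : List (Fin r)) (h : l.length + 1 < r) :
    ∃ x y, x ≠ y ∧ x ∉ l ∧ y ∉ l := by
  obtain ⟨x, hx⟩ := exists_avoid l (by omega)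
  obtain ⟨y, hy⟩ := exists_avoid (x :: l) (by simpa using h)
  rw [List.mem_cons, not_or] at hy
  exact ⟨x, y, Ne.symm hy.1, hx, hy.2⟩

theorem nodup_four {a b c d : Fin r} :
    [a, b, c, d].Nodup ↔ (a ≠ b ∧ a ≠ c ∧ a ≠ d ∧ b ≠ c ∧ b ≠ d ∧ c ≠ d) := by
  simp [List.nodup_cons]; tauto

theorem nodup_six {a b c d e g : Fin r} :
    [a, b, c, d, e, g].Nodup ↔ (a ≠ b ∧ a ≠ c ∧ a ≠ d ∧ a ≠ e ∧ a ≠ g ∧ b ≠ c ∧ b ≠ d ∧ b ≠ e ∧
      b ≠ g ∧ c ≠ d ∧ c ≠ e ∧ c ≠ g ∧ d ≠ e ∧ d ≠ g ∧ e ≠ g) := by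
  simp [List.nodup_cons]; tauto

theorem dt_comm {a b c d : Fin r} (h : [a, b, c, d].Nodup) : dt a b c d = dt c d a b := by
  rw [nodup_four] at h
  ext x
  simp [dt, Equiv.swap_apply_def]
  grind

theorem dt_swap {a b c d : Fin r} : dt b a c d = dt a b c d := by
  rw [dt, dt, swap_comm]

theorem dt_swap' {a b c d : Fin r} : dt a b d c = dt a b c d := by
  rw [dt, dt, swap_comm c d]

theorem dt_mul_dt {a b c d e g : Fin r} (h : [a, b, c, d, e, g].Nodup) :
    dt a b c d * dt a b e g = dt c d e g := by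
  rw [nodup_six] at h
  ext x
  simp [dt, Equiv.swap_apply_def]
  grind

theorem dt_mul_klein {a b c d : Fin r} (h : [a, b, c, d].Nodup) :
    dt a b c d * dt a c b d = dt a d b c := by
  rw [nodup_four] at h
  ext x
  simp [dt, Equiv.swap_apply_def]
  grind

theorem dt_sq {a b c d : Fin r} (h : [a, b, c, d].Nodup) : dt a b c d ^ 2 = 1 := by
  rw [nodup_four] at h
  rw [pow_two]
  ext x
  simp [dt, Equiv.swap_apply_def]
  grind

theorem dt_ne_one {a b c d : Fin r} (h : [a, b, c, d].Nodup) : dt a b c d ≠ 1 := by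
  rw [nodup_four] at h
  intro h1
  have h2 := congrArg (fun σ : Perm (Fin r) => σ a) h1
  simp [dt, Equiv.swap_apply_def] at h2
  grind

theorem commute_klein {a b c d : Fin r} (h : [a, b, c, d].Nodup) :
    Commute (dt a b c d) (dt a c b d) := by
  have h' : [a, c, b, d].Nodup := by rw [nodup_four] at h ⊢; tauto
  change dt a b c d * dt a c b d = dt a c b d * dt a b c d
  rw [dt_mul_klein h, dt_mul_klein h']
  rw [nodup_four] at h
  rw [dt, dt, swap_comm b c]

theorem commute_share {a b c d e g : Fin r} (h : [a, b, c, d, e, g].Nodup) :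
    Commute (dt a b c d) (dt a b e g) := by
  have h' : [a, b, e, g, c, d].Nodup := by rw [nodup_six] at h ⊢; tauto
  change dt a b c d * dt a b e g = dt a b e g * dt a b c d
  rw [dt_mul_dt h, dt_mul_dt h']
  exact dt_comm (by rw [nodup_six] at h; rw [nodup_four]; tauto)

theorem sign_dt' {a b c d : Fin r} (h : [a, b, c, d].Nodup) : Perm.sign (dt a b c d) = 1 := by
  rw [nodup_four] at h; exact sign_dt h.1 h.2.2.2.2.2

/-- a commuting relation between lifts, with a scalar, transported by conjugation -/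
theorem scalar_conj {X X' U U' G : GV k V} {c μ ν : kˣ} (h : X * U = sc c * (U * X))
    (hX : G * X * G⁻¹ = sc μ * X') (hU : G * U * G⁻¹ = sc ν * U') :
    X' * U' = sc c * (U' * X') := by
  have h1 : (G * X * G⁻¹) * (G * U * G⁻¹) = sc c * ((G * U * G⁻¹) * (G * X * G⁻¹)) := by
    calc _ = G * (X * U) * G⁻¹ := by group
      _ = G * sc c * (U * X) * G⁻¹ := by rw [h]; group
      _ = sc c * G * (U * X) * G⁻¹ := by rw [← sc_comm c G]
      _ = _ := by group
  rw [hX, hU] at h1
  have h2 : sc (μ * ν) * (X' * U') = sc (μ * ν) * (sc c * (U' * X')) := by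
    calc sc (μ * ν) * (X' * U') = sc μ * (sc ν * X') * U' := by rw [map_mul]; group
      _ = sc μ * X' * (sc ν * U') := by rw [sc_comm ν X']; group
      _ = sc c * (sc ν * U' * (sc μ * X')) := h1
      _ = sc c * (sc ν * (sc μ * U') * X') := by rw [sc_comm μ U']; group
      _ = sc (c * (ν * μ)) * (U' * X') := by rw [map_mul, map_mul]; group
      _ = _ := by rw [← mul_assoc (sc (μ * ν)), ← map_mul]; congr 2; rw [mul_comm c, mul_comm μ]
  exact mul_left_cancel h2

namespace PRep

variable {ρ : PRep k V r}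

/-- the lifts of the Klein four-groups commute -/
def Lin (ρ : PRep k V r) : Prop :=
  ∀ a b c d : Fin r, [a, b, c, d].Nodup → ρ.Cm (dt a b c d) (dt a c b d)

theorem lin_of_one (hr : 6 ≤ r) {a b c d : Fin r} (h : [a, b, c, d].Nodup)
    (hc : ρ.Cm (dt a b c d) (dt a c b d)) : ρ.Lin := by
  intro a' b' c' d' h'
  obtain ⟨σ, hσ, hm⟩ := exists_even_map ![a, b, c, d] ![a', b', c', d']
    (by rw [← List.nodup_ofFn]; simpa [List.ofFn_succ] using h)
    (by rw [← List.nodup_ofFn]; simpa [List.ofFn_succ] using h') (by omega)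
  have hq : [a, c, b, d].Nodup := by rw [nodup_four] at h ⊢; tauto
  have := hc.conj hσ (sign_dt' h) (sign_dt' hq)
  rw [conj_dt, conj_dt] at this
  simpa [show σ a = a' from hm 0, show σ b = b' from hm 1, show σ c = c' from hm 2,
    show σ d = d' from hm 3] using this

theorem cm_share (hL : ρ.Lin) {a b c d e g : Fin r} (h : [a, b, c, d, e, g].Nodup) :
    ρ.Cm (dt a b c d) (dt a b e g) := by
  have hn := nodup_six.1 h
  have h1 : [a, b, c, d].Nodup := by rw [nodup_four]; tauto
  have h2 : [a, c, b, d].Nodup := by rw [nodup_four]; tauto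
  have h3 : [a, b, e, g].Nodup := by rw [nodup_four]; tauto
  have hXY : Commute (ρ.f (dt a b c d)) (ρ.f (dt a c b d)) := hL a b c d h1
  have lU := ρ.lifts_f (dt a b e g)
  have lX := ρ.lifts_f (dt a b c d)
  have lY := ρ.lifts_f (dt a c b d)
  obtain ⟨η, hη⟩ := exists_scalar (sign_dt' h3) (sign_dt' h1) lU lX (commute_share h).symm
  obtain ⟨lam, hlam⟩ := ((lX.mul (sign_dt' h1) (sign_dt' h2) lY).unique
    (show ρ.Lifts (dt a b c d * dt a c b d) (ρ.f (dt a b e g) * ρ.f (dt a c b d) *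
      (ρ.f (dt a b e g))⁻¹) by
      convert lU.conj (sign_dt' h3) (sign_dt' h2) lY using 1
      rw [conj_dt, dt_mul_klein h1]
      have hv : dt a b e g a = b ∧ dt a b e g b = a ∧ dt a b e g c = c ∧ dt a b e g d = d := by
        simp only [dt, Perm.mul_apply, Equiv.swap_apply_def]
        grind
      rw [hv.1, hv.2.1, hv.2.2.1, hv.2.2.2]
      exact dt_comm (by rw [nodup_four]; tauto)))
  obtain ⟨x2, hx2⟩ := pow_scalar (sign_dt' h1) lX (dt_sq h1)
  obtain ⟨y2, hy2⟩ := pow_scalar (sign_dt' h2) lY (dt_sq h2)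
  obtain ⟨u2, hu2⟩ := pow_scalar (sign_dt' h3) lU (dt_sq h3)
  rw [pow_two] at hx2 hy2 hu2
  refine show Commute _ _ from Commute.symm ?_
  have key : η = 1 := by
    generalize ρ.f (dt a b c d) = X at hXY hη hlam hx2
    generalize ρ.f (dt a c b d) = Y at hXY hlam hy2
    generalize ρ.f (dt a b e g) = U at hη hlam hu2
    have hUX : U * X * U⁻¹ = sc η * X := by rw [hη]; group
    have e1 : (U * U) * Y * (U * U)⁻¹ = Y := by rw [hu2, sc_comm]; group
    have e2 : (U * U) * Y * (U * U)⁻¹ = sc (lam * η * lam * x2) * Y := by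
      calc (U * U) * Y * (U * U)⁻¹ = U * (U * Y * U⁻¹) * U⁻¹ := by group
        _ = U * sc lam * (X * Y) * U⁻¹ := by rw [hlam]; group
        _ = sc lam * U * (X * Y) * U⁻¹ := by rw [← sc_comm lam U]
        _ = sc lam * ((U * X * U⁻¹) * (U * Y * U⁻¹)) := by group
        _ = sc lam * (sc η * (X * sc lam) * (X * Y)) := by rw [hUX, hlam]; group
        _ = sc lam * (sc η * (sc lam * X) * (X * Y)) := by rw [← sc_comm lam X]
        _ = sc lam * sc η * sc lam * (X * X) * Y := by group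
        _ = _ := by rw [hx2, map_mul, map_mul, map_mul]
    have e3 : U * (Y * Y) * U⁻¹ = Y * Y := by rw [hy2, ← sc_comm]; group
    have e4 : U * (Y * Y) * U⁻¹ = sc (lam * lam * x2) * (Y * Y) := by
      calc U * (Y * Y) * U⁻¹ = (U * Y * U⁻¹) * (U * Y * U⁻¹) := by group
        _ = sc lam * ((X * Y) * sc lam) * (X * Y) := by rw [hlam]; group
        _ = sc lam * (sc lam * (X * Y)) * (X * Y) := by rw [← sc_comm lam (X * Y)]
        _ = sc lam * sc lam * (X * (Y * X)) * Y := by group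
        _ = sc lam * sc lam * (X * (X * Y)) * Y := by rw [hXY.eq]
        _ = sc lam * sc lam * (X * X) * (Y * Y) := by group
        _ = _ := by rw [hx2, map_mul, map_mul]
    rw [e1] at e2
    rw [e3] at e4
    have := ρ.nt
    have f2 : lam * η * lam * x2 = 1 :=
      sc_injective (by rw [map_one]; exact mul_eq_right.1 e2.symm)
    have f4 : lam * lam * x2 = 1 :=
      sc_injective (by rw [map_one]; exact mul_eq_right.1 e4.symm)
    calc η = η * (lam * lam * x2) := by rw [f4, mul_one]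
      _ = 1 := by rw [← f2]; ac_rfl
  rw [key, map_one, one_mul] at hη
  exact hη

theorem cm_disjoint {a b c d e g i j : Fin r}
    (h : [a, b, c, d].Nodup) (h' : [e, g, i, j].Nodup)
    (hd : ∀ x ∈ [a, b, c, d], x ∉ [e, g, i, j]) :
    ρ.Cm (dt a b c d) (dt e g i j) := by
  have hn := nodup_four.1 h
  have hn' := nodup_four.1 h'
  simp only [List.mem_cons, List.not_mem_nil, or_false, forall_eq_or_imp, forall_eq, not_or] at hd
  obtain ⟨⟨hae, hag, hai, haj⟩, ⟨hbe, hbg, hbi, hbj⟩, ⟨hce, hcg, hci, hcj⟩,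
    ⟨hde, hdg, hdi, hdj⟩⟩ := hd
  have h1 : [a, b, c, d, e, g].Nodup := by rw [nodup_six]; tauto
  have h2 : [a, b, c, d, i, j].Nodup := by rw [nodup_six]; tauto
  have hu : [a, b, e, g].Nodup := by rw [nodup_four]; tauto
  have hv : [a, b, i, j].Nodup := by rw [nodup_four]; tauto
  have hprod : dt a b e g * dt a b i j = dt e g i j :=
    dt_mul_dt (by rw [nodup_six]; tauto)
  obtain ⟨η, hη⟩ := exists_scalar (sign_dt' h) (sign_dt' hu) (ρ.lifts_f (dt a b c d))
    (ρ.lifts_f (dt a b e g)) (commute_share h1)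
  -- the conjugating permutation swaps `{e, g}` with `{i, j}`
  set σ := dt e i g j with hσdef
  have hσn : [e, i, g, j].Nodup := by rw [nodup_four]; tauto
  have hσ := sign_dt' hσn
  have lσ := ρ.lifts_f σ
  have hσval : σ a = a ∧ σ b = b ∧ σ c = c ∧ σ d = d ∧ σ e = i ∧ σ g = j := by
    simp only [hσdef, dt, Perm.mul_apply, Equiv.swap_apply_def]
    grind
  obtain ⟨μ, hμ⟩ := (ρ.lifts_f (dt a b c d)).unique (by
    have := lσ.conj hσ (sign_dt' h) (ρ.lifts_f (dt a b c d))
    rw [conj_dt] at this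
    rw [hσdef] at hσval
    simpa only [hσdef, hσval.1, hσval.2.1, hσval.2.2.1, hσval.2.2.2.1] using this)
  obtain ⟨ν, hν⟩ := (ρ.lifts_f (dt a b i j)).unique (by
    have := lσ.conj hσ (sign_dt' hu) (ρ.lifts_f (dt a b e g))
    rw [conj_dt] at this
    rw [hσdef] at hσval
    simpa only [hσdef, hσval.1, hσval.2.1, hσval.2.2.2.2.1, hσval.2.2.2.2.2] using this)
  have hη' := scalar_conj hη hμ hν
  have hη2 : η ^ 2 = 1 :=
    scalar_pow_eq_one (sign_dt' hu) (ρ.lifts_f (dt a b e g)) (dt_sq hu) hη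
  refine cm_of (ρ.lifts_f _) (hprod ▸ (ρ.lifts_f (dt a b e g)).mul (sign_dt' hu) (sign_dt' hv)
    (ρ.lifts_f (dt a b i j))) ?_
  generalize ρ.f (dt a b c d) = X at hη hη'
  generalize ρ.f (dt a b e g) = U at hη
  generalize ρ.f (dt a b i j) = W at hη'
  calc X * (U * W) = (X * U) * W := by group
    _ = sc η * U * (X * W) := by rw [hη]; group
    _ = sc η * (U * sc η) * (W * X) := by rw [hη']; group
    _ = sc η * (sc η * U) * (W * X) := by rw [← sc_comm η U]
    _ = sc (η ^ 2) * (U * W * X) := by rw [pow_two, map_mul]; group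
    _ = U * W * X := by rw [hη2, map_one, one_mul]

theorem cm_via {σ₀ : Perm (Fin r)} {m : ℕ} (hm : 5 ≤ m) (ι : Fin m ↪ Fin r)
    (h : ∀ a b c d : Fin m, [a, b, c, d].Nodup → ρ.Cm σ₀ (dt (ι a) (ι b) (ι c) (ι d)))
    {σ : Perm (Fin m)} (hσ : Perm.sign σ = 1) : ρ.Cm σ₀ (Perm.viaEmbeddingHom ι σ) := by
  have hs : ∀ τ : Perm (Fin m), Perm.sign τ = 1 →
      Perm.sign (Perm.viaEmbeddingHom ι τ) = 1 := by
    intro τ hτ
    rw [Perm.viaEmbeddingHom_apply]
    classical
    simp [Perm.viaEmbedding, hτ]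
  have hmem : σ ∈ alternatingGroup (Fin m) := hσ
  rw [← Equiv.Perm.closure_three_cycles_eq_alternating] at hmem
  suffices Perm.sign σ = 1 ∧ ρ.Cm σ₀ (Perm.viaEmbeddingHom ι σ) from this.2
  refine Subgroup.closure_induction (p := fun τ _ => Perm.sign τ = 1 ∧
    ρ.Cm σ₀ (Perm.viaEmbeddingHom ι τ)) ?_ ⟨by simp, by simpa using cm_one σ₀⟩
    (fun x y _ _ hx hy => ⟨by simp [hx.1, hy.1], by
      rw [map_mul]; exact hx.2.mul (hs x hx.1) (hs y hy.1) hy.2⟩)
    (fun x _ hx => ⟨by simp [hx.1], by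
      rw [map_inv]
      exact cm_of (ρ.lifts_f σ₀) ((ρ.lifts_f _).inv (hs x hx.1)) (Commute.inv_right hx.2)⟩) hmem
  intro τ hτ
  refine ⟨Equiv.Perm.IsThreeCycle.sign hτ, ?_⟩
  obtain ⟨a, ha⟩ : ∃ a, τ a ≠ a := by
    by_contra! hc
    exact hτ.isCycle.ne_one (Perm.ext hc)
  have hab : a ≠ τ a := Ne.symm ha
  have hbc : τ a ≠ τ (τ a) := fun h' => ha (τ.injective h'.symm)
  have hca : τ (τ a) ≠ a := by
    intro h'
    have hsup : τ = swap a (τ a) := hτ.isCycle.eq_swap_of_apply_apply_eq_self ha h'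
    have := hτ.sign
    rw [hsup, Perm.sign_swap hab] at this
    exact absurd this (by decide)
  have hτeq : τ = tc a (τ a) (τ (τ a)) := by
    have hsupp : τ.support = {a, τ a, τ (τ a)} := by
      refine (Finset.eq_of_subset_of_card_le ?_ ?_).symm
      · simp [Finset.insert_subset_iff, ha, Ne.symm hbc]
      · rw [hτ.card_support, Finset.card_eq_three.2
          ⟨a, τ a, τ (τ a), hab, hca.symm, hbc, rfl⟩]
    ext x
    by_cases hx : x ∈ τ.support
    · have h3 : τ (τ (τ a)) = a := by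
        have hmem3 : τ (τ (τ a)) ∈ τ.support := by
          rw [Perm.apply_mem_support, Perm.apply_mem_support, Perm.apply_mem_support]
          exact Perm.mem_support.2 ha
        rw [hsupp] at hmem3
        simp only [Finset.mem_insert, Finset.mem_singleton] at hmem3
        rcases hmem3 with h' | h' | h'
        · exact h'
        · exact absurd (τ.injective h') hca
        · exact absurd (τ.injective h') hbc.symm
      rw [hsupp] at hx
      simp only [Finset.mem_insert, Finset.mem_singleton] at hx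
      rcases hx with rfl | rfl | rfl <;>
        simp [tc, Equiv.swap_apply_def] <;> grind
    · rw [Perm.notMem_support.1 hx]
      rw [hsupp] at hx
      simp only [Finset.mem_insert, Finset.mem_singleton, not_or] at hx
      simp [tc, Equiv.swap_apply_def, hx.1, hx.2.1, hx.2.2]
  rw [hτeq]
  generalize τ a = b, τ (τ a) = c at hab hbc hca ⊢
  obtain ⟨d, e, hde, hd, he⟩ := exists_avoid2 [a, b, c] (by simp; omega)
  simp only [List.mem_cons, List.not_mem_nil, or_false, not_or] at hd he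
  have h1 : [a, b, d, e].Nodup := by rw [nodup_four]; tauto
  have h2 : [b, c, d, e].Nodup := by rw [nodup_four]; tauto
  have htc : tc a b c = dt a b d e * dt b c d e := by
    ext x
    simp [tc, dt, Equiv.swap_apply_def]
    grind
  rw [htc, map_mul]
  refine (h _ _ _ _ h1 |> fun q => ?_)
  rw [map_dt, map_dt]
  exact q.mul (sign_dt' (by
    rw [nodup_four]; simp only [ne_eq, EmbeddingLike.apply_eq_iff_eq]; tauto)) (sign_dt' (by
    rw [nodup_four]; simp only [ne_eq, EmbeddingLike.apply_eq_iff_eq]; tauto)) (h _ _ _ _ h2)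

end PRep

end Cfsg.Agent.AltSec
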