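import Mathlib

/-! Joint eigenvectors of finitely many operators: independence and counting. -/

namespace Cfsg.Agent.AltSec

open Module

variable {k V ι : Type*} [Field k] [AddCommGroup V] [Module k V]

/-- the joint eigenspace of the family `X` with eigenvalues `f` -/
noncomputable def joint (X : ι → Module.End k V) (f : ι → k) : Submodule k V :=
  ⨅ i, Module.End.eigenspace (X i) (f i)

theorem mem_joint {X : ι → Module.End k V} {f : ι → k} {v : V} :
    v ∈ joint X f ↔ ∀ i, X i v = f i • v := by
  simp [joint, Submodule.mem_iInf, Module.End.mem_eigenspace_iff]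

theorem joint_sum_eq_zero {J : Type*} {X : ι → Module.End k V} {f : J → ι → k}
    (hf : Function.Injective f) (s : Finset J) :
    ∀ u : J → V, (∀ j ∈ s, u j ∈ joint X (f j)) → ∑ j ∈ s, u j = 0 → ∀ j ∈ s, u j = 0 := by
  classical
  induction s using Finset.induction with
  | empty => simp
  | @insert a s ha ih =>
    intro u hu hsum j hj
    rw [Finset.sum_insert ha] at hsum
    have hrest : ∀ j ∈ s, u j = 0 := by
      intro j hj
      obtain ⟨i, hi⟩ := Function.ne_iff.1 (hf.ne (show j ≠ a from fun h => ha (h ▸ hj)))
      have h1 : ∑ j ∈ s, (f j i - f a i) • u j = 0 := by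
        have h2 := congrArg (X i) hsum
        rw [map_add, map_zero, mem_joint.1 (hu a (Finset.mem_insert_self a s)) i, map_sum] at h2
        have h3 : ∑ j ∈ s, X i (u j) = ∑ j ∈ s, f j i • u j :=
          Finset.sum_congr rfl fun j hj => mem_joint.1 (hu j (Finset.mem_insert_of_mem hj)) i
        rw [h3] at h2
        have h4 : f a i • u a + f a i • ∑ j ∈ s, u j = 0 := by rw [← smul_add, hsum, smul_zero]
        simp only [sub_smul, Finset.sum_sub_distrib, ← Finset.smul_sum]
        linear_combination (norm := module) h2 - h4
      have := ih (fun j => (f j i - f a i) • u j)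
        (fun j hj => Submodule.smul_mem _ _ (hu j (Finset.mem_insert_of_mem hj))) h1 j hj
      exact (smul_eq_zero.1 this).resolve_left (sub_ne_zero.2 hi)
    rcases Finset.mem_insert.1 hj with rfl | hj
    · rwa [Finset.sum_eq_zero hrest, add_zero] at hsum
    · exact hrest j hj

/-- subspaces with distinct joint eigenvalues have total dimension at most `dim V` -/
theorem mul_card_le_finrank [FiniteDimensional k V] {J : Type*} [Fintype J]
    {X : ι → Module.End k V} {f : J → ι → k} (hf : Function.Injective f) (d : ℕ)
    (W : J → Submodule k V) (hW : ∀ j, W j ≤ joint X (f j)) (hd : ∀ j, d ≤ finrank k (W j)) :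
    d * Fintype.card J ≤ finrank k V := by
  classical
  have hb : ∀ j, ∃ b : Fin d → W j, LinearIndependent k b := fun j =>
    exists_linearIndependent_of_le_finrank (hd j)
  choose b hb using hb
  have li : LinearIndependent k (fun p : J × Fin d => (b p.1 p.2 : V)) := by
    rw [Fintype.linearIndependent_iff]
    rintro g hg ⟨j, i⟩
    rw [Fintype.sum_prod_type] at hg
    have := joint_sum_eq_zero hf Finset.univ (fun j => ∑ i, g (j, i) • (b j i : V))
      (fun j _ => Submodule.sum_mem _ fun i _ => Submodule.smul_mem _ _ (hW j (b j i).2)) hg j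
      (Finset.mem_univ j)
    refine Fintype.linearIndependent_iff.1 (hb j) (fun i => g (j, i)) ?_ i
    exact Subtype.ext (by simpa using this)
  have := li.fintype_card_le_finrank
  simp only [Fintype.card_prod, Fintype.card_fin] at this
  linarith [Nat.mul_comm d (Fintype.card J)]

theorem sum_finrank_le [FiniteDimensional k V] {J : Type*} [Fintype J]
    {X : ι → Module.End k V} {f : J → ι → k} (hf : Function.Injective f)
    (W : J → Submodule k V) (hW : ∀ j, W j ≤ joint X (f j)) :
    ∑ j, finrank k (W j) ≤ finrank k V := by
  classical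
  have li : LinearIndependent k
      (fun p : Σ j, Fin (finrank k (W j)) => (Module.finBasis k (W p.1) p.2 : V)) := by
    rw [Fintype.linearIndependent_iff]
    rintro g hg ⟨j, i⟩
    rw [Fintype.sum_sigma] at hg
    have := joint_sum_eq_zero hf Finset.univ
      (fun j => ∑ i, g ⟨j, i⟩ • (Module.finBasis k (W j) i : V))
      (fun j _ => Submodule.sum_mem _ fun i _ =>
        Submodule.smul_mem _ _ (hW j (Module.finBasis k (W j) i).2)) hg j (Finset.mem_univ j)
    refine Fintype.linearIndependent_iff.1 (Module.finBasis k (W j)).linearIndependent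
      (fun i => g ⟨j, i⟩) ?_ i
    exact Subtype.ext (by simpa using this)
  have := li.fintype_card_le_finrank
  simpa using this

theorem card_le_finrank [FiniteDimensional k V] {J : Type*} [Fintype J]
    {X : ι → Module.End k V} {f : J → ι → k} (hf : Function.Injective f)
    (hne : ∀ j, joint X (f j) ≠ ⊥) : Fintype.card J ≤ finrank k V := by
  have := mul_card_le_finrank (X := X) hf 1 (fun j => joint X (f j)) (fun j => le_rfl)
    (fun j => Submodule.one_le_finrank_iff.2 (hne j))
  omega

/-- commuting involutions have a common eigenvector in any invariant nonzero subspace -/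
theorem exists_joint (h2 : (2 : k) ≠ 0) (X : ι → Module.End k V)
    (hsq : ∀ i v, X i (X i v) = v) (hcomm : ∀ i j v, X i (X j v) = X j (X i v)) (l : List ι)
    (W : Submodule k V) (hW : W ≠ ⊥) (hinv : ∀ i, ∀ v ∈ W, X i v ∈ W) :
    ∃ v ∈ W, v ≠ 0 ∧ ∀ i ∈ l, X i v = v ∨ X i v = -v := by
  induction l generalizing W with
  | nil =>
    obtain ⟨v, hv, hv0⟩ := (Submodule.ne_bot_iff W).1 hW
    exact ⟨v, hv, hv0, by simp⟩
  | cons a l ih =>
    by_cases hbot : W ⊓ LinearMap.ker (X a - 1) = ⊥
    · obtain ⟨v, hv, hv0, hl⟩ := ih W hW hinv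
      refine ⟨v, hv, hv0, ?_⟩
      intro i hi
      rcases List.mem_cons.1 hi with rfl | hi
      · right
        have hm : v + X i v ∈ W ⊓ LinearMap.ker (X i - 1) :=
          ⟨add_mem hv (hinv i v hv), by
            rw [SetLike.mem_coe, LinearMap.mem_ker, LinearMap.sub_apply, Module.End.one_apply,
              map_add, hsq]
            abel⟩
        rw [hbot, Submodule.mem_bot] at hm
        rw [← add_eq_zero_iff_eq_neg, add_comm]
        exact hm
      · exact hl i hi
    · obtain ⟨v, hv, hv0, hl⟩ := ih _ hbot (fun i v hv => ⟨hinv i v hv.1, by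
        have h1 : X a v = v := by
          simpa [LinearMap.mem_ker, sub_eq_zero] using hv.2
        rw [SetLike.mem_coe, LinearMap.mem_ker, LinearMap.sub_apply, Module.End.one_apply,
          hcomm, h1, sub_self]⟩)
      refine ⟨v, hv.1, hv0, ?_⟩
      intro i hi
      rcases List.mem_cons.1 hi with rfl | hi
      · left; simpa [LinearMap.mem_ker, sub_eq_zero] using hv.2
      · exact hl i hi

end Cfsg.Agent.AltSec
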