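import Cfsg.Agent.AltSec.Dich
import Cfsg.Agent.AltSec.Joint

/-! Two disjoint five-cycles in a representation of degree at most nine. -/

namespace Cfsg.Agent.AltSec

open Equiv Module

variable {k V : Type*} [Field k] [AddCommGroup V] [Module k V] {r : ℕ}

section Proj

variable {ζ : k} (X : GV k V)

/-- powers of a fifth root of unity -/
def z5 (ζ : k) (a : Fin 5) : k := ζ ^ a.val

theorem z5_add (hζ : IsPrimitiveRoot ζ 5) (a b : Fin 5) : z5 ζ (a + b) = z5 ζ a * z5 ζ b := by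
  rw [z5, z5, z5, ← pow_add, Fin.val_add, ← pow_eq_pow_mod _ hζ.pow_eq_one]

theorem z5_injective (hζ : IsPrimitiveRoot ζ 5) : Function.Injective (z5 ζ) := fun a b h =>
  Fin.ext (hζ.pow_inj a.isLt b.isLt h)

theorem z5_zero : z5 ζ 0 = 1 := by simp [z5]

theorem shift5 : ∀ a j : Fin 5, -1 * j + -a * j = -(a + 1) * j := by decide

theorem three_mul5 : ∀ c : Fin 5, 3 * c = c + c + c := by decide

theorem sum_z5 (hζ : IsPrimitiveRoot ζ 5) {j : Fin 5} (hj : j ≠ 0) :
    ∑ a : Fin 5, z5 ζ (-a * j) = 0 := by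
  have h1 : z5 ζ (-1 * j) ≠ 1 := by
    rw [← z5_zero (ζ := ζ)]
    refine (z5_injective hζ).ne ?_
    revert hj; revert j; decide
  have h2 : z5 ζ (-1 * j) * ∑ a : Fin 5, z5 ζ (-a * j) = ∑ a : Fin 5, z5 ζ (-a * j) := by
    rw [Finset.mul_sum]
    refine Fintype.sum_equiv (Equiv.addRight (1 : Fin 5)) _ _ fun a => ?_
    simp only [Equiv.coe_addRight]
    rw [← z5_add hζ, shift5]
  have h3 : (z5 ζ (-1 * j) - 1) * ∑ a : Fin 5, z5 ζ (-a * j) = 0 := by
    rw [sub_mul, h2, one_mul, sub_self]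
  exact (mul_eq_zero.1 h3).resolve_left (sub_ne_zero.2 h1)

/-- projection onto the `ζ ^ a` eigenspace of an operator of order five -/
noncomputable def proj5 (ζ : k) (X : GV k V) (a : Fin 5) : Module.End k V :=
  (5 : k)⁻¹ • ∑ j : Fin 5, z5 ζ (-a * j) • ((X ^ j.val : GV k V) : Module.End k V)

theorem pow_val_add (hX : X ^ 5 = 1) (i j : Fin 5) : X ^ (i + j).val = X ^ i.val * X ^ j.val := by
  rw [← pow_add, Fin.val_add, ← pow_eq_pow_mod _ hX]

theorem apply_proj5 (hζ : IsPrimitiveRoot ζ 5) (hX : X ^ 5 = 1) (a : Fin 5) (v : V) :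
    (X : Module.End k V) (proj5 ζ X a v) = z5 ζ a • proj5 ζ X a v := by
  simp only [proj5, LinearMap.smul_apply, LinearMap.sum_apply, map_smul, map_sum]
  rw [smul_comm (z5 ζ a), Finset.smul_sum (r := z5 ζ a)]
  congr 1
  refine Fintype.sum_equiv (Equiv.addRight (1 : Fin 5)) _ _ fun j => ?_
  simp only [Equiv.coe_addRight]
  rw [smul_smul, ← z5_add hζ]
  congr 1
  · congr 1
    revert a j; decide
  · rw [← gv_mul_apply', add_comm, pow_val_add X hX, show ((1 : Fin 5).val) = 1 from rfl, pow_one]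
where
  gv_mul_apply' {X Y : GV k V} {v : V} :
      ((X * Y : GV k V) : Module.End k V) v = (X : Module.End k V) ((Y : Module.End k V) v) := by
    rw [Units.val_mul, Module.End.mul_apply]

theorem sum_proj5 (hζ : IsPrimitiveRoot ζ 5) (h5 : (5 : k) ≠ 0) (v : V) :
    ∑ a, proj5 ζ X a v = v := by
  simp only [proj5, LinearMap.smul_apply, LinearMap.sum_apply]
  rw [← Finset.smul_sum, Finset.sum_comm]
  rw [Finset.sum_eq_single (0 : Fin 5)]
  · simp [z5_zero, ← Nat.cast_smul_eq_nsmul k, smul_smul, inv_mul_cancel₀ h5]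
  · intro j _ hj
    rw [← Finset.sum_smul, sum_z5 hζ hj, zero_smul]
  · simp

theorem proj5_mem {W : Submodule k V} (hW : ∀ v ∈ W, (X : Module.End k V) v ∈ W) (a : Fin 5)
    {v : V} (hv : v ∈ W) : proj5 ζ X a v ∈ W := by
  simp only [proj5, LinearMap.smul_apply, LinearMap.sum_apply]
  refine Submodule.smul_mem _ _ (Submodule.sum_mem _ fun j _ => Submodule.smul_mem _ _ ?_)
  induction j.val with
  | zero => simpa using hv
  | succ n ih =>
    rw [pow_succ', Units.val_mul, Module.End.mul_apply]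
    exact hW _ ih

end Proj

theorem sign_via {m : ℕ} (ι : Fin m ↪ Fin r) {σ : Perm (Fin m)} (hσ : Perm.sign σ = 1) :
    Perm.sign (Perm.viaEmbeddingHom ι σ) = 1 := by
  rw [Perm.viaEmbeddingHom_apply]
  classical
  simp [Perm.viaEmbedding, hσ]

/-! ### permutations of ten points -/

def x10 : Perm (Fin 10) := swap 0 1 * swap 1 2 * swap 2 3 * swap 3 4
def y10 : Perm (Fin 10) := swap 5 6 * swap 6 7 * swap 7 8 * swap 8 9
def hx10 : Perm (Fin 10) := swap 1 4 * swap 2 3
def hy10 : Perm (Fin 10) := swap 6 9 * swap 7 8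
def g10 : Perm (Fin 10) := swap 1 2 * swap 2 4 * swap 4 3 * (swap 6 7 * swap 7 9 * swap 9 8)
def s10 : Perm (Fin 10) :=
  swap 1 7 * swap 7 2 * swap 2 9 * swap 9 4 * swap 4 8 * swap 8 3 * swap 3 6 * swap 0 5

set_option maxRecDepth 100000 in
theorem signs10 : Perm.sign x10 = 1 ∧ Perm.sign y10 = 1 ∧ Perm.sign hx10 = 1 ∧
    Perm.sign hy10 = 1 ∧ Perm.sign g10 = 1 ∧ Perm.sign s10 = 1 := by
  simp [x10, y10, hx10, hy10, g10, s10, Perm.sign_mul, Perm.sign_swap']

set_option maxRecDepth 100000 in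
theorem rel10 : x10 ^ 5 = 1 ∧ y10 ^ 5 = 1 ∧ hx10 ^ 2 = 1 ∧ hy10 ^ 2 = 1 ∧
    hx10 * x10 * hx10⁻¹ = x10⁻¹ ∧ hy10 * y10 * hy10⁻¹ = y10⁻¹ ∧
    hx10 * y10 = y10 * hx10 ∧ hy10 * x10 = x10 * hy10 ∧ x10 * y10 = y10 * x10 := by decide

set_option maxRecDepth 100000 in
theorem rel10g : g10 * x10 * g10⁻¹ = x10 ^ 2 ∧ g10 * y10 * g10⁻¹ = y10 ^ 2 ∧
    g10 * hx10 * g10⁻¹ = hx10 ∧ g10 * hy10 * g10⁻¹ = hy10 := by decide

set_option maxRecDepth 100000 in
theorem rel10s : s10 * x10 * s10⁻¹ = y10 ^ 2 ∧ s10 * y10 * s10⁻¹ = x10 ∧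
    s10 * hx10 * s10⁻¹ = hy10 ∧ s10 * hy10 * s10⁻¹ = hx10 := by decide

theorem y10_fix : ∀ i : Fin 10, i.val < 5 → y10 i = i := by decide

/-- one step in the orbit of a weight -/
def step10 (z : Fin 5 × Fin 5) : Finset (Fin 5 × Fin 5) :=
  {(-z.1, z.2), (z.1, -z.2), (3 * z.1, 3 * z.2), (z.2, 3 * z.1)}

/-- the orbit of a weight, up to six steps -/
def orb10 : ℕ → Fin 5 × Fin 5 → Finset (Fin 5 × Fin 5)
  | 0, z => {z}
  | n + 1, z => orb10 n z ∪ (orb10 n z).biUnion step10

/-- the class of a weight -/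
def cls10 (z : Fin 5 × Fin 5) : Fin 4 :=
  if z = (0, 0) then 0 else if z.1 = 0 ∨ z.2 = 0 then 1
  else if z.1 = z.2 ∨ z.1 = -z.2 then 2 else 3

set_option maxRecDepth 100000 in
theorem orb10_cls : ∀ z z' : Fin 5 × Fin 5, cls10 z = cls10 z' → z' ∈ orb10 6 z := by decide

set_option maxRecDepth 100000 in
theorem cls10_card : ∀ c : Fin 4, c ≠ 0 →
    (Finset.univ.filter fun z => cls10 z = c).card = 8 := by decide

set_option maxRecDepth 100000 in
theorem line10 : ∀ e : Fin 5,
    (Finset.univ.filter fun z : Fin 5 × Fin 5 =>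
      (cls10 z = 2 ∨ cls10 z = 0) ∧ z.1 + 2 * z.2 = e).card ≤ 3 ∧
    (Finset.univ.filter fun z : Fin 5 × Fin 5 =>
      (cls10 z = 3 ∨ cls10 z = 0) ∧ z.1 + z.2 = e).card ≤ 3 := by decide

set_option maxRecDepth 100000 in
theorem kernel10 : (Finset.univ.filter fun z : Fin 5 × Fin 5 =>
      cls10 z = 2 ∧ z.1 + z.2 = 0).card = 4 ∧
    (Finset.univ.filter fun z : Fin 5 × Fin 5 =>
      cls10 z = 3 ∧ z.1 + 2 * z.2 = 0).card = 4 := by decide

theorem axis10 : ∀ z : Fin 5 × Fin 5, z.2 ≠ 0 → (cls10 z = 1 ∨ cls10 z = 0) → z.1 = 0 := by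
  decide

namespace PRep

variable {ρ : PRep k V r}

theorem exists_canon5 [IsAlgClosed k] {σ h : Perm (Fin r)} (hσ : Perm.sign σ = 1)
    (hh : Perm.sign h = 1) (h5 : σ ^ 5 = 1) (hinv : h * σ * h⁻¹ = σ⁻¹) :
    ∃ X, ρ.Lifts σ X ∧ X ^ 5 = 1 ∧ ρ.f h * X * (ρ.f h)⁻¹ = X⁻¹ := by
  have := ρ.nt
  obtain ⟨c, hc⟩ := pow_scalar hσ (ρ.lifts_f σ) h5
  obtain ⟨e, he⟩ := IsAlgClosed.exists_pow_nat_eq ((c⁻¹ : kˣ) : k) (show 0 < 5 by norm_num)
  have he0 : e ≠ 0 := by
    rintro rfl
    rw [zero_pow (by norm_num)] at he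
    exact (c⁻¹).ne_zero he.symm
  obtain ⟨u, hu⟩ : ∃ u : kˣ, (u : k) = e := ⟨Units.mk0 e he0, rfl⟩
  have hu5 : u ^ 5 = c⁻¹ := Units.ext (by rw [Units.val_pow_eq_pow_val, hu, he])
  set Z := sc u * ρ.f σ with hZ
  have hZ5 : Z ^ 5 = 1 := by
    rw [hZ, (sc_commute u _).mul_pow, hc, ← map_pow, ← map_mul, hu5, inv_mul_cancel, map_one]
  have lZ : ρ.Lifts σ Z := (ρ.lifts_f σ).smul u
  have l1 := (ρ.lifts_f h).conj hh hσ lZ
  rw [hinv] at l1
  obtain ⟨lam, hlam⟩ := (lZ.inv hσ).unique l1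
  have hlam5 : lam ^ 5 = 1 := by
    have h1 : (ρ.f h * Z * (ρ.f h)⁻¹) ^ 5 = 1 := by rw [conj_pow, hZ5]; group
    rw [hlam, (sc_commute lam _).mul_pow, inv_pow, hZ5, inv_one, mul_one, ← map_pow] at h1
    exact sc_injective (by rw [h1, map_one])
  refine ⟨sc (lam ^ 2) * Z, lZ.smul _, ?_, ?_⟩
  · rw [(sc_commute _ _).mul_pow, hZ5, mul_one, ← map_pow, ← pow_mul, pow_mul', hlam5, one_pow,
      map_one]
  · calc ρ.f h * (sc (lam ^ 2) * Z) * (ρ.f h)⁻¹
        = sc (lam ^ 2) * (ρ.f h * Z * (ρ.f h)⁻¹) := by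
          rw [← mul_assoc (ρ.f h), ← sc_comm (lam ^ 2) (ρ.f h)]; group
      _ = sc (lam ^ 2 * lam) * Z⁻¹ := by rw [hlam, map_mul]; group
      _ = sc ((lam ^ 2)⁻¹) * Z⁻¹ := by
          congr 2
          rw [eq_inv_iff_mul_eq_one, ← pow_succ, ← pow_add]
          exact hlam5
      _ = (sc (lam ^ 2) * Z)⁻¹ := by rw [map_inv, sc_comm (lam ^ 2) Z]; group

theorem canon5_unique {σ h : Perm (Fin r)} {X X' H H' : GV k V} (lX : ρ.Lifts σ X)
    (lX' : ρ.Lifts σ X') (lH : ρ.Lifts h H) (lH' : ρ.Lifts h H') (hX : X ^ 5 = 1)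
    (hX' : X' ^ 5 = 1) (hH : H * X * H⁻¹ = X⁻¹) (hH' : H' * X' * H'⁻¹ = X'⁻¹) : X' = X := by
  have := ρ.nt
  obtain ⟨c, rfl⟩ := lX.unique lX'
  obtain ⟨d, rfl⟩ := lH.unique lH'
  have hc5 : c ^ 5 = 1 := by
    rw [(sc_commute c _).mul_pow, hX, mul_one, ← map_pow] at hX'
    exact sc_injective (by rw [hX', map_one])
  have e : sc d * H * (sc c * X) * (sc d * H)⁻¹ = sc c * X⁻¹ := by
    calc sc d * H * (sc c * X) * (sc d * H)⁻¹
        = sc d * (H * sc c) * X * H⁻¹ * (sc d)⁻¹ := by group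
      _ = sc d * (sc c * (H * X * H⁻¹)) * (sc d)⁻¹ := by rw [← sc_comm c H]; group
      _ = sc c * X⁻¹ := by rw [hH, sc_comm d]; group
  rw [e, mul_inv_rev, ← map_inv, ← sc_comm] at hH'
  have hc2 : c = c⁻¹ := sc_injective (mul_right_cancel hH')
  have hc2' : c ^ 2 = 1 := by
    rw [pow_two]; nth_rewrite 2 [hc2]; rw [mul_inv_cancel]
  have : c = 1 := by
    calc c = c ^ 5 * (c ^ 2)⁻¹ * (c ^ 2)⁻¹ := by group
      _ = 1 := by rw [hc5, hc2']; group
  rw [this, map_one, one_mul]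

/-- the two five-cycles, normalised -/
structure Pair5 (ρ : PRep k V r) (p : Fin 10 ↪ Fin r) (X Y : GV k V) : Prop where
  lX : ρ.Lifts (Perm.viaEmbeddingHom p x10) X
  lY : ρ.Lifts (Perm.viaEmbeddingHom p y10) Y
  X5 : X ^ 5 = 1
  Y5 : Y ^ 5 = 1
  HX : ρ.f (Perm.viaEmbeddingHom p hx10) * X * (ρ.f (Perm.viaEmbeddingHom p hx10))⁻¹ = X⁻¹
  HY : ρ.f (Perm.viaEmbeddingHom p hy10) * Y * (ρ.f (Perm.viaEmbeddingHom p hy10))⁻¹ = Y⁻¹

variable {p : Fin 10 ↪ Fin r} {X Y : GV k V}

theorem exists_pair5 [IsAlgClosed k] (p : Fin 10 ↪ Fin r) : ∃ X Y, ρ.Pair5 p X Y := by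
  obtain ⟨s1, s2, s3, s4, -, -⟩ := signs10
  obtain ⟨r1, r2, -, -, r5, r6, -, -, -⟩ := rel10
  obtain ⟨X, lX, X5, HX⟩ := exists_canon5 (ρ := ρ) (sign_via p s1) (sign_via p s3)
    (by rw [← map_pow, r1, map_one]) (by rw [← map_inv, ← map_mul, ← map_mul, r5, map_inv])
  obtain ⟨Y, lY, Y5, HY⟩ := exists_canon5 (ρ := ρ) (sign_via p s2) (sign_via p s4)
    (by rw [← map_pow, r2, map_one]) (by rw [← map_inv, ← map_mul, ← map_mul, r6, map_inv])
  exact ⟨X, Y, lX, lY, X5, Y5, HX, HY⟩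

theorem Pair5.hx_Y (P : ρ.Pair5 p X Y) : Commute (ρ.f (Perm.viaEmbeddingHom p hx10)) Y := by
  obtain ⟨-, s2, s3, -, -, -⟩ := signs10
  obtain ⟨-, r2, r3, -, -, -, r7, -, -⟩ := rel10
  exact (cm_of_coprime (sign_via p s3) (sign_via p s2) ((Commute.map r7 _))
    (a := 2) (b := 5) (by rw [← map_pow, r3, map_one]) (by rw [← map_pow, r2, map_one])
    (by norm_num)).lifts (ρ.lifts_f _) P.lY

theorem Pair5.hy_X (P : ρ.Pair5 p X Y) : Commute (ρ.f (Perm.viaEmbeddingHom p hy10)) X := by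
  obtain ⟨s1, -, -, s4, -, -⟩ := signs10
  obtain ⟨r1, -, -, r4, -, -, -, r8, -⟩ := rel10
  exact (cm_of_coprime (sign_via p s4) (sign_via p s1) ((Commute.map r8 _))
    (a := 2) (b := 5) (by rw [← map_pow, r4, map_one]) (by rw [← map_pow, r1, map_one])
    (by norm_num)).lifts (ρ.lifts_f _) P.lX

theorem Pair5.comm (P : ρ.Pair5 p X Y) : Commute X Y := by
  have := ρ.nt
  obtain ⟨s1, s2, -, -, -, -⟩ := signs10
  obtain ⟨r1, r2, -, -, -, -, -, -, r9⟩ := rel10
  obtain ⟨c, hc⟩ := exists_scalar (sign_via p s1) (sign_via p s2) P.lX P.lY (Commute.map r9 _)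
  have h5 : c ^ 5 = 1 := scalar_pow_eq_one (sign_via p s2) P.lY (by rw [← map_pow, r2, map_one]) hc
  set H := ρ.f (Perm.viaEmbeddingHom p hx10)
  have hY : H * Y * H⁻¹ = Y := by
    have hcm : Commute H Y := P.hx_Y
    rw [hcm.eq]; group
  have h1 : X⁻¹ * Y = sc c * (Y * X⁻¹) :=
    scalar_conj (μ := 1) (ν := 1) (G := H) hc (by rw [P.HX, map_one, one_mul])
      (by rw [hY, map_one, one_mul])
  have h2 : Y * X = sc c * (X * Y) := by
    calc Y * X = X * (X⁻¹ * Y) * X := by group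
      _ = X * sc c * Y := by rw [h1]; group
      _ = sc c * X * Y := by rw [sc_comm c X]
      _ = _ := by group
  have h3 : X * Y = sc (c * c) * (X * Y) := by
    conv_lhs => rw [hc, h2]
    rw [map_mul]; group
  have hc2 : c * c = 1 := sc_injective (by rw [map_one]; exact mul_eq_right.1 h3.symm)
  have : c = 1 := by
    calc c = c ^ 5 * (c * c)⁻¹ * (c * c)⁻¹ := by group
      _ = 1 := by rw [h5, hc2]; group
  rw [this, map_one, one_mul] at hc
  exact hc

/-- a weight space -/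
noncomputable def wt5 (ζ : k) (X Y : GV k V) (z : Fin 5 × Fin 5) : Submodule k V :=
  joint ![(X : Module.End k V), (Y : Module.End k V)] ![z5 ζ z.1, z5 ζ z.2]

theorem mem_wt5 {ζ : k} {X Y : GV k V} {z : Fin 5 × Fin 5} {v : V} :
    v ∈ wt5 ζ X Y z ↔ (X : Module.End k V) v = z5 ζ z.1 • v ∧
      (Y : Module.End k V) v = z5 ζ z.2 • v := by
  simp [wt5, mem_joint, Fin.forall_fin_two]

theorem wt5_injective {ζ : k} (hζ : IsPrimitiveRoot ζ 5) :
    Function.Injective (fun z : Fin 5 × Fin 5 => ![z5 ζ z.1, z5 ζ z.2]) := by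
  intro z z' h
  exact Prod.ext (z5_injective hζ (congrFun h 0)) (z5_injective hζ (congrFun h 1))

theorem gv_apply_mul (A B : GV k V) (v : V) :
    ((A * B : GV k V) : Module.End k V) v = (A : Module.End k V) ((B : Module.End k V) v) := by
  rw [Units.val_mul, Module.End.mul_apply]

theorem eig_pow {A : GV k V} {c : k} {v : V} (h : (A : Module.End k V) v = c • v) (n : ℕ) :
    ((A ^ n : GV k V) : Module.End k V) v = c ^ n • v := by
  induction n with
  | zero => simp
  | succ n ih => rw [pow_succ, gv_apply_mul, h, map_smul, ih, smul_smul, pow_succ']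

theorem eig_inv {A : GV k V} {c : k} {v : V} (hc : c ≠ 0) (h : (A : Module.End k V) v = c • v) :
    ((A⁻¹ : GV k V) : Module.End k V) v = c⁻¹ • v := by
  have h1 := congrArg ((A⁻¹ : GV k V) : Module.End k V) h
  rw [← gv_apply_mul, inv_mul_cancel, Units.val_one, Module.End.one_apply, map_smul] at h1
  conv_rhs => rw [h1, smul_smul, inv_mul_cancel₀ hc, one_smul]

theorem eig_conj {A A' G : GV k V} {c : k} {v : V} (hA : G * A * G⁻¹ = A')
    (h : (A : Module.End k V) v = c • v) :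
    (A' : Module.End k V) ((G : Module.End k V) v) = c • (G : Module.End k V) v := by
  rw [← gv_apply_mul, ← hA, show G * A * G⁻¹ * G = G * A by group, gv_apply_mul, h, map_smul]

theorem z5_ne_zero {ζ : k} (hζ : IsPrimitiveRoot ζ 5) (a : Fin 5) : z5 ζ a ≠ 0 :=
  pow_ne_zero _ (hζ.ne_zero (by norm_num))

theorem z5_inv {ζ : k} (hζ : IsPrimitiveRoot ζ 5) (a : Fin 5) : (z5 ζ a)⁻¹ = z5 ζ (-a) := by
  refine inv_eq_of_mul_eq_one_right ?_
  rw [← z5_add hζ, add_neg_cancel, z5_zero]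

variable [FiniteDimensional k V]

theorem finrank_le_of_maps {W W' : Submodule k V} (G : GV k V)
    (h : ∀ v ∈ W, (G : Module.End k V) v ∈ W') : finrank k W ≤ finrank k W' := by
  refine LinearMap.finrank_le_finrank_of_injective
    (f := (G : Module.End k V).restrict h) ?_
  intro x y hxy
  refine Subtype.ext ?_
  have h1 := congrArg (fun u : W' => ((G⁻¹ : GV k V) : Module.End k V) (u : V)) hxy
  simpa [← gv_apply_mul, LinearMap.restrict_apply] using h1

theorem Pair5.step (P : ρ.Pair5 p X Y) {ζ : k} (hζ : IsPrimitiveRoot ζ 5) (z : Fin 5 × Fin 5) :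
    ∀ z' ∈ step10 z, finrank k (wt5 ζ X Y z) ≤ finrank k (wt5 ζ X Y z') := by
  obtain ⟨s1, s2, s3, s4, s5, s6⟩ := signs10
  obtain ⟨r1, r2, -, -, -, -, -, -, -⟩ := rel10
  obtain ⟨g1, g2, g3, g4⟩ := rel10g
  obtain ⟨t1, t2, t3, t4⟩ := rel10s
  have hp : ∀ a b : Perm (Fin 10), Perm.viaEmbeddingHom p a * Perm.viaEmbeddingHom p b *
      (Perm.viaEmbeddingHom p a)⁻¹ = Perm.viaEmbeddingHom p (a * b * a⁻¹) := by
    intro a b; rw [map_mul, map_mul, map_inv]
  -- transport of the normalised lifts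
  have move : ∀ (g σ σ' h h' : Perm (Fin 10)) (A A' : GV k V), Perm.sign g = 1 →
      Perm.sign σ = 1 → Perm.sign h = 1 → g * σ * g⁻¹ = σ' → g * h * g⁻¹ = h' →
      ρ.Lifts (Perm.viaEmbeddingHom p σ) A → A ^ 5 = 1 →
      ρ.f (Perm.viaEmbeddingHom p h) * A * (ρ.f (Perm.viaEmbeddingHom p h))⁻¹ = A⁻¹ →
      ρ.Lifts (Perm.viaEmbeddingHom p σ') A' → A' ^ 5 = 1 →
      ρ.f (Perm.viaEmbeddingHom p h') * A' * (ρ.f (Perm.viaEmbeddingHom p h'))⁻¹ = A'⁻¹ →
      ρ.f (Perm.viaEmbeddingHom p g) * A * (ρ.f (Perm.viaEmbeddingHom p g))⁻¹ = A' := by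
    intro g σ σ' h h' A A' hg hσ hh e1 e2 lA hA5 hAi lA' hA'5 hA'i
    have lG := ρ.lifts_f (Perm.viaEmbeddingHom p g)
    have l1 := lG.conj (sign_via p hg) (sign_via p hσ) lA
    have l2 := lG.conj (sign_via p hg) (sign_via p hh) (ρ.lifts_f (Perm.viaEmbeddingHom p h))
    rw [hp, e1] at l1
    rw [hp, e2] at l2
    refine (canon5_unique lA' l1 (ρ.lifts_f _) l2 hA'5 ?_ hA'i ?_)
    · rw [conj_pow, hA5]; group
    · set G := ρ.f (Perm.viaEmbeddingHom p g)
      set H := ρ.f (Perm.viaEmbeddingHom p h)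
      calc G * H * G⁻¹ * (G * A * G⁻¹) * (G * H * G⁻¹)⁻¹ = G * (H * A * H⁻¹) * G⁻¹ := by group
        _ = (G * A * G⁻¹)⁻¹ := by rw [hAi]; group
  -- squares
  have sq : ∀ (σ h : Perm (Fin 10)) (A : GV k V), Perm.sign σ = 1 →
      ρ.Lifts (Perm.viaEmbeddingHom p σ) A → A ^ 5 = 1 →
      ρ.f (Perm.viaEmbeddingHom p h) * A * (ρ.f (Perm.viaEmbeddingHom p h))⁻¹ = A⁻¹ →
      ρ.Lifts (Perm.viaEmbeddingHom p (σ ^ 2)) (A ^ 2) ∧ (A ^ 2) ^ 5 = 1 ∧
      ρ.f (Perm.viaEmbeddingHom p h) * A ^ 2 * (ρ.f (Perm.viaEmbeddingHom p h))⁻¹ = (A ^ 2)⁻¹ := by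
    intro σ h A hσ lA hA5 hAi
    refine ⟨by rw [map_pow]; exact lA.pow (sign_via p hσ) 2,
      by rw [← pow_mul, pow_mul', hA5, one_pow], ?_⟩
    rw [← conj_pow, hAi, inv_pow]
  obtain ⟨lX2, hX25, hX2i⟩ := sq _ _ X s1 P.lX P.X5 P.HX
  obtain ⟨lY2, hY25, hY2i⟩ := sq _ _ Y s2 P.lY P.Y5 P.HY
  have gX := move g10 x10 (x10 ^ 2) hx10 hx10 X (X ^ 2) s5 s1 s3 g1 g3 P.lX P.X5 P.HX lX2 hX25 hX2i
  have gY := move g10 y10 (y10 ^ 2) hy10 hy10 Y (Y ^ 2) s5 s2 s4 g2 g4 P.lY P.Y5 P.HY lY2 hY25 hY2i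
  have sX := move s10 x10 (y10 ^ 2) hx10 hy10 X (Y ^ 2) s6 s1 s3 t1 t3 P.lX P.X5 P.HX lY2 hY25 hY2i
  have sY := move s10 y10 x10 hy10 hx10 Y X s6 s2 s4 t2 t4 P.lY P.Y5 P.HY P.lX P.X5 P.HX
  have hxY : ρ.f (Perm.viaEmbeddingHom p hx10) * Y * (ρ.f (Perm.viaEmbeddingHom p hx10))⁻¹ = Y := by
    rw [P.hx_Y.eq]; group
  have hyX : ρ.f (Perm.viaEmbeddingHom p hy10) * X * (ρ.f (Perm.viaEmbeddingHom p hy10))⁻¹ = X := by
    rw [P.hy_X.eq]; group
  have hneg : ∀ (G A : GV k V) (c : Fin 5) (v : V), G * A * G⁻¹ = A⁻¹ →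
      (A : Module.End k V) v = z5 ζ c • v →
      (A : Module.End k V) ((G : Module.End k V) v) = z5 ζ (-c) • (G : Module.End k V) v := by
    intro G A c v hA h
    have h1 := eig_inv (z5_ne_zero hζ c) (eig_conj hA h)
    rwa [inv_inv, z5_inv hζ] at h1
  have hsq : ∀ (G A B : GV k V) (c : Fin 5) (v : V), G * A * G⁻¹ = B ^ 2 → B ^ 5 = 1 →
      (A : Module.End k V) v = z5 ζ c • v →
      (B : Module.End k V) ((G : Module.End k V) v) = z5 ζ (3 * c) • (G : Module.End k V) v := by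
    intro G A B c v hA hB h
    have h1 := eig_pow (eig_conj hA h) 3
    rw [← pow_mul, show B ^ (2 * 3) = B ^ 5 * B by rw [← pow_succ], hB, one_mul] at h1
    rw [h1]
    congr 1
    rw [three_mul5 c, z5_add hζ, z5_add hζ]
    ring
  intro z' hz'
  simp only [step10, Finset.mem_insert, Finset.mem_singleton] at hz'
  rcases hz' with rfl | rfl | rfl | rfl
  · exact finrank_le_of_maps _ fun v hv => mem_wt5.2
      ⟨hneg _ _ _ _ P.HX (mem_wt5.1 hv).1, eig_conj hxY (mem_wt5.1 hv).2⟩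
  · exact finrank_le_of_maps _ fun v hv => mem_wt5.2
      ⟨eig_conj hyX (mem_wt5.1 hv).1, hneg _ _ _ _ P.HY (mem_wt5.1 hv).2⟩
  · exact finrank_le_of_maps _ fun v hv => mem_wt5.2
      ⟨hsq _ _ _ _ _ gX P.X5 (mem_wt5.1 hv).1, hsq _ _ _ _ _ gY P.Y5 (mem_wt5.1 hv).2⟩
  · exact finrank_le_of_maps _ fun v hv => mem_wt5.2
      ⟨eig_conj sY (mem_wt5.1 hv).2, hsq _ _ _ _ _ sX P.Y5 (mem_wt5.1 hv).1⟩

theorem Pair5.orbit_le (P : ρ.Pair5 p X Y) {ζ : k} (hζ : IsPrimitiveRoot ζ 5) :
    ∀ (n : ℕ) (z z' : Fin 5 × Fin 5), z' ∈ orb10 n z →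
      finrank k (wt5 ζ X Y z) ≤ finrank k (wt5 ζ X Y z')
  | 0, z, z', h => by rw [orb10, Finset.mem_singleton] at h; rw [h]
  | n + 1, z, z', h => by
    rw [orb10, Finset.mem_union, Finset.mem_biUnion] at h
    rcases h with h | ⟨y, hy, hy'⟩
    · exact P.orbit_le hζ n z z' h
    · exact (P.orbit_le hζ n z y hy).trans (P.step hζ y z' hy')

/-- two disjoint five-cycles in degree at most nine: the first five-point alternating group
acts by scalars on a subspace of dimension at least four -/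
theorem five [IsAlgClosed k] (h5 : (5 : k) ≠ 0) (hn : finrank k V ≤ 9) (p : Fin 10 ↪ Fin r) :
    ∃ U : Submodule k V, 4 ≤ finrank k U ∧
      ∀ σ : Perm (Fin 5), Perm.sign σ = 1 → ∀ Z,
        ρ.Lifts (Perm.viaEmbeddingHom ((Fin.castLEEmb (show 5 ≤ 10 by norm_num)).trans p) σ) Z →
        ∃ c : k, ∀ v ∈ U, (Z : Module.End k V) v = c • v := by
  classical
  have := ρ.nt
  haveI : NeZero (5 : k) := ⟨h5⟩
  obtain ⟨ζ, hζ⟩ := HasEnoughRootsOfUnity.exists_primitiveRoot k 5
  obtain ⟨X, Y, P⟩ := exists_pair5 (ρ := ρ) p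
  obtain ⟨s1, s2, -, -, -, -⟩ := signs10
  obtain ⟨r1, r2, -, -, -, -, -, -, r9⟩ := rel10
  set M := fun z => finrank k (wt5 ζ X Y z) with hM
  have heq : ∀ z z', cls10 z = cls10 z' → M z = M z' := fun z z' h =>
    le_antisymm (P.orbit_le hζ 6 z z' (orb10_cls z z' h))
      (P.orbit_le hζ 6 z' z (orb10_cls z' z h.symm))
  have htot : ∑ z, M z ≤ 9 :=
    (sum_finrank_le (wt5_injective hζ) (fun z => wt5 ζ X Y z) (fun z => le_rfl)).trans hn
  -- decomposition of invariant subspaces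
  have hdec : ∀ W : Submodule k V, (∀ v ∈ W, (X : Module.End k V) v ∈ W) →
      (∀ v ∈ W, (Y : Module.End k V) v ∈ W) → ∀ v ∈ W, ∃ u : Fin 5 × Fin 5 → V,
        ∑ z, u z = v ∧ ∀ z, u z ∈ W ∧ u z ∈ wt5 ζ X Y z := by
    intro W hWX hWY v hv
    refine ⟨fun z => proj5 ζ Y z.2 (proj5 ζ X z.1 v), ?_, fun z =>
      ⟨proj5_mem Y hWY _ (proj5_mem X hWX _ hv), mem_wt5.2 ⟨?_, apply_proj5 Y hζ P.Y5 _ _⟩⟩⟩
    · rw [Fintype.sum_prod_type]
      simp only [sum_proj5 Y hζ h5, sum_proj5 X hζ h5]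
    · have hmem : proj5 ζ X z.1 v ∈
          LinearMap.ker ((X : Module.End k V) - z5 ζ z.1 • (1 : Module.End k V)) := by
        simp [apply_proj5 X hζ P.X5]
      have := proj5_mem (ζ := ζ) Y (W := LinearMap.ker ((X : Module.End k V) -
          z5 ζ z.1 • (1 : Module.End k V))) (fun u hu => by
        simp only [LinearMap.mem_ker, LinearMap.sub_apply, LinearMap.smul_apply,
          Module.End.one_apply, sub_eq_zero] at hu ⊢
        rw [← gv_apply_mul, P.comm.eq, gv_apply_mul, hu, map_smul]) z.2 hmem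
      simpa [sub_eq_zero] using this
  -- a weight with nontrivial first coordinate
  have hex : ∃ z, cls10 z ≠ 0 ∧ 1 ≤ M z := by
    by_contra! hnone
    refine P.lX.not_scalar (sign_via p s1) (fun h1 => ?_) 1 ?_
    · exact (by decide : x10 ≠ 1) (Perm.viaEmbeddingHom_injective p (h1.trans (map_one _).symm))
    apply Units.ext; apply LinearMap.ext; intro v
    obtain ⟨u, hu, hmem⟩ := hdec ⊤ (fun _ _ => trivial) (fun _ _ => trivial) v trivial
    rw [sc_apply, Units.val_one, one_smul, ← hu, map_sum]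
    refine Finset.sum_congr rfl fun z _ => ?_
    by_cases hz : cls10 z = 0
    · have hz0 : z = (0, 0) := by revert hz; revert z; decide
      rw [(mem_wt5.1 (hmem z).2).1, hz0, z5_zero, one_smul]
    · have h0 : wt5 ζ X Y z = ⊥ := Submodule.finrank_eq_zero.1 (Nat.lt_one_iff.1 (hnone z hz))
      have := (hmem z).2
      rw [h0, Submodule.mem_bot] at this
      rw [this, map_zero]
  obtain ⟨z0, hz0, hM0⟩ := hex
  have hclass : ∀ c, c ≠ 0 → ∀ z, cls10 z = c → 8 * M z ≤ ∑ z' ∈ Finset.univ.filter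
      (fun z' => cls10 z' = c), M z' := by
    intro c hc z hz
    rw [Finset.sum_congr rfl (fun z' hz' => heq z' z (by simp at hz'; rw [hz', hz])),
      Finset.sum_const, cls10_card c hc, smul_eq_mul]
  have hM1 : ∀ z, cls10 z ≠ 0 → M z ≤ 1 := by
    intro z hz
    have := (hclass _ hz z rfl).trans ((Finset.sum_le_univ_sum_of_nonneg (fun _ => Nat.zero_le _)).trans htot)
    omega
  -- other classes vanish
  have hother : ∀ z, cls10 z ≠ 0 → cls10 z ≠ cls10 z0 → M z = 0 := by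
    intro z hz hne
    have h1 := hclass _ hz z rfl
    have h2 := hclass _ hz0 z0 rfl
    have h3 : (∑ z' ∈ Finset.univ.filter (fun z' => cls10 z' = cls10 z), M z') +
        ∑ z' ∈ Finset.univ.filter (fun z' => cls10 z' = cls10 z0), M z' ≤ 9 := by
      rw [← Finset.sum_union (by
        rw [Finset.disjoint_filter]; intro z' _ h h'; exact hne (h.symm.trans h'))]
      exact (Finset.sum_le_univ_sum_of_nonneg (fun _ => Nat.zero_le _)).trans htot
    omega
  have hzero : ∀ z, cls10 z = 0 → M z ≤ 1 := by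
    intro z hz
    have h2 := hclass _ hz0 z0 rfl
    have h3 : M z + ∑ z' ∈ Finset.univ.filter (fun z' => cls10 z' = cls10 z0), M z' ≤ 9 := by
      rw [← Finset.sum_singleton M z, ← Finset.sum_union (by
        rw [Finset.disjoint_singleton_left]; simp [hz, Ne.symm hz0])]
      exact (Finset.sum_le_univ_sum_of_nonneg (fun _ => Nat.zero_le _)).trans htot
    omega
  have hle1 : ∀ z, M z ≤ 1 := fun z => (em (cls10 z = 0)).elim (hzero z) (hM1 z)
  have hsupport : ∀ z, M z ≠ 0 → cls10 z = cls10 z0 ∨ cls10 z = 0 := by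
    intro z hz
    by_contra hcon
    rw [not_or] at hcon
    exact hz (hother z hcon.2 hcon.1)
  have hMpos : ∀ z, cls10 z = cls10 z0 → 1 ≤ M z := fun z hz => (heq z z0 hz).symm ▸ hM0
  have lXY := P.lX.mul (sign_via p s1) (sign_via p s2) P.lY
  -- eigenspaces of the products
  have hupper : ∀ (Z : GV k V) (φ : Fin 5 × Fin 5 → Fin 5), Commute Z X → Commute Z Y →
      (∀ z, ∀ v ∈ wt5 ζ X Y z, (Z : Module.End k V) v = z5 ζ (φ z) • v) → ∀ c : k,
      ∃ e, finrank k (Module.End.eigenspace (Z : Module.End k V) c) ≤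
        (Finset.univ.filter fun z => (cls10 z = cls10 z0 ∨ cls10 z = 0) ∧ φ z = e).card := by
    intro Z φ hZX hZY hφ c
    set E := Module.End.eigenspace (Z : Module.End k V) c with hE
    have hEX : ∀ v ∈ E, (X : Module.End k V) v ∈ E := by
      intro v hv
      rw [hE, Module.End.mem_eigenspace_iff] at hv ⊢
      rw [← gv_apply_mul, hZX.eq, gv_apply_mul, hv, map_smul]
    have hEY : ∀ v ∈ E, (Y : Module.End k V) v ∈ E := by
      intro v hv
      rw [hE, Module.End.mem_eigenspace_iff] at hv ⊢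
      rw [← gv_apply_mul, hZY.eq, gv_apply_mul, hv, map_smul]
    by_cases hc : ∃ e, z5 ζ e = c
    · obtain ⟨e, he⟩ := hc
      refine ⟨e, ?_⟩
      set F := Finset.univ.filter fun z => (cls10 z = cls10 z0 ∨ cls10 z = 0) ∧ φ z = e
      have hle : E ≤ ⨆ z : F, wt5 ζ X Y z.1 := by
        intro v hv
        obtain ⟨u, hu, hmem⟩ := hdec E hEX hEY v hv
        rw [← hu]
        refine Submodule.sum_mem _ fun z _ => ?_
        by_cases h0 : u z = 0
        · rw [h0]; exact zero_mem _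
        refine Submodule.mem_iSup_of_mem ⟨z, ?_⟩ (hmem z).2
        simp only [F, Finset.mem_filter, Finset.mem_univ, true_and]
        refine ⟨hsupport z fun hz => h0 ?_, ?_⟩
        · have := (hmem z).2
          rwa [Submodule.finrank_eq_zero.1 hz, Submodule.mem_bot] at this
        · have h1 := hφ z (u z) (hmem z).2
          rw [Module.End.mem_eigenspace_iff.1 (hmem z).1, ← he] at h1
          exact (z5_injective hζ (smul_left_injective k h0 h1)).symm
      refine (Submodule.finrank_mono hle).trans ?_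
      have hsup : ∀ s : Finset F, finrank k ↥(s.sup fun z : F => wt5 ζ X Y z.1) ≤ s.card := by
        intro s
        induction s using Finset.induction with
        | empty => simp
        | @insert a s ha ih =>
          rw [Finset.sup_insert, Finset.card_insert_of_notMem ha]
          refine (Submodule.finrank_add_le_finrank_add_finrank _ _).trans ?_
          have := hle1 a.1
          simp only [hM] at this
          omega
      have := hsup Finset.univ
      rwa [Finset.sup_univ_eq_iSup, Finset.card_univ, Fintype.card_coe] at this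
    · refine ⟨0, ?_⟩
      have : E = ⊥ := by
        rw [eq_bot_iff]
        intro v hv
        obtain ⟨u, hu, hmem⟩ := hdec E hEX hEY v hv
        rw [Submodule.mem_bot, ← hu]
        refine Finset.sum_eq_zero fun z _ => ?_
        by_contra h0
        have h1 := hφ z (u z) (hmem z).2
        rw [Module.End.mem_eigenspace_iff.1 (hmem z).1] at h1
        exact hc ⟨φ z, (smul_left_injective k h0 h1).symm⟩
      rw [this, finrank_bot]; exact Nat.zero_le _
  have hlower : ∀ (Z : GV k V) (φ : Fin 5 × Fin 5 → Fin 5),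
      (∀ z, ∀ v ∈ wt5 ζ X Y z, (Z : Module.End k V) v = z5 ζ (φ z) • v) →
      (Finset.univ.filter fun z => cls10 z = cls10 z0 ∧ φ z = 0).card ≤
        finrank k (Module.End.eigenspace (Z : Module.End k V) 1) := by
    intro Z φ hφ
    set F := Finset.univ.filter fun z => cls10 z = cls10 z0 ∧ φ z = 0
    set E := Module.End.eigenspace (Z : Module.End k V) 1
    have hsub : ∀ z : F, wt5 ζ X Y z.1 ≤ E := by
      intro z v hv
      rw [Module.End.mem_eigenspace_iff, hφ z.1 v hv]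
      have := z.2
      simp only [F, Finset.mem_filter] at this
      rw [this.2.2, z5_zero]
    have hb : ∀ z : F, ∃ v : V, v ∈ wt5 ζ X Y z.1 ∧ v ≠ 0 := fun z => by
      have := z.2
      simp only [F, Finset.mem_filter] at this
      exact (Submodule.ne_bot_iff _).1 (Submodule.one_le_finrank_iff.1 (hMpos z.1 this.2.1))
    choose b hb hb0 using hb
    have li : LinearIndependent k (fun z : F => (⟨b z, hsub z (hb z)⟩ : E)) := by
      apply LinearIndependent.of_comp E.subtype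
      rw [Fintype.linearIndependent_iff]
      intro g hg z
      have := joint_sum_eq_zero (f := fun z : F => ![z5 ζ z.1.1, z5 ζ z.1.2])
        ((wt5_injective hζ).comp Subtype.val_injective) Finset.univ (fun z => g z • b z)
        (fun z _ => Submodule.smul_mem _ _ (hb z)) (by simpa using hg) z (Finset.mem_univ z)
      exact (smul_eq_zero.1 this).resolve_right (hb0 z)
    simpa using li.fintype_card_le_finrank
  have hφ1 : ∀ z, ∀ v ∈ wt5 ζ X Y z,
      ((X * Y : GV k V) : Module.End k V) v = z5 ζ (z.1 + z.2) • v := by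
    intro z v hv
    rw [mem_wt5] at hv
    rw [gv_apply_mul, hv.2, map_smul, hv.1, smul_smul, z5_add hζ, mul_comm]
  have hφ2 : ∀ z, ∀ v ∈ wt5 ζ X Y z,
      ((X * Y ^ 2 : GV k V) : Module.End k V) v = z5 ζ (z.1 + 2 * z.2) • v := by
    intro z v hv
    rw [mem_wt5] at hv
    rw [gv_apply_mul, eig_pow hv.2, map_smul, hv.1, smul_smul,
      show (2 : Fin 5) * z.2 = z.2 + z.2 by generalize z.2 = b; revert b; decide,
      z5_add hζ, z5_add hζ]
    ring_nf
  have c1 : Commute (X * Y) X ∧ Commute (X * Y) Y :=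
    ⟨(Commute.refl X).mul_left P.comm.symm, P.comm.mul_left (Commute.refl Y)⟩
  have c2 : Commute (X * Y ^ 2) X ∧ Commute (X * Y ^ 2) Y :=
    ⟨(Commute.refl X).mul_left (P.comm.symm.pow_left 2),
      P.comm.mul_left ((Commute.refl Y).pow_left 2)⟩
  -- `x y` and `x y ^ 2` are conjugate
  have hconjperm : ∃ g : Perm (Fin 10), Perm.sign g = 1 ∧ g * (x10 * y10) * g⁻¹ = x10 * y10 ^ 2 :=
    ⟨s10, signs10.2.2.2.2.2, by
      obtain ⟨t1, t2, -, -⟩ := rel10s
      calc s10 * (x10 * y10) * s10⁻¹ = (s10 * x10 * s10⁻¹) * (s10 * y10 * s10⁻¹) := by group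
        _ = x10 * y10 ^ 2 := by
          rw [t1, t2]; exact ((Commute.symm r9).pow_left 2).eq⟩
  by_cases hc1 : cls10 z0 = 1
  · -- the axes
    refine ⟨LinearMap.range ((Y : Module.End k V) - 1), ?_, ?_⟩
    · set U := LinearMap.range ((Y : Module.End k V) - 1)
      set F := Finset.univ.filter fun z : Fin 5 × Fin 5 => cls10 z = 1 ∧ z.2 ≠ 0
      have hF : F.card = 4 := by decide
      have hb : ∀ z : F, ∃ v : V, v ∈ wt5 ζ X Y z.1 ∧ v ≠ 0 := fun z => by
        have := z.2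
        simp only [F, Finset.mem_filter] at this
        exact (Submodule.ne_bot_iff _).1
          (Submodule.one_le_finrank_iff.1 (hMpos z.1 (this.2.1.trans hc1.symm)))
      choose b hb hb0 using hb
      have hU : ∀ z : F, b z ∈ U := by
        intro z
        have hz := z.2
        simp only [F, Finset.mem_filter] at hz
        have hne : z5 ζ z.1.2 - 1 ≠ 0 := by
          rw [sub_ne_zero, ← z5_zero (ζ := ζ)]; exact (z5_injective hζ).ne hz.2.2
        refine ⟨(z5 ζ z.1.2 - 1)⁻¹ • b z, ?_⟩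
        rw [LinearMap.sub_apply, Module.End.one_apply, map_smul, (mem_wt5.1 (hb z)).2, smul_smul,
          ← sub_smul, ← mul_sub_one, inv_mul_cancel₀ hne, one_smul]
      have li : LinearIndependent k (fun z : F => (⟨b z, hU z⟩ : U)) := by
        apply LinearIndependent.of_comp U.subtype
        rw [Fintype.linearIndependent_iff]
        intro g hg z
        have := joint_sum_eq_zero (f := fun z : F => ![z5 ζ z.1.1, z5 ζ z.1.2])
          ((wt5_injective hζ).comp Subtype.val_injective) Finset.univ (fun z => g z • b z)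
          (fun z _ => Submodule.smul_mem _ _ (hb z)) (by simpa using hg) z (Finset.mem_univ z)
        exact (smul_eq_zero.1 this).resolve_right (hb0 z)
      have := li.fintype_card_le_finrank
      rwa [Fintype.card_coe, hF] at this
    · set U := LinearMap.range ((Y : Module.End k V) - 1) with hUdef
      set ι := (Fin.castLEEmb (show 5 ≤ 10 by norm_num)).trans p with hι
      -- `X` is trivial on `U`
      have hXU : ∀ v ∈ U, (X : Module.End k V) v = v := by
        rintro _ ⟨w, rfl⟩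
        obtain ⟨u, hu, hmem⟩ := hdec ⊤ (fun _ _ => trivial) (fun _ _ => trivial) w trivial
        rw [← hu, map_sum, map_sum]
        refine Finset.sum_congr rfl fun z _ => ?_
        by_cases h0 : u z = 0
        · rw [h0, map_zero, map_zero]
        obtain ⟨e1, e2⟩ := mem_wt5.1 (hmem z).2
        rw [LinearMap.sub_apply, Module.End.one_apply, e2, map_sub, map_smul, e1]
        by_cases hz2 : z.2 = 0
        · rw [hz2, z5_zero]; simp
        have hz1 : z.1 = 0 := by
          have hMz : M z ≠ 0 := fun hMz => h0 (by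
            have := (hmem z).2
            rwa [Submodule.finrank_eq_zero.1 hMz, Submodule.mem_bot] at this)
          have := hsupport z hMz
          rw [hc1] at this
          exact axis10 z hz2 this
        rw [hz1, z5_zero, one_smul]
      -- lifts of the small alternating group preserve `U`
      have hs5 : ∀ σ : Perm (Fin 5), Perm.sign σ = 1 →
          Perm.sign (Perm.viaEmbeddingHom ι σ) = 1 := fun σ hσ => sign_via ι hσ
      have hcm : ∀ σ : Perm (Fin 5), Perm.sign σ = 1 →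
          ρ.Cm (Perm.viaEmbeddingHom p y10) (Perm.viaEmbeddingHom ι σ) := by
        intro σ hσ
        refine cm_via (by norm_num) ι (fun a b c d hd => ?_) hσ
        have hd' : [ι a, ι b, ι c, ι d].Nodup := hd.map ι.injective
        refine cm_of_coprime (sign_via p s2) (sign_dt' hd') ?_ (a := 5) (b := 2)
          (by rw [← map_pow, r2, map_one]) (dt_sq hd') (by norm_num)
        have e : dt (ι a) (ι b) (ι c) (ι d) = Perm.viaEmbeddingHom p
            (dt (Fin.castLE (by norm_num) a) (Fin.castLE (by norm_num) b)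
              (Fin.castLE (by norm_num) c) (Fin.castLE (by norm_num) d)) := by
          rw [map_dt]; rfl
        rw [e]
        refine Commute.map (Perm.Disjoint.commute fun i => ?_) _
        by_cases hi : i.val < 5
        · exact Or.inl (y10_fix i hi)
        · right
          have hne : ∀ q : Fin 5, i ≠ Fin.castLE (show 5 ≤ 10 by norm_num) q := by
            intro q h
            exact hi (h ▸ q.isLt)
          exact dt_apply_of_ne' (hne a) (hne b) (hne c) (hne d)
      have hinv : ∀ σ : Perm (Fin 5), Perm.sign σ = 1 → ∀ Z,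
          ρ.Lifts (Perm.viaEmbeddingHom ι σ) Z → ∀ v ∈ U, (Z : Module.End k V) v ∈ U := by
        intro σ hσ Z hZ v hv
        obtain ⟨w, rfl⟩ := hv
        refine ⟨(Z : Module.End k V) w, ?_⟩
        simp only [LinearMap.sub_apply, Module.End.one_apply, map_sub]
        rw [← gv_apply_mul, ((hcm σ hσ).lifts P.lY hZ).eq, gv_apply_mul]
      let K : Subgroup (alternatingGroup (Fin 5)) :=
        { carrier := {σ | ∀ Z, ρ.Lifts (Perm.viaEmbeddingHom ι (σ : Perm (Fin 5))) Z →
              ∃ c : k, ∀ v ∈ U, (Z : Module.End k V) v = c • v}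
          mul_mem' := by
            intro a b ha hb Z hZ
            have h' : ρ.Lifts (Perm.viaEmbeddingHom ι ((a * b : alternatingGroup (Fin 5)) :
                Perm (Fin 5))) (ρ.f (Perm.viaEmbeddingHom ι (a : Perm (Fin 5))) *
                ρ.f (Perm.viaEmbeddingHom ι (b : Perm (Fin 5)))) := by
              rw [Subgroup.coe_mul, map_mul]
              exact (ρ.lifts_f _).mul (hs5 _ a.2) (hs5 _ b.2) (ρ.lifts_f _)
            obtain ⟨d, rfl⟩ := h'.unique hZ
            obtain ⟨c₁, h₁⟩ := ha _ (ρ.lifts_f _)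
            obtain ⟨c₂, h₂⟩ := hb _ (ρ.lifts_f _)
            refine ⟨d * (c₂ * c₁), fun v hv => ?_⟩
            rw [gv_apply_mul, gv_apply_mul, h₂ v hv, map_smul, h₁ v hv, sc_apply, smul_smul,
              smul_smul, mul_assoc]
          one_mem' := by
            intro Z hZ
            rw [OneMemClass.coe_one, map_one] at hZ
            obtain ⟨d, rfl⟩ := lifts_one.unique hZ
            exact ⟨d, fun v _ => by simp⟩
          inv_mem' := by
            intro a ha Z hZ
            rw [Subgroup.coe_inv, map_inv] at hZ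
            obtain ⟨d, rfl⟩ := ((ρ.lifts_f _).inv (hs5 _ a.2)).unique hZ
            obtain ⟨c, hc⟩ := ha _ (ρ.lifts_f _)
            refine ⟨d * c⁻¹, fun v hv => ?_⟩
            rw [gv_apply_mul, sc_apply]
            by_cases hv0 : v = 0
            · simp [hv0]
            have hc0 : c ≠ 0 := by
              rintro rfl
              have h0 := hc v hv
              rw [zero_smul] at h0
              have h00 := congrArg ((ρ.f (Perm.viaEmbeddingHom ι (a : Perm (Fin 5))))⁻¹ :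
                GV k V).val h0
              rw [← gv_apply_mul, inv_mul_cancel, map_zero, Units.val_one,
                Module.End.one_apply] at h00
              exact hv0 h00
            rw [eig_inv hc0 (hc v hv), smul_smul] }
      have hK : ∀ σ, σ ∈ K ↔ ∀ Z, ρ.Lifts (Perm.viaEmbeddingHom ι (σ : Perm (Fin 5))) Z →
          ∃ c : k, ∀ v ∈ U, (Z : Module.End k V) v = c • v := fun σ => Iff.rfl
      have hnorm : K.Normal := ⟨fun a ha g => by
        rw [hK] at ha ⊢
        intro Z hZ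
        rw [Subgroup.coe_mul, Subgroup.coe_mul, Subgroup.coe_inv, map_mul, map_mul, map_inv] at hZ
        obtain ⟨d, rfl⟩ := ((ρ.lifts_f _).conj (hs5 _ g.2) (hs5 _ a.2) (ρ.lifts_f _)).unique hZ
        obtain ⟨c, hc⟩ := ha _ (ρ.lifts_f _)
        refine ⟨d * c, fun v hv => ?_⟩
        have hgi : ρ.Lifts (Perm.viaEmbeddingHom ι ((g⁻¹ : alternatingGroup (Fin 5)) :
            Perm (Fin 5))) (ρ.f (Perm.viaEmbeddingHom ι (g : Perm (Fin 5))))⁻¹ := by
          rw [Subgroup.coe_inv, map_inv]; exact (ρ.lifts_f _).inv (hs5 _ g.2)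
        rw [gv_apply_mul, gv_apply_mul, gv_apply_mul, hc _ (hinv _ (g⁻¹).2 _ hgi v hv), map_smul,
          ← gv_apply_mul (ρ.f _) (ρ.f _)⁻¹, mul_inv_cancel, Units.val_one, Module.End.one_apply,
          sc_apply, smul_smul]⟩
      let x5 : alternatingGroup (Fin 5) :=
        ⟨swap 0 1 * swap 1 2 * swap 2 3 * swap 3 4, by simp [Perm.sign_swap']⟩
      have hx5 : x5 ∈ K := by
        rw [hK]
        intro Z hZ
        have e : Perm.viaEmbeddingHom ι (x5 : Perm (Fin 5)) = Perm.viaEmbeddingHom p x10 := by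
          simp only [x5, x10, map_mul, Perm.viaEmbeddingHom_apply, map_viaEmbedding_swap]
          rfl
        rw [e] at hZ
        obtain ⟨d, rfl⟩ := P.lX.unique hZ
        exact ⟨d, fun v hv => by rw [gv_apply_mul, hXU v hv, sc_apply]⟩
      haveI := alternatingGroup.isSimpleGroup (α := Fin 5) (by simp)
      have htop : K = ⊤ := (IsSimpleGroup.eq_bot_or_eq_top_of_normal K hnorm).resolve_left
        (fun hbot => by
          rw [hbot, Subgroup.mem_bot] at hx5
          exact (by decide : swap 0 1 * swap 1 2 * swap 2 3 * swap 3 4 ≠ (1 : Perm (Fin 5)))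
            (congrArg Subtype.val hx5))
      intro σ hσ Z hZ
      exact (hK ⟨σ, hσ⟩).1 (htop ▸ Subgroup.mem_top _) Z hZ
  · exfalso
    obtain ⟨g, hg, hge⟩ := hconjperm
    have lG := ρ.lifts_f (Perm.viaEmbeddingHom p g)
    have l1 : ρ.Lifts (Perm.viaEmbeddingHom p (x10 * y10)) (X * Y) := by
      rw [map_mul]; exact lXY
    have l2 : ρ.Lifts (Perm.viaEmbeddingHom p (x10 * y10 ^ 2)) (X * Y ^ 2) := by
      rw [map_mul, map_pow]
      exact P.lX.mul (sign_via p s1) (by simp [sign_via p s2]) (P.lY.pow (sign_via p s2) 2)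
    have l3 := lG.conj (sign_via p hg) (sign_via p (by simp [s1, s2])) l1
    rw [← map_inv, ← map_mul, ← map_mul, hge] at l3
    obtain ⟨d, hd⟩ := l2.unique l3
    set G := ρ.f (Perm.viaEmbeddingHom p g)
    -- eigenspaces correspond up to a scalar
    have h12 : finrank k (Module.End.eigenspace ((X * Y : GV k V) : Module.End k V) 1) ≤
        finrank k (Module.End.eigenspace ((X * Y ^ 2 : GV k V) : Module.End k V) (d⁻¹ : kˣ)) := by
      refine finrank_le_of_maps G fun v hv => ?_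
      rw [Module.End.mem_eigenspace_iff] at hv ⊢
      have h' := eig_conj (A := X * Y) (G := G) hd hv
      rw [gv_apply_mul, sc_apply, one_smul] at h'
      conv_rhs => rw [← h', smul_smul, Units.inv_mul, one_smul]
    have h21 : finrank k (Module.End.eigenspace ((X * Y ^ 2 : GV k V) : Module.End k V) 1) ≤
        finrank k (Module.End.eigenspace ((X * Y : GV k V) : Module.End k V) (d : kˣ)) := by
      refine finrank_le_of_maps G⁻¹ fun v hv => ?_
      rw [Module.End.mem_eigenspace_iff] at hv ⊢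
      have hd' : G⁻¹ * (sc d * (X * Y ^ 2)) * (G⁻¹)⁻¹ = X * Y := by rw [← hd]; group
      refine eig_conj hd' ?_
      rw [gv_apply_mul, hv, one_smul, sc_apply]
    rcases (show cls10 z0 = 2 ∨ cls10 z0 = 3 by
      generalize cls10 z0 = c at hz0 hc1; revert c; decide) with hc | hc
    · obtain ⟨e, he⟩ := hupper _ (fun z => z.1 + 2 * z.2) c2.1 c2.2 hφ2 ((d⁻¹ : kˣ) : k)
      have hl := hlower _ (fun z => z.1 + z.2) hφ1
      simp only [hc, kernel10.1] at hl
      simp only [hc] at he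
      have := (line10 e).1
      omega
    · obtain ⟨e, he⟩ := hupper _ (fun z => z.1 + z.2) c1.1 c1.2 hφ1 ((d : kˣ) : k)
      have hl := hlower _ (fun z => z.1 + 2 * z.2) hφ2
      simp only [hc, kernel10.2] at hl
      simp only [hc] at he
      have := (line10 e).2
      omega
where
  dt_apply_of_ne' {n : ℕ} {a b c d x : Fin n} (ha : x ≠ a) (hb : x ≠ b) (hc : x ≠ c) (hd : x ≠ d) :
      dt a b c d x = x := by
    simp [dt, Equiv.swap_apply_def, ha, hb, hc, hd]

end PRep

end Cfsg.Agent.AltSec
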