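import Cfsg.Agent.AltSec.InvolCount
import Cfsg.Agent.AltSec.TorusLift
import Cfsg.Agent.AltSec.TorusAlt
import Cfsg.Agent.Chev.G2OddCentralizer
import Cfsg.Agent.Chev.G2Odd
import Mathlib.GroupTheory.SpecificGroups.Alternating.Simple
import Mathlib.LinearAlgebra.Matrix.ToLin
import Mathlib.GroupTheory.NoncommCoprod
import Mathlib.Algebra.CharP.Two

/-!
`Alt(8)` is not a section of `G₂` in characteristic five.
-/

set_option autoImplicit false
set_option maxRecDepth 100000

namespace Cfsg.Agent.AltSec.G2Eight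

open Cfsg.Lie Cfsg.Agent.Chev
open scoped MatrixGroups

universe u v

theorem alt8_simple : IsSimpleGroup (alternatingGroup (Fin 8)) :=
  alternatingGroup.isSimpleGroup (by simp)

theorem card_alt8 : Nat.card (alternatingGroup (Fin 8)) = 20160 := by
  haveI : Nontrivial (Fin 8) := inferInstance
  rw [nat_card_alternatingGroup, Nat.card_eq_fintype_card, Fintype.card_fin]
  decide +kernel

/-- An element of order 15. -/
def x15 : alternatingGroup (Fin 8) :=
  TorusAlt.mkAlt
    (fun i => if (i : ℕ) < 5 then ⟨((i : ℕ) + 1) % 5, by omega⟩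
      else ⟨5 + ((i : ℕ) - 5 + 1) % 3, by omega⟩)
    (fun i => if (i : ℕ) < 5 then ⟨((i : ℕ) + 4) % 5, by omega⟩
      else ⟨5 + ((i : ℕ) - 5 + 2) % 3, by omega⟩) (by decide) (by decide)
    (by decide +kernel)

theorem orderOf_x15 : orderOf x15 = 3 * 5 := by
  have h : orderOf x15 ∣ 15 := orderOf_dvd_of_pow_eq_one (by decide +kernel)
  have h5 : ¬ orderOf x15 ∣ 5 := fun hd =>
    absurd (orderOf_dvd_iff_pow_eq_one.1 hd) (by decide +kernel)
  have h3 : ¬ orderOf x15 ∣ 3 := fun hd =>
    absurd (orderOf_dvd_iff_pow_eq_one.1 hd) (by decide +kernel)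
  have hle : orderOf x15 ≤ 15 := Nat.le_of_dvd (by norm_num) h
  generalize orderOf x15 = n at h h5 h3 hle
  interval_cases n <;> omega

/-- The sum of two indices of the elementary abelian group of order 16. -/
def eAdd (a b : Fin 16) : Fin 16 := ⟨(a : ℕ) ^^^ (b : ℕ), Nat.xor_lt_two_pow (n := 4) a.2 b.2⟩

/-- The action of an index: translations of `{0, 1, 2, 3}` and of `{4, 5, 6, 7}`. -/
def eFun (a : Fin 16) (i : Fin 8) : Fin 8 :=
  if (i : ℕ) < 4 then Fin.ofNat 8 ((i : ℕ) ^^^ ((a : ℕ) % 4))
  else Fin.ofNat 8 (4 + (((i : ℕ) - 4) ^^^ ((a : ℕ) / 4)))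

theorem eFun_self : ∀ a : Fin 16, ∀ i : Fin 8, eFun a (eFun a i) = i := by decide +kernel

theorem eFun_add : ∀ a b : Fin 16, ∀ i : Fin 8,
    eFun a (eFun b i) = eFun (eAdd a b) i ∧ eFun a (eFun b i) = eFun b (eFun a i) := by
  decide +kernel

theorem eFun_sep : ∀ a b : Fin 16, (∀ i : Fin 8, eFun a i = eFun b i) → a = b := by
  decide +kernel

/-- The permutation of an index. -/
def ePerm (a : Fin 16) : Equiv.Perm (Fin 8) := ⟨eFun a, eFun a, eFun_self a, eFun_self a⟩

theorem ePerm_sign : ∀ a : Fin 16, Equiv.Perm.sign (ePerm a) = 1 := by decide +kernel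

/-- The elementary abelian group of order 16 in `Alt(8)`. -/
theorem exists_sixteen : ∃ E : Subgroup (alternatingGroup (Fin 8)), Nat.card ↥E = 16 ∧
    ∀ x ∈ E, x * x = 1 ∧ ∀ y ∈ E, x * y = y * x := by
  let g : Fin 16 → alternatingGroup (Fin 8) := fun a =>
    ⟨ePerm a, Equiv.Perm.mem_alternatingGroup.2 (ePerm_sign a)⟩
  have hmul : ∀ a b, g a * g b = g (eAdd a b) := fun a b =>
    Subtype.ext (Equiv.ext fun i => (eFun_add a b i).1)
  have hcomm : ∀ a b, g a * g b = g b * g a := fun a b =>
    Subtype.ext (Equiv.ext fun i => (eFun_add a b i).2)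
  have hsq : ∀ a, g a * g a = 1 := fun a => Subtype.ext (Equiv.ext fun i => eFun_self a i)
  have hinj : Function.Injective g := fun a b h =>
    eFun_sep a b fun i => congrArg (fun x : alternatingGroup (Fin 8) =>
      (x : Equiv.Perm (Fin 8)) i) h
  let E : Subgroup (alternatingGroup (Fin 8)) :=
    { carrier := Set.range g
      one_mem' := ⟨eAdd 0 0, by rw [← hmul, hsq]⟩
      mul_mem' := by
        rintro _ _ ⟨a, rfl⟩ ⟨b, rfl⟩
        exact ⟨_, (hmul a b).symm⟩
      inv_mem' := by
        rintro _ ⟨a, rfl⟩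
        exact ⟨a, (inv_eq_of_mul_eq_one_right (hsq a)).symm⟩ }
  refine ⟨E, ?_, ?_⟩
  · show Nat.card ↥(Set.range g) = 16
    rw [Nat.card_range_of_injective hinj, Nat.card_eq_fintype_card, Fintype.card_fin]
  · rintro _ ⟨a, rfl⟩
    exact ⟨hsq a, by rintro _ ⟨b, rfl⟩; exact hcomm a b⟩

variable {F : Type u} [Field F]

/-- Two by two matrices in characteristic five have no element of order 15 and determinant one. -/
theorem no_order_fifteen [CharP F 5] (g u : Matrix.SpecialLinearGroup (Fin 2) F) (hg : g ^ 3 = 1)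
    (hu : u ^ 5 = 1) (hgu : g * u = u * g) : g = 1 ∨ u = 1 := by
  by_contra hne
  push Not at hne
  obtain ⟨hg1, hu1⟩ := hne
  haveI : Fact (Nat.Prime 5) := ⟨by norm_num⟩
  set N : Matrix (Fin 2) (Fin 2) F := (u : Matrix (Fin 2) (Fin 2) F) - 1 with hN
  have hN5 : N ^ 5 = 0 := by
    rw [hN, sub_pow_char_of_commute (p := 5) (Commute.one_right _), one_pow,
      ← Matrix.SpecialLinearGroup.coe_pow, hu, Matrix.SpecialLinearGroup.coe_one, sub_self]
  have hdetN : N.det = 0 := by
    have h := congrArg Matrix.det hN5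
    rw [Matrix.det_pow, Matrix.det_zero] at h
    exact pow_eq_zero_iff (n := 5) (by norm_num) |>.1 h
  have hudet : ((u : Matrix (Fin 2) (Fin 2) F)).det = 1 := u.2
  have htr : N 1 1 = -N 0 0 := by
    rw [Matrix.det_fin_two] at hudet hdetN
    simp only [hN, Matrix.sub_apply, Matrix.one_apply, Fin.isValue, one_ne_zero,
      zero_ne_one, if_true, if_false, sub_zero] at hdetN ⊢
    linear_combination hudet - hdetN
  have hcomm : (g : Matrix (Fin 2) (Fin 2) F) * N = N * g := by
    rw [hN, mul_sub, sub_mul, mul_one, one_mul]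
    congr 1
    exact congrArg Subtype.val hgu
  have hdet : (g : Matrix (Fin 2) (Fin 2) F).det = 1 := g.2
  set G : Matrix (Fin 2) (Fin 2) F := (g : Matrix (Fin 2) (Fin 2) F) with hG
  -- `g` is a scalar plus a multiple of `N`
  obtain ⟨α, β, hab⟩ : ∃ α β : F, G = α • (1 : Matrix (Fin 2) (Fin 2) F) + β • N := by
    have e00 := congrFun (congrFun hcomm 0) 0
    have e01 := congrFun (congrFun hcomm 0) 1
    have e10 := congrFun (congrFun hcomm 1) 0
    simp only [Matrix.mul_apply, Fin.sum_univ_two, htr] at e00 e01 e10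
    rw [Matrix.det_fin_two, htr] at hdetN
    by_cases hb : N 0 1 = 0
    · have ha : N 0 0 = 0 := by
        rw [hb] at hdetN
        have : N 0 0 * N 0 0 = 0 := by linear_combination -hdetN
        exact mul_self_eq_zero.1 this
      have hc : N 1 0 ≠ 0 := by
        intro hc
        refine hu1 (Subtype.ext ?_)
        rw [← sub_eq_zero, Matrix.SpecialLinearGroup.coe_one, ← hN]
        ext i j
        fin_cases i <;> fin_cases j <;> simp [htr, ha, hb, hc]
      refine ⟨G 0 0, G 1 0 / N 1 0, ?_⟩
      ext i j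
      fin_cases i <;> fin_cases j
      · simp [ha]
      · simp [hb]
        have : G 0 1 * N 1 0 = 0 := by rw [hb] at e00; linear_combination e00
        exact (mul_eq_zero.1 this).resolve_right hc
      · simp [hc]
      · simp [htr, ha]
        have : (G 1 1 - G 0 0) * N 1 0 = 0 := by rw [ha] at e10; linear_combination e10
        exact sub_eq_zero.1 ((mul_eq_zero.1 this).resolve_right hc)
    · refine ⟨G 0 0 - G 0 1 / N 0 1 * N 0 0, G 0 1 / N 0 1, ?_⟩
      ext i j
      fin_cases i <;> fin_cases j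
      · simp
      · simp [hb]
      · simp
        field_simp
        linear_combination -e00
      · simp [htr]
        field_simp
        linear_combination -e01
  have hNN : N * N = 0 := by
    rw [Matrix.det_fin_two, htr] at hdetN
    ext i j
    fin_cases i <;> fin_cases j <;>
      (simp [Matrix.mul_apply, htr]; first | linear_combination -hdetN | ring)
  have hα : α ^ 2 = 1 := by
    rw [hab, Matrix.det_fin_two] at hdet
    simp [htr] at hdet
    rw [Matrix.det_fin_two, htr] at hdetN
    linear_combination hdet - β ^ 2 * hdetN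
  have hcube : α ^ 3 • (1 : Matrix (Fin 2) (Fin 2) F) + (3 * α ^ 2 * β) • N = 1 := by
    have h := congrArg Subtype.val hg
    simp only [Matrix.SpecialLinearGroup.coe_pow, Matrix.SpecialLinearGroup.coe_one] at h
    conv_rhs => rw [← h, ← hG, hab]
    simp only [pow_succ, pow_zero, one_mul, add_mul, mul_add, smul_mul_assoc, mul_smul_comm,
      mul_one, hNN, smul_zero, add_zero, smul_smul]
    module
  have hα3 : α ^ 3 = 1 ∧ β = 0 := by
    have h00 := congrFun (congrFun hcube 0) 0
    have h11 := congrFun (congrFun hcube 1) 1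
    simp [htr] at h00 h11
    have h2 : (2 : F) ≠ 0 := by
      intro h
      have := (CharP.cast_eq_zero_iff F 5 2).1 (by exact_mod_cast h)
      omega
    have hα3 : α ^ 3 = 1 := by
      have : (2 : F) * (α ^ 3 - 1) = 0 := by linear_combination h00 + h11
      exact sub_eq_zero.1 ((mul_eq_zero.1 this).resolve_left h2)
    refine ⟨hα3, ?_⟩
    rw [hα3, one_smul, add_eq_left, smul_eq_zero] at hcube
    have h3 : (3 : F) ≠ 0 := by
      intro h
      have := (CharP.cast_eq_zero_iff F 5 3).1 (by exact_mod_cast h)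
      omega
    rcases hcube with h | h
    · rcases mul_eq_zero.1 h with h | h
      · exact absurd h (mul_ne_zero h3 (by rw [hα]; exact one_ne_zero))
      · exact h
    · exact absurd (Subtype.ext (sub_eq_zero.1 h)) hu1
  refine hg1 (Subtype.ext ?_)
  rw [Matrix.SpecialLinearGroup.coe_one, ← hG, hab, hα3.2, zero_smul, add_zero,
    show α = 1 by linear_combination hα3.1 - α * hα, one_smul]

theorem no_sl2 [CharP F 5] [Finite F] {H : Type v} [Group H] [Finite H]
    (ψ : H →* Matrix.SpecialLinearGroup (Fin 2) F) (hψ : Function.Injective ψ)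
    (φ : H →* alternatingGroup (Fin 8)) (hφ : Function.Surjective φ) : False := by
  obtain ⟨s, b, hs, -⟩ := TorusLift.exists_lift_two hφ (x := x15) (b₀ := 1)
    (show Nat.Prime 3 by norm_num) (show Nat.Prime 5 by norm_num) (by norm_num) orderOf_x15
    (by simp) (j := 1) (by simp)
  have hp : ∀ k : ℕ, 0 < k → k < 15 → ψ (s ^ k) ≠ 1 := fun k h0 hk e => by
    rw [← map_one ψ] at e
    have := Nat.le_of_dvd h0 (hs ▸ orderOf_dvd_of_pow_eq_one (hψ e))
    omega
  rcases no_order_fifteen (ψ (s ^ 5)) (ψ (s ^ 3))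
      (by rw [← map_pow, ← pow_mul, show 5 * 3 = orderOf s by rw [hs], pow_orderOf_eq_one, map_one])
      (by rw [← map_pow, ← pow_mul, show 3 * 5 = orderOf s by rw [hs], pow_orderOf_eq_one, map_one])
      (by rw [← map_mul, ← map_mul, ← pow_add, ← pow_add]) with h | h
  · exact hp 5 (by norm_num) (by norm_num) h
  · exact hp 3 (by norm_num) (by norm_num) h

/-- A product of two copies of `SL₂` has no such section. -/
theorem no_sl2_prod [CharP F 5] [Finite F] {H : Type v} [Group H] [Finite H]
    (ψ : H →* Matrix.SpecialLinearGroup (Fin 2) F × Matrix.SpecialLinearGroup (Fin 2) F)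
    (hψ : Function.Injective ψ)
    (φ : H →* alternatingGroup (Fin 8)) (hφ : Function.Surjective φ) : False := by
  haveI := alt8_simple
  set ψ₁ := (MonoidHom.fst _ _).comp ψ with hψ₁
  haveI : (ψ₁.ker.map φ).Normal := Subgroup.Normal.map inferInstance φ hφ
  rcases IsSimpleGroup.eq_bot_or_eq_top_of_normal (ψ₁.ker.map φ) inferInstance with h | h
  · -- the first projection carries the section
    have hle : ψ₁.rangeRestrict.ker ≤ φ.ker := by
      rw [MonoidHom.ker_rangeRestrict]
      exact (Subgroup.map_eq_bot_iff _).1 h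
    have hsur := ψ₁.rangeRestrict_surjective
    refine no_sl2 ψ₁.range.subtype ψ₁.range.subtype_injective
      (ψ₁.rangeRestrict.liftOfRightInverse _ (Function.rightInverse_surjInv hsur) ⟨φ, hle⟩)
      fun a => ?_
    obtain ⟨x, rfl⟩ := hφ a
    exact ⟨ψ₁.rangeRestrict x, MonoidHom.liftOfRightInverse_comp_apply _ _ _ _ x⟩
  · refine no_sl2 (((MonoidHom.snd _ _).comp ψ).comp ψ₁.ker.subtype) ?_ (φ.comp ψ₁.ker.subtype)
      fun a => ?_
    · intro x y e
      refine Subtype.ext (hψ (Prod.ext ?_ e))
      exact (MonoidHom.mem_ker.1 x.2).trans (MonoidHom.mem_ker.1 y.2).symm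
    · obtain ⟨x, hx, e⟩ : a ∈ ψ₁.ker.map φ := h ▸ trivial
      exact ⟨⟨x, hx⟩, e⟩

/-- A matrix group acting on column vectors. -/
def endHom : GL chevG2.Idx F →* Module.End F (chevG2.Idx → F) :=
  (Matrix.toLinAlgEquiv' (R := F) (n := chevG2.Idx)).toMonoidHom.comp
    (Units.coeHom (Matrix chevG2.Idx chevG2.Idx F))

theorem endHom_injective : Function.Injective (endHom (F := F)) := fun _ _ e =>
  Units.ext ((Matrix.toLinAlgEquiv' (R := F) (n := chevG2.Idx)).injective e)

theorem fix_zI (h2 : (2 : F) ≠ 0) : InvolCount.fixDim (endHom (G2Odd.zI : GL chevG2.Idx F)) ≤ 6 := by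
  classical
  set S : Finset chevG2.Idx := Finset.univ.filter fun (a : chevG2.Idx) =>
    Sum.elim (fun _ => true)
      (fun s : Fin chevG2.nroots => decide (Even (chevG2.cartan G2Invol.ia (s : ℕ)))) a = true
    with hS
  have hScard : S.card = 6 := by rw [hS]; decide +kernel
  set K := LinearMap.ker (endHom (G2Odd.zI : GL chevG2.Idx F) - 1) with hK
  let L : ↥K →ₗ[F] ({a // a ∈ S} → F) :=
    (LinearMap.funLeft F F (Subtype.val : {a // a ∈ S} → chevG2.Idx)).comp K.subtype
  have hL : Function.Injective L := by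
    rw [← LinearMap.ker_eq_bot, eq_bot_iff]
    rintro ⟨x, hx⟩ hLx
    rw [LinearMap.mem_ker] at hLx
    rw [Submodule.mem_bot]
    refine Subtype.ext (funext fun a => ?_)
    show x a = 0
    by_cases ha : a ∈ S
    · exact congrFun hLx ⟨a, ha⟩
    · rw [hK, LinearMap.mem_ker, LinearMap.sub_apply, Module.End.one_apply, sub_eq_zero] at hx
      have hxa := congrFun hx a
      rcases a with j | s
      · exact absurd (by simp [hS]) ha
      · simp [hS] at ha
        have e : (endHom (G2Odd.zI : GL chevG2.Idx F)) x (Sum.inr s) =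
            ((-1 : Fˣ) : F) * x (Sum.inr s) := by
          show Matrix.mulVec ((G2Odd.zI : GL chevG2.Idx F) : Matrix chevG2.Idx chevG2.Idx F) x _ = _
          rw [G2Odd.zI]
          show Matrix.mulVec (Matrix.diagonal _) x (Sum.inr s) = _
          rw [Matrix.mulVec_diagonal]
          simp only [Sum.elim_inr]
          rw [G2Odd.chiU_zp, ha.neg_one_zpow]
        rw [e, Units.val_neg, Units.val_one, neg_one_mul, neg_eq_iff_add_eq_zero, ← two_smul F,
          smul_eq_mul] at hxa
        exact (mul_eq_zero.1 hxa).resolve_left h2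
  calc InvolCount.fixDim (endHom (G2Odd.zI : GL chevG2.Idx F)) ≤ Module.finrank F ({a // a ∈ S} → F) :=
        LinearMap.finrank_le_finrank_of_injective hL
    _ = 6 := by rw [Module.finrank_fintype_fun_eq_card, Fintype.card_coe, hScard]

theorem fix_conj (e g : GL chevG2.Idx F) :
    InvolCount.fixDim (endHom (e * g * e⁻¹)) ≤ InvolCount.fixDim (endHom g) := by
  set K := LinearMap.ker (endHom (e * g * e⁻¹) - 1)
  let L : ↥K →ₗ[F] ↥(LinearMap.ker (endHom g - 1)) :=
    ((endHom e⁻¹).comp K.subtype).codRestrict _ fun x => by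
      have hx := x.2
      rw [LinearMap.mem_ker, LinearMap.sub_apply, Module.End.one_apply, sub_eq_zero] at hx ⊢
      have h := congrArg (endHom e⁻¹) hx
      rw [← Module.End.mul_apply, ← map_mul, show e⁻¹ * (e * g * e⁻¹) = g * e⁻¹ by group,
        map_mul, Module.End.mul_apply] at h
      exact h
  refine LinearMap.finrank_le_finrank_of_injective (f := L) fun x y h => Subtype.ext ?_
  have h' : endHom e⁻¹ (x : chevG2.Idx → F) = endHom e⁻¹ (y : chevG2.Idx → F) :=
    congrArg Subtype.val h
  have h'' := congrArg (endHom e) h'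
  rwa [← Module.End.mul_apply, ← Module.End.mul_apply, ← map_mul, mul_inv_cancel, map_one,
    Module.End.one_apply, Module.End.one_apply] at h''

theorem card_elementary [Fintype F] (hodd : Odd (Fintype.card F))
    (E : Subgroup ↥(chevG2.group F)) (hsq : ∀ x ∈ E, x * x = 1)
    (hc : ∀ x ∈ E, ∀ y ∈ E, x * y = y * x) : Nat.card ↥E < 16 := by
  classical
  by_contra hlt
  push Not at hlt
  have h2 : (2 : F) ≠ 0 := Ring.two_ne_zero (G2Odd.odd_ne_two hodd)
  have key : ∀ k, k ≤ 4 → ∃ gs : List ↥(chevG2.group F), (∀ g ∈ gs, g ∈ E) ∧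
      (InvolCount.allProds gs).length = 2 ^ k ∧ (InvolCount.allProds gs).Nodup ∧
      (∀ a ∈ InvolCount.allProds gs, a ∈ E) ∧
      ∀ a ∈ InvolCount.allProds gs, ∀ b ∈ InvolCount.allProds gs,
        a * b ∈ InvolCount.allProds gs := by
    intro k
    induction k with
    | zero => intro _; exact ⟨[], by simp [InvolCount.allProds]⟩
    | succ k ih =>
      intro hk
      obtain ⟨gs, hgs, hlen, hnd, hE, hcl⟩ := ih (by omega)
      obtain ⟨g, hgE, hg⟩ : ∃ g ∈ E, g ∉ InvolCount.allProds gs := by
        by_contra hall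
        push Not at hall
        have h1 : Nat.card ↥E ≤ (InvolCount.allProds gs).toFinset.card := by
          exact le_trans (Nat.card_mono (InvolCount.allProds gs).toFinset.finite_toSet
            (fun x hx => List.mem_toFinset.2 (hall x hx))) (le_of_eq (Nat.card_eq_finsetCard _))
        rw [List.toFinset_card_of_nodup hnd, hlen] at h1
        have : 2 ^ k < 16 := by
          calc 2 ^ k < 2 ^ 4 := Nat.pow_lt_pow_right (by norm_num) (by omega)
            _ = 16 := by norm_num
        omega
      refine ⟨g :: gs, fun x hx => ?_, ?_, ?_, ?_, ?_⟩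
      · rcases List.mem_cons.1 hx with rfl | hx
        exacts [hgE, hgs x hx]
      · simp only [InvolCount.allProds, List.length_append, List.length_map, hlen, pow_succ]
        ring
      · simp only [InvolCount.allProds]
        refine List.nodup_append'.2 ⟨hnd, hnd.map fun a b => mul_left_cancel, fun a ha ha' => ?_⟩
        obtain ⟨b, hb, rfl⟩ := List.mem_map.1 ha'
        refine hg ?_
        have := hcl _ ha _ hb
        rwa [mul_assoc, hsq b (hE b hb), mul_one] at this
      · intro a ha
        simp only [InvolCount.allProds, List.mem_append, List.mem_map] at ha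
        rcases ha with ha | ⟨b, hb, rfl⟩
        exacts [hE a ha, E.mul_mem hgE (hE b hb)]
      · intro a ha b hb
        simp only [InvolCount.allProds, List.mem_append, List.mem_map] at ha hb ⊢
        rcases ha with ha | ⟨a', ha', rfl⟩ <;> rcases hb with hb | ⟨b', hb', rfl⟩
        · exact Or.inl (hcl a ha b hb)
        · exact Or.inr ⟨a * b', hcl a ha b' hb', by
            rw [← mul_assoc, hc g hgE a (hE a ha), mul_assoc]⟩
        · exact Or.inr ⟨a' * b, hcl a' ha' b hb, by rw [mul_assoc]⟩
        · refine Or.inl ?_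
          rw [show g * a' * (g * b') = a' * b' by
            rw [hc g hgE a' (hE a' ha'), mul_assoc, ← mul_assoc g g, hsq g hgE, one_mul]]
          exact hcl a' ha' b' hb'
  obtain ⟨gs, hgs, hlen, hnd, hE, -⟩ := key 4 le_rfl
  set ρ : ↥(chevG2.group F) →* Module.End F (chevG2.Idx → F) :=
    endHom.comp (chevG2.group F).subtype with hρ
  have hmap : ∀ l : List ↥(chevG2.group F),
      InvolCount.allProds (l.map ρ) = (InvolCount.allProds l).map ρ := by
    intro l
    induction l with
    | nil => simp [InvolCount.allProds]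
    | cons a l ih =>
      simp [InvolCount.allProds, ih, List.map_map, Function.comp_def]
  have h := InvolCount.half_le h2 (gs.map ρ) ⊤
    (fun g hg => by
      obtain ⟨a, ha, rfl⟩ := List.mem_map.1 hg
      rw [← map_mul, hsq a (hgs a ha), map_one])
    (fun g hg g' hg' => by
      obtain ⟨a, ha, rfl⟩ := List.mem_map.1 hg
      obtain ⟨b, hb, rfl⟩ := List.mem_map.1 hg'
      exact (show Commute a b from hc a (hgs a ha) b (hgs b hb)).map ρ)
    (fun g _ x _ => Submodule.mem_top)
  rw [hmap, List.length_map, hlen, finrank_top, Module.finrank_fintype_fun_eq_card,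
    List.map_map, show Fintype.card chevG2.Idx = 14 by decide +kernel] at h
  have hbound : ∀ a ∈ InvolCount.allProds gs,
      (InvolCount.fixIn ⊤ ∘ ρ) a ≤ if a = 1 then 14 else 6 := by
    intro a ha
    have e : (InvolCount.fixIn ⊤ ∘ ρ) a = InvolCount.fixDim (ρ a) := by
      show InvolCount.fixIn ⊤ (ρ a) = _
      rw [InvolCount.fixIn, InvolCount.fixDim, top_inf_eq]
    rw [e]
    split
    · refine le_trans (Submodule.finrank_le _) ?_
      rw [Module.finrank_fintype_fun_eq_card]
      decide +kernel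
    · next hne =>
      have ho : orderOf a = 2 := by
        haveI : Fact (Nat.Prime 2) := ⟨Nat.prime_two⟩
        exact orderOf_eq_prime (by rw [pow_two]; exact hsq a (hE a ha)) hne
      have hz : (G2Odd.zI : GL chevG2.Idx F) * G2Odd.zI = 1 := by
        rw [G2Odd.zI, ← map_mul, G2Odd.zp, ← Pi.mulSingle_mul, neg_mul_neg, one_mul,
          Pi.mulSingle_one, map_one]
      haveI : Fact (Nat.Prime 2) := ⟨Nat.prime_two⟩
      obtain ⟨c, hc'⟩ := isConj_iff.1 (G2Odd.isConj_of_invol hodd ⟨G2Odd.zI, G2Odd.zI_mem⟩ a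
        (orderOf_eq_prime (by rw [pow_two]; exact Subtype.ext hz)
          fun e => G2Odd.zI_ne_one hodd (congrArg Subtype.val e)) ho)
      rw [← hc']
      refine le_trans ?_ (fix_zI h2)
      exact fix_conj (c : GL chevG2.Idx F) G2Odd.zI
  have h104 : ((InvolCount.allProds gs).map (InvolCount.fixIn ⊤ ∘ ρ)).sum ≤ 104 := by
    refine le_trans (List.sum_le_sum hbound) ?_
    have hcount : (InvolCount.allProds gs).count 1 ≤ 1 := List.nodup_iff_count_le_one.1 hnd 1
    have e : ∀ l : List ↥(chevG2.group F),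
        (l.map fun a => if a = 1 then 14 else 6).sum = 6 * l.length + 8 * l.count 1 := by
      intro l
      induction l with
      | nil => simp
      | cons b l ih =>
        rw [List.map_cons, List.sum_cons, ih, List.length_cons, List.count_cons]
        by_cases hb : b = 1
        · subst hb; simp; ring
        · simp [hb]; ring
    rw [e, hlen]
    omega
  omega

/-- Automorphisms permute the non-identity elements. -/
def autPerm (A : Type v) [Group A] : MulAut A →* Equiv.Perm {x : A // x ≠ 1} where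
  toFun e :=
    { toFun := fun x => ⟨e x, fun h => x.2 (e.injective (h.trans (map_one e).symm))⟩
      invFun := fun x => ⟨e.symm x, fun h => x.2 (e.symm.injective (h.trans (map_one e.symm).symm))⟩
      left_inv := fun x => Subtype.ext (e.symm_apply_apply x)
      right_inv := fun x => Subtype.ext (e.apply_symm_apply x) }
  map_one' := rfl
  map_mul' _ _ := rfl

theorem conj_eq_of_autPerm {A : Type v} [Group A] {V : Subgroup A} [V.Normal] {g z : A}
    (hz : z ∈ V) (hz1 : z ≠ 1)
    (h : autPerm ↥V (MulAut.conjNormal g) = 1) : g * z * g⁻¹ = z := by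
  have h' := congrArg (fun e : Equiv.Perm {x : ↥V // x ≠ 1} =>
    (((e ⟨⟨z, hz⟩, fun e' => hz1 (congrArg Subtype.val e')⟩ : {x : ↥V // x ≠ 1}) : ↥V) : A)) h
  exact ((MulAut.conjNormal_apply g (⟨z, hz⟩ : ↥V)).symm.trans h' : _)

/-- A minimal preimage of `Alt(8)` does not embed. -/
theorem core [Fintype F] [CharP F 5] {K : Type u} [Group K] [Finite K]
    (jK : K →* ↥(chevG2.group F)) (hj : Function.Injective jK)
    (φK : K →* alternatingGroup (Fin 8)) (hsur : Function.Surjective φK)
    (hmin' : ∀ L : Subgroup K, L.map φK = ⊤ → L = ⊤) : False := by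
  classical
  haveI := alt8_simple
  have hodd : Odd (Fintype.card F) := by
    obtain ⟨n, -, hn⟩ := FiniteField.card F 5
    rw [hn]
    exact Odd.pow (by decide)
  set N := φK.ker with hN
  set ι : K →* GL chevG2.Idx F := (chevG2.group F).subtype.comp jK with hι
  have hιinj : Function.Injective ι := (chevG2.group F).subtype_injective.comp hj
  haveI : Fact (Nat.Prime 2) := ⟨Nat.prime_two⟩
  by_cases h2N : 2 ∣ Nat.card ↥N
  · -- a central involution
    let P₀ : Sylow 2 ↥N := default
    set P := (P₀ : Subgroup ↥N).map N.subtype with hP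
    have hPn : Subgroup.normalizer (P : Set K) = ⊤ := hmin' _ (by
      have h := congrArg (Subgroup.map φK) (Sylow.normalizer_sup_eq_top P₀)
      rwa [Subgroup.map_sup, (Subgroup.map_eq_bot_iff N).2 (le_refl N), sup_bot_eq,
        ← MonoidHom.range_eq_map, MonoidHom.range_eq_top.2 hsur] at h)
    haveI hPN : P.Normal := Subgroup.normalizer_eq_top_iff.1 hPn
    let V : Subgroup K :=
      { carrier := {x | x ∈ P ∧ (∀ y ∈ P, x * y = y * x) ∧ x * x = 1}
        one_mem' := ⟨one_mem _, fun y _ => by rw [one_mul, mul_one], one_mul 1⟩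
        mul_mem' := fun {a b} ha hb => ⟨mul_mem ha.1 hb.1, fun y hy => by
            rw [mul_assoc, hb.2.1 y hy, ← mul_assoc, ha.2.1 y hy, mul_assoc],
          by rw [mul_assoc, ← mul_assoc b, hb.2.1 a ha.1, mul_assoc a b b, hb.2.2, mul_one, ha.2.2]⟩
        inv_mem' := fun {a} ha => by
          rw [inv_eq_of_mul_eq_one_right ha.2.2]; exact ha }
    haveI hVn : V.Normal := ⟨fun x hx g => ⟨hPN.conj_mem x hx.1 g, fun y hy => by
        have h := hx.2.1 _ (hPN.conj_mem y hy g⁻¹)
        rw [inv_inv] at h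
        calc g * x * g⁻¹ * y = g * (x * (g⁻¹ * y * g)) * g⁻¹ := by group
          _ = g * (g⁻¹ * y * g * x) * g⁻¹ := by rw [h]
          _ = y * (g * x * g⁻¹) := by group,
      by rw [show g * x * g⁻¹ * (g * x * g⁻¹) = g * (x * x) * g⁻¹ by group, hx.2.2, mul_one,
        mul_inv_cancel]⟩⟩
    -- `V` is small
    have hVcard : Nat.card ↥V < 16 := by
      set j : K →* ↥(chevG2.group F) := jK
      rw [← Subgroup.card_map_of_injective (K := V) (f := j)
        hj]
      refine card_elementary hodd _ ?_ ?_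
      · rintro _ ⟨x, hx, rfl⟩; rw [← map_mul, hx.2.2, map_one]
      · rintro _ ⟨x, hx, rfl⟩ _ ⟨y, hy, rfl⟩; rw [← map_mul, ← map_mul, hx.2.1 y hy.1]
    have hV8 : Nat.card ↥V ≤ 8 := by
      have hp : IsPGroup 2 ↥V := fun x => ⟨1, by
        rw [pow_one, pow_two]; exact Subtype.ext x.2.2.2⟩
      obtain ⟨n, hn⟩ := IsPGroup.iff_card.1 hp
      rw [hn] at hVcard ⊢
      rw [show (16 : ℕ) = 2 ^ 4 from rfl] at hVcard
      have := (Nat.pow_lt_pow_iff_right (by norm_num)).1 hVcard
      calc 2 ^ n ≤ 2 ^ 3 := Nat.pow_le_pow_right (by norm_num) (by omega)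
        _ = 8 := rfl
    -- the conjugation action is trivial
    let ψ : K →* Equiv.Perm {x : ↥V // x ≠ 1} :=
      (autPerm ↥V).comp (MulAut.conjNormal (H := V))
    have hψ : ψ.ker = ⊤ := by
      haveI : (ψ.ker.map φK).Normal := Subgroup.Normal.map inferInstance φK hsur
      rcases IsSimpleGroup.eq_bot_or_eq_top_of_normal (ψ.ker.map φK) inferInstance with h | h
      · exfalso
        have hle : ψ.ker ≤ φK.ker := (Subgroup.map_eq_bot_iff _).1 h
        have hdvd : φK.ker.index ≤ ψ.ker.index :=
          Nat.le_of_dvd (Nat.pos_of_ne_zero Subgroup.index_ne_zero_of_finite)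
            (Subgroup.index_dvd_of_le hle)
        rw [Subgroup.index_ker, Subgroup.index_ker, MonoidHom.range_eq_top.2 hsur,
          Subgroup.card_top, card_alt8] at hdvd
        have h7 : Nat.card (Equiv.Perm {x : ↥V // x ≠ 1}) ≤ Nat.factorial 7 := by
          rw [Nat.card_perm]
          refine Nat.factorial_le ?_
          have e := Nat.card_congr (Equiv.optionSubtypeNe (1 : ↥V))
          rw [Finite.card_option] at e
          omega
        have := le_trans hdvd (le_trans (Nat.card_le_card_of_injective _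
          ψ.range.subtype_injective) h7)
        exact absurd this (by decide +kernel)
      · exact hmin' _ h
    obtain ⟨z, hzV, hz1⟩ : ∃ z ∈ V, z ≠ 1 := by
      have hPpg : IsPGroup 2 ↥P := P₀.2.map N.subtype
      haveI : Nontrivial ↥P := by
        rw [← Finite.one_lt_card_iff_nontrivial, hP,
          ← Nat.card_congr ((P₀ : Subgroup ↥N).equivMapOfInjective _ N.subtype_injective).toEquiv,
          P₀.card_eq_multiplicity]
        refine Nat.one_lt_pow ?_ (by norm_num)
        exact (Nat.Prime.factorization_pos_of_dvd Nat.prime_two Nat.card_pos.ne' h2N).ne'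
      haveI := hPpg.center_nontrivial
      obtain ⟨c, hc⟩ := exists_prime_orderOf_dvd_card' 2 (G := ↥(Subgroup.center ↥P)) (by
        obtain ⟨n, hn⟩ := IsPGroup.iff_card.1 (hPpg.to_subgroup (Subgroup.center ↥P))
        rw [hn]
        refine dvd_pow_self 2 fun h0 => ?_
        subst h0
        rw [pow_zero] at hn
        exact absurd hn (Nat.ne_of_gt Finite.one_lt_card))
      refine ⟨((c : ↥P) : K), ⟨(c : ↥P).2, fun y hy => ?_, ?_⟩, fun e => ?_⟩
      · exact congrArg Subtype.val (Subgroup.mem_center_iff.1 c.2 ⟨y, hy⟩).symm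
      · have h := pow_orderOf_eq_one c
        rw [hc, pow_two] at h
        exact congrArg (fun x : ↥(Subgroup.center ↥P) => ((x : ↥P) : K)) h
      · rw [show c = 1 from Subtype.ext (Subtype.ext e), orderOf_one] at hc
        norm_num at hc
    have hcentral : ∀ g : K, g * z * g⁻¹ = z := fun g =>
      conj_eq_of_autPerm hzV hz1 (MonoidHom.mem_ker.1 (hψ ▸ Subgroup.mem_top g : g ∈ ψ.ker))
    have hzo : orderOf (jK z) = 2 :=
      orderOf_eq_prime (by rw [pow_two, ← map_mul, hzV.2.2, map_one])
        fun e => hz1 (hj (by rw [e, map_one]))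
    have hzI : orderOf (⟨G2Odd.zI, G2Odd.zI_mem⟩ : ↥(chevG2.group F)) = 2 := by
      refine orderOf_eq_prime ?_ fun e => G2Odd.zI_ne_one hodd (congrArg Subtype.val e)
      refine Subtype.ext ?_
      show G2Odd.zI ^ 2 = (1 : GL chevG2.Idx F)
      rw [pow_two, G2Odd.zI, ← map_mul, G2Odd.zp, ← Pi.mulSingle_mul, neg_mul_neg, one_mul,
        Pi.mulSingle_one, map_one]
    obtain ⟨c, hc⟩ := isConj_iff.1 (G2Odd.isConj_of_invol hodd _ _ hzo hzI)
    have hczg : (c : GL chevG2.Idx F) * ι z * (c : GL chevG2.Idx F)⁻¹ = G2Odd.zI :=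
      congrArg Subtype.val hc
    set ι' : K →* GL chevG2.Idx F :=
      (MulAut.conj (c : GL chevG2.Idx F)).toMonoidHom.comp ι with hι'
    have hι'inj : Function.Injective ι' :=
      (MulAut.conj (c : GL chevG2.Idx F)).injective.comp hιinj
    obtain ⟨L₁, L₂, C, hC, ⟨e₁⟩, ⟨e₂⟩, hcom, -, hLC, hidx, -⟩ := G2Odd.centralizer_std hodd
    have hKC : ∀ g : K, ι' g ∈ C := fun g => by
      rw [hC]
      refine Subgroup.mem_inf.2 ⟨mul_mem (mul_mem c.2 (SetLike.coe_mem _)) (inv_mem c.2), ?_⟩
      rw [Subgroup.mem_centralizer_singleton_iff, ← hczg]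
      show ι' g * ι' z = ι' z * ι' g
      rw [← map_mul, ← map_mul, ← hcentral g]
      congr 1
      rw [hcentral g]
      exact mul_inv_eq_iff_eq_mul.1 (hcentral g)
    -- the commutator subgroup is everything, so the image lies in the product
    have hperf : commutator K = ⊤ := hmin' _ (by
      rw [map_commutator_eq, MonoidHom.range_eq_top.2 hsur, ← commutator_def]
      refine (IsSimpleGroup.eq_bot_or_eq_top_of_normal _ inferInstance).resolve_left fun h => ?_
      have h' : Subgroup.center (alternatingGroup (Fin 8)) = ⊤ := by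
        refine eq_top_iff.2 fun a _ => Subgroup.mem_center_iff.2 fun b => ?_
        have hab : b * a * b⁻¹ * a⁻¹ ∈ commutator (alternatingGroup (Fin 8)) :=
          Subgroup.commutator_mem_commutator (Subgroup.mem_top b) (Subgroup.mem_top a)
        rw [h, Subgroup.mem_bot, mul_inv_eq_one, mul_inv_eq_iff_eq_mul] at hab
        exact hab
      rw [alternatingGroup.center_eq_bot (by simp)] at h'
      exact bot_ne_top h')
    haveI hMn : ((L₁ ⊔ L₂).subgroupOf C).Normal := Subgroup.normal_of_index_eq_two hidx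
    have hKM : ∀ g : K, ι' g ∈ L₁ ⊔ L₂ := by
      let θ : K →* ↥C ⧸ (L₁ ⊔ L₂).subgroupOf C :=
        (QuotientGroup.mk' _).comp (ι'.codRestrict C hKC)
      haveI : IsCyclic (↥C ⧸ (L₁ ⊔ L₂).subgroupOf C) := isCyclic_of_prime_card (p := 2) hidx
      letI : CommGroup (↥C ⧸ (L₁ ⊔ L₂).subgroupOf C) := IsCyclic.commGroup
      have hθ : commutator K ≤ θ.ker := Abelianization.commutator_subset_ker θ
      intro g
      have h := hθ (hperf ▸ Subgroup.mem_top g)
      rw [MonoidHom.mem_ker] at h
      exact Subgroup.mem_subgroupOf.1 ((QuotientGroup.eq_one_iff _).1 h)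
    -- lift to `SL₂ × SL₂`
    let Φ : Matrix.SpecialLinearGroup (Fin 2) F × Matrix.SpecialLinearGroup (Fin 2) F →* GL chevG2.Idx F :=
      (L₁.subtype.comp e₁.symm.toMonoidHom).noncommCoprod (L₂.subtype.comp e₂.symm.toMonoidHom)
        fun a b => hcom _ (e₁.symm a).2 _ (e₂.symm b).2
    have hΦ : L₁ ⊔ L₂ ≤ Φ.range := by
      refine le_of_le_of_eq ?_ (MonoidHom.noncommCoprod_range _ _ _).symm
      refine sup_le_sup (fun x hx => ⟨e₁ ⟨x, hx⟩, ?_⟩) (fun x hx => ⟨e₂ ⟨x, hx⟩, ?_⟩) <;> simp
    set Kt := ι'.range.comap Φ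
    let Ψ : Kt →* K := (MonoidHom.ofInjective hι'inj).symm.toMonoidHom.comp
      ((Φ.comp Kt.subtype).codRestrict ι'.range fun x => x.2)
    refine no_sl2_prod Kt.subtype Kt.subtype_injective (φK.comp Ψ) ?_
    refine hsur.comp fun k => ?_
    obtain ⟨x, hx⟩ := hΦ (hKM k)
    refine ⟨⟨x, by show Φ x ∈ ι'.range; rw [hx]; exact ⟨k, rfl⟩⟩, ?_⟩
    refine (MonoidHom.ofInjective hι'inj).injective (Subtype.ext ?_)
    simp only [Ψ, MonoidHom.comp_apply, MulEquiv.coe_toMonoidHom, MulEquiv.apply_symm_apply,
      MonoidHom.ofInjective_apply]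
    exact hx
  · -- an elementary abelian subgroup of order 16 lifts
    obtain ⟨E, hE16, hE⟩ := exists_sixteen
    set T := E.comap φK with hT
    let S₀ : Sylow 2 ↥T := default
    set j : ↥T →* ↥(chevG2.group F) := jK.comp T.subtype
    have hjinj : Function.Injective j :=
      hj.comp T.subtype_injective
    set φT : ↥T →* alternatingGroup (Fin 8) := φK.comp T.subtype
    have hker : φT.ker = N.subgroupOf T := rfl
    have hinj : ∀ x ∈ (S₀ : Subgroup ↥T), φT x = 1 → x = 1 := by
      intro x hx e
      have h1 : orderOf x ∣ Nat.card ↥N := by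
        have hxN : (x : K) ∈ N := MonoidHom.mem_ker.2 e
        rw [← Subgroup.orderOf_coe x, ← Subgroup.orderOf_mk (x : K) hxN]
        exact orderOf_dvd_natCard _
      obtain ⟨n, hn⟩ := IsPGroup.iff_orderOf.1 S₀.2 ⟨x, hx⟩
      rw [Subgroup.orderOf_mk] at hn
      rcases n with _ | n
      · exact orderOf_eq_one_iff.1 hn
      · exact absurd ((dvd_pow_self 2 (Nat.succ_ne_zero n)).trans (hn ▸ h1)) h2N
    have hcard : 16 ≤ Nat.card ↥(S₀ : Subgroup ↥T) := by
      have hrange : φT.range = E := by
        rw [MonoidHom.range_comp, Subgroup.range_subtype, hT,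
          Subgroup.map_comap_eq_self_of_surjective hsur]
      have h16 : 2 ^ 4 ∣ Nat.card ↥(S₀ : Subgroup ↥T) := by
        refine S₀.pow_dvd_card_of_pow_dvd_card ?_
        have h := Subgroup.card_range_dvd φT
        rw [hrange, hE16] at h
        exact h
      exact Nat.le_of_dvd Nat.card_pos h16
    refine absurd (card_elementary hodd ((S₀ : Subgroup ↥T).map j) ?_ ?_) ?_
    · rintro _ ⟨x, hx, rfl⟩
      rw [← map_mul, hinj (x * x) (mul_mem hx hx) (by rw [map_mul]; exact (hE _ x.2).1), map_one]
    · rintro _ ⟨x, hx, rfl⟩ _ ⟨y, hy, rfl⟩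
      have e : x * y * (y * x)⁻¹ = 1 := hinj _ (mul_mem (mul_mem hx hy) (inv_mem (mul_mem hy hx))) (by
        rw [map_mul, map_mul, map_inv, map_mul, mul_inv_eq_one]
        exact (hE _ x.2).2 _ y.2)
      rw [← map_mul, ← map_mul, mul_inv_eq_one.1 e]
    · rw [not_lt, ← Nat.card_congr ((S₀ : Subgroup ↥T).equivMapOfInjective j hjinj).toEquiv]
      exact hcard

/-- No subgroup of `G₂` in characteristic five has `Alt(8)` as a quotient. -/
theorem not_alt8 [Fintype F] [CharP F 5] (H : Subgroup ↥(chevG2.group F))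
    (φ : ↥H →* alternatingGroup (Fin 8)) (hφ : Function.Surjective φ) : False := by
  classical
  obtain ⟨K, hK, hmin⟩ := wellFounded_lt.has_min {K : Subgroup ↥H | K.map φ = ⊤}
    ⟨⊤, by rw [Set.mem_setOf_eq, ← MonoidHom.range_eq_map]
           exact MonoidHom.range_eq_top.2 hφ⟩
  refine core (H.subtype.comp K.subtype) (H.subtype_injective.comp K.subtype_injective)
    (φ.comp K.subtype) (fun a => ?_) (fun L hL => ?_)
  · obtain ⟨x, hx, e⟩ : a ∈ K.map φ := hK.symm ▸ trivial
    exact ⟨⟨x, hx⟩, e⟩
  · by_contra hne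
    refine hmin (L.map K.subtype) (by rw [Set.mem_setOf_eq, Subgroup.map_map]; exact hL) ?_
    refine lt_of_le_of_ne (Subgroup.map_subtype_le L) fun e => hne ?_
    refine Subgroup.map_injective K.subtype_injective ?_
    rw [e, ← MonoidHom.range_eq_map, Subgroup.range_subtype]

end Cfsg.Agent.AltSec.G2Eight
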