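import Mathlib.LinearAlgebra.Dimension.Finite
import Mathlib.LinearAlgebra.FiniteDimensional.Lemmas
import Mathlib.GroupTheory.SpecificGroups.Cyclic

/-!
An elementary abelian 2-group of involutory maps fixes on average at least half of the space.
-/

set_option autoImplicit false

namespace Cfsg.Agent.AltSec.InvolCount

universe u v

variable {F : Type u} [Field F]

/-- The products of all sublists. -/
def allProds {M : Type v} [Monoid M] : List M → List M
  | [] => [1]
  | g :: gs => allProds gs ++ (allProds gs).map (g * ·)

theorem commute_allProds {M : Type v} [Monoid M] (a : M) :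
    ∀ (gs : List M), (∀ g ∈ gs, Commute a g) → ∀ e ∈ allProds gs, Commute a e := by
  intro gs
  induction gs with
  | nil =>
    intro _ e he
    simp only [allProds, List.mem_singleton] at he
    subst he
    exact Commute.one_right a
  | cons g gs ih =>
    intro h e he
    simp only [allProds, List.mem_append, List.mem_map] at he
    rcases he with he | ⟨e', he', rfl⟩
    · exact ih (fun x hx => h x (List.mem_cons_of_mem _ hx)) e he
    · exact (h g List.mem_cons_self).mul_right
        (ih (fun x hx => h x (List.mem_cons_of_mem _ hx)) e' he')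

/-- The dimension of the fixed points. -/
noncomputable def fixDim {V : Type v} [AddCommGroup V] [Module F V] (f : Module.End F V) : ℕ :=
  Module.finrank F (LinearMap.ker (f - 1))

/-- The dimension of the fixed points of `e` within a subspace. -/
noncomputable def fixIn {V : Type v} [AddCommGroup V] [Module F V] (W : Submodule F V)
    (f : Module.End F V) : ℕ :=
  Module.finrank F ↥(W ⊓ LinearMap.ker (f - 1))

variable {V : Type v} [AddCommGroup V] [Module F V] [FiniteDimensional F V]

theorem split (h2 : (2 : F) ≠ 0) {g : Module.End F V} (hg : g * g = 1) (W : Submodule F V)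
    (hW : ∀ x ∈ W, g x ∈ W) :
    Module.finrank F ↥(W ⊓ LinearMap.ker (g - 1)) + Module.finrank F ↥(W ⊓ LinearMap.ker (g + 1)) =
      Module.finrank F ↥W := by
  have hgg : ∀ x, g (g x) = x := fun x => by
    rw [← Module.End.mul_apply, hg, Module.End.one_apply]
  rw [← Submodule.finrank_sup_add_finrank_inf_eq]
  have hinf : W ⊓ LinearMap.ker (g - 1) ⊓ (W ⊓ LinearMap.ker (g + 1)) = ⊥ := by
    rw [eq_bot_iff]
    rintro x ⟨⟨-, h1⟩, ⟨-, h2'⟩⟩
    simp only [SetLike.mem_coe, LinearMap.mem_ker, LinearMap.sub_apply, LinearMap.add_apply,
      Module.End.one_apply] at h1 h2'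
    rw [sub_eq_zero.1 h1, ← two_smul F x, smul_eq_zero] at h2'
    exact h2'.resolve_left h2
  have hsup : W ⊓ LinearMap.ker (g - 1) ⊔ W ⊓ LinearMap.ker (g + 1) = W := by
    refine le_antisymm (sup_le inf_le_left inf_le_left) fun x hx => ?_
    have e : x = (2⁻¹ : F) • (x + g x) + (2⁻¹ : F) • (x - g x) := by
      rw [← smul_add, show x + g x + (x - g x) = (2 : F) • x by rw [two_smul]; abel, smul_smul,
        inv_mul_cancel₀ h2, one_smul]
    rw [e]
    refine Submodule.add_mem_sup ⟨W.smul_mem _ (W.add_mem hx (hW x hx)), ?_⟩
      ⟨W.smul_mem _ (W.sub_mem hx (hW x hx)), ?_⟩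
    · show _ ∈ LinearMap.ker (g - 1)
      simp only [LinearMap.mem_ker, map_smul, LinearMap.sub_apply, Module.End.one_apply, map_add,
        hgg]
      rw [show g x - x + (x - g x) = 0 by abel, smul_zero]
    · show _ ∈ LinearMap.ker (g + 1)
      simp only [LinearMap.mem_ker, map_smul, LinearMap.add_apply, Module.End.one_apply, map_sub,
        hgg]
      rw [show g x + x - (x + g x) = 0 by abel, smul_zero]
  rw [hinf, hsup, finrank_bot, add_zero]

theorem half_le (h2 : (2 : F) ≠ 0) : ∀ (gs : List (Module.End F V)) (W : Submodule F V),
    (∀ g ∈ gs, g * g = 1) → (∀ g ∈ gs, ∀ g' ∈ gs, Commute g g') →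
    (∀ g ∈ gs, ∀ x ∈ W, g x ∈ W) →
    (allProds gs).length * Module.finrank F ↥W ≤ 2 * ((allProds gs).map (fixIn W)).sum := by
  intro gs
  induction gs with
  | nil =>
    intro W _ _ _
    have : fixIn W (1 : Module.End F V) = Module.finrank F ↥W := by
      rw [fixIn, sub_self, LinearMap.ker_zero, inf_top_eq]
    simp only [allProds, List.map_cons, List.map_nil, List.sum_cons, List.sum_nil, this,
      List.length_cons, List.length_nil]
    omega
  | cons g gs ih =>
    intro W hsq hcomm hW
    have hsq' : ∀ x ∈ gs, x * x = 1 := fun x hx => hsq x (List.mem_cons_of_mem _ hx)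
    have hcomm' : ∀ x ∈ gs, ∀ y ∈ gs, Commute x y := fun x hx y hy =>
      hcomm x (List.mem_cons_of_mem _ hx) y (List.mem_cons_of_mem _ hy)
    have hg := hsq g List.mem_cons_self
    set Wp := W ⊓ LinearMap.ker (g - 1) with hWp
    set Wm := W ⊓ LinearMap.ker (g + 1) with hWm
    have hinv : ∀ e : Module.End F V, Commute g e → (∀ x ∈ W, e x ∈ W) →
        (∀ x ∈ Wp, e x ∈ Wp) ∧ (∀ x ∈ Wm, e x ∈ Wm) := by
      intro e he hWe
      have hge : ∀ x, g (e x) = e (g x) := fun x => LinearMap.congr_fun he.eq x
      constructor <;> rintro x ⟨hx, hk⟩ <;> refine ⟨hWe x hx, ?_⟩ <;>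
        simp only [SetLike.mem_coe, LinearMap.mem_ker, LinearMap.sub_apply, LinearMap.add_apply,
          Module.End.one_apply] at hk ⊢
      · rw [hge, sub_eq_zero.1 hk, sub_self]
      · rw [hge, eq_neg_of_add_eq_zero_left hk, map_neg, neg_add_cancel]
    have hgs : ∀ x ∈ gs, Commute g x := fun x hx =>
      hcomm g List.mem_cons_self x (List.mem_cons_of_mem _ hx)
    -- the two sums
    have hpair : ∀ e ∈ allProds gs,
        2 * fixIn Wp e + Module.finrank F ↥Wm ≤ fixIn W e + fixIn W (g * e) := by
      intro e he
      have hce : Commute g e := commute_allProds g gs hgs e he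
      have hWe : ∀ x ∈ W, e x ∈ W := by
        have key : ∀ (l : List (Module.End F V)), (∀ y ∈ l, ∀ x ∈ W, y x ∈ W) →
            ∀ e ∈ allProds l, ∀ x ∈ W, e x ∈ W := by
          intro l
          induction l with
          | nil =>
            intro _ e he x hx
            simp only [allProds, List.mem_singleton] at he
            subst he; exact hx
          | cons y l ih' =>
            intro h e he x hx
            simp only [allProds, List.mem_append, List.mem_map] at he
            rcases he with he | ⟨e', he', rfl⟩
            · exact ih' (fun z hz => h z (List.mem_cons_of_mem _ hz)) e he x hx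
            · exact h y List.mem_cons_self _
                (ih' (fun z hz => h z (List.mem_cons_of_mem _ hz)) e' he' x hx)
        exact key gs (fun y hy => hW y (List.mem_cons_of_mem _ hy)) e he
      obtain ⟨hep, hem⟩ := hinv e hce hWe
      have hesq : e * e = 1 := by
        have key : ∀ (l : List (Module.End F V)), (∀ y ∈ l, y * y = 1) →
            (∀ y ∈ l, ∀ z ∈ l, Commute y z) → ∀ e ∈ allProds l, e * e = 1 := by
          intro l
          induction l with
          | nil =>
            intro _ _ e he
            simp only [allProds, List.mem_singleton] at he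
            subst he; exact one_mul 1
          | cons y l ih' =>
            intro h hc e he
            have h' := ih' (fun z hz => h z (List.mem_cons_of_mem _ hz)) fun a ha b hb =>
              hc a (List.mem_cons_of_mem _ ha) b (List.mem_cons_of_mem _ hb)
            simp only [allProds, List.mem_append, List.mem_map] at he
            rcases he with he | ⟨e', he', rfl⟩
            · exact h' e he
            · have hye : Commute y e' := commute_allProds y l
                (fun z hz => hc y List.mem_cons_self z (List.mem_cons_of_mem _ hz)) e' he'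
              rw [show y * e' * (y * e') = (y * y) * (e' * e') by
                rw [mul_assoc, ← mul_assoc e' y, ← hye.eq, mul_assoc, ← mul_assoc y y],
                h y List.mem_cons_self, h' e' he', one_mul]
        exact key gs hsq' hcomm' e he
      -- fixed points of `e` and of `g * e`
      have h1 : Module.finrank F ↥(Wp ⊓ LinearMap.ker (e - 1)) +
          Module.finrank F ↥(Wm ⊓ LinearMap.ker (e - 1)) ≤ fixIn W e := by
        rw [← Submodule.finrank_sup_add_finrank_inf_eq, fixIn]
        have hb : Wp ⊓ LinearMap.ker (e - 1) ⊓ (Wm ⊓ LinearMap.ker (e - 1)) = ⊥ := by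
          rw [eq_bot_iff]
          rintro x ⟨⟨⟨-, a⟩, -⟩, ⟨⟨-, b⟩, -⟩⟩
          simp only [SetLike.mem_coe, LinearMap.mem_ker, LinearMap.sub_apply, LinearMap.add_apply,
            Module.End.one_apply] at a b
          rw [sub_eq_zero.1 a, ← two_smul F x, smul_eq_zero] at b
          exact b.resolve_left h2
        rw [hb, finrank_bot, add_zero]
        exact Submodule.finrank_mono (sup_le (inf_le_inf_right _ inf_le_left)
          (inf_le_inf_right _ inf_le_left))
      have h3 : Module.finrank F ↥(Wp ⊓ LinearMap.ker (e - 1)) +
          Module.finrank F ↥(Wm ⊓ LinearMap.ker (e + 1)) ≤ fixIn W (g * e) := by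
        rw [← Submodule.finrank_sup_add_finrank_inf_eq, fixIn]
        have hb : Wp ⊓ LinearMap.ker (e - 1) ⊓ (Wm ⊓ LinearMap.ker (e + 1)) = ⊥ := by
          rw [eq_bot_iff]
          rintro x ⟨⟨⟨-, a⟩, -⟩, ⟨⟨-, b⟩, -⟩⟩
          simp only [SetLike.mem_coe, LinearMap.mem_ker, LinearMap.sub_apply, LinearMap.add_apply,
            Module.End.one_apply] at a b
          rw [sub_eq_zero.1 a, ← two_smul F x, smul_eq_zero] at b
          exact b.resolve_left h2
        rw [hb, finrank_bot, add_zero]
        refine Submodule.finrank_mono (sup_le ?_ ?_)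
        · rintro x ⟨⟨hx, a⟩, b⟩
          refine ⟨hx, ?_⟩
          simp only [SetLike.mem_coe, LinearMap.mem_ker, LinearMap.sub_apply,
            Module.End.one_apply, Module.End.mul_apply] at a b ⊢
          rw [sub_eq_zero.1 b, sub_eq_zero.1 a, sub_self]
        · rintro x ⟨⟨hx, a⟩, b⟩
          refine ⟨hx, ?_⟩
          simp only [SetLike.mem_coe, LinearMap.mem_ker, LinearMap.sub_apply, LinearMap.add_apply,
            Module.End.one_apply, Module.End.mul_apply] at a b ⊢
          rw [eq_neg_of_add_eq_zero_left b, map_neg, eq_neg_of_add_eq_zero_left a, neg_neg, sub_self]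
      have h4 := split h2 hesq Wm hem
      simp only [fixIn] at h1 h3 ⊢
      omega
    have hsum : (allProds gs).length * Module.finrank F ↥Wm +
        2 * ((allProds gs).map (fixIn Wp)).sum ≤
        ((allProds (g :: gs)).map (fixIn W)).sum := by
      simp only [allProds, List.map_append, List.sum_append, List.map_map]
      clear ih
      generalize allProds gs = L at hpair ⊢
      induction L with
      | nil => simp
      | cons a L ih' =>
        have := hpair a List.mem_cons_self
        have := ih' fun e he => hpair e (List.mem_cons_of_mem _ he)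
        simp only [List.map_cons, List.sum_cons, List.length_cons, Function.comp_apply, add_mul,
          one_mul] at *
        omega
    have hIH := ih Wp hsq' hcomm' fun x hx => (hinv x (hgs x hx)
      (hW x (List.mem_cons_of_mem _ hx))).1
    have hlen : (allProds (g :: gs)).length = 2 * (allProds gs).length := by
      simp only [allProds, List.length_append, List.length_map]; ring
    have hdim := split h2 hg W (hW g List.mem_cons_self)
    rw [hlen]
    calc 2 * (allProds gs).length * Module.finrank F ↥W
        = 2 * ((allProds gs).length * Module.finrank F ↥Wp +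
            (allProds gs).length * Module.finrank F ↥Wm) := by rw [← hdim]; ring
      _ ≤ _ := by omega

end Cfsg.Agent.AltSec.InvolCount
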