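import Cfsg.Agent.AltSec.Dich

/-! Canonical lifts of double transpositions when the Klein four-groups lift to abelian groups. -/

namespace Cfsg.Agent.AltSec

open Equiv
open scoped commutatorElement

variable {k V : Type*} [Field k] [AddCommGroup V] [Module k V] {r : ℕ}

/-- canonical lift of `(a b)(c d)` -/
def Xq (ρ : PRep k V r) (a b c d : Fin r) : GV k V := ⁅ρ.f (tc b c d), ρ.f (dt a c b d)⁆

theorem tc_apply {a b c : Fin r} (hab : a ≠ b) (hbc : b ≠ c) (hac : a ≠ c) :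
    tc a b c a = b ∧ tc a b c b = c ∧ tc a b c c = a := by
  simp [tc, Equiv.swap_apply_def]
  grind

theorem tc_apply_of_ne {a b c x : Fin r} (ha : x ≠ a) (hb : x ≠ b) (hc : x ≠ c) :
    tc a b c x = x := by
  simp [tc, Equiv.swap_apply_def, ha, hb, hc]

theorem dt_apply {a b c d : Fin r} (h : [a, b, c, d].Nodup) :
    dt a b c d a = b ∧ dt a b c d b = a ∧ dt a b c d c = d ∧ dt a b c d d = c := by
  rw [nodup_four] at h
  simp [dt, Equiv.swap_apply_def]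
  grind

theorem dt_apply_of_ne {a b c d x : Fin r} (ha : x ≠ a) (hb : x ≠ b) (hc : x ≠ c) (hd : x ≠ d) :
    dt a b c d x = x := by
  simp [dt, Equiv.swap_apply_def, ha, hb, hc, hd]

namespace PRep

variable {ρ : PRep k V r}

theorem comm_eq {σ τ X X' Y Y'} (hX : ρ.Lifts σ X) (hX' : ρ.Lifts σ X') (hY : ρ.Lifts τ Y)
    (hY' : ρ.Lifts τ Y') : ⁅X', Y'⁆ = ⁅X, Y⁆ := by
  obtain ⟨a, rfl⟩ := hX.unique hX'
  obtain ⟨b, rfl⟩ := hY.unique hY'
  rw [commutatorElement_def, commutatorElement_def]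
  calc sc a * X * (sc b * Y) * (sc a * X)⁻¹ * (sc b * Y)⁻¹
      = sc a * (X * sc b) * Y * X⁻¹ * (sc a)⁻¹ * Y⁻¹ * (sc b)⁻¹ := by group
    _ = sc a * (sc b * X) * Y * X⁻¹ * (sc a)⁻¹ * Y⁻¹ * (sc b)⁻¹ := by rw [sc_comm b X]
    _ = sc a * sc b * (X * Y * X⁻¹) * (sc a⁻¹ * (Y⁻¹ * sc b⁻¹)) := by
      rw [map_inv, map_inv]; group
    _ = sc a * sc b * (X * Y * X⁻¹) * (sc a⁻¹ * (sc b⁻¹ * Y⁻¹)) := by rw [sc_comm b⁻¹ Y⁻¹]
    _ = sc a * sc b * ((X * Y * X⁻¹) * sc (a⁻¹ * b⁻¹)) * Y⁻¹ := by rw [map_mul]; group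
    _ = sc a * sc b * (sc (a⁻¹ * b⁻¹) * (X * Y * X⁻¹)) * Y⁻¹ := by
      rw [sc_comm (a⁻¹ * b⁻¹) (X * Y * X⁻¹)]
    _ = sc (a * b * (a⁻¹ * b⁻¹)) * (X * Y * X⁻¹ * Y⁻¹) := by simp only [map_mul, map_inv]; group
    _ = X * Y * X⁻¹ * Y⁻¹ := by
      rw [show a * b * (a⁻¹ * b⁻¹) = 1 by rw [← mul_inv, mul_inv_cancel], map_one, one_mul]

theorem conjTc {a b c d : Fin r} (h : [a, b, c, d].Nodup) :
    tc b c d * dt a c b d * (tc b c d)⁻¹ = dt a d c b := by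
  rw [nodup_four] at h
  obtain ⟨h1, h2, h3⟩ := tc_apply h.2.2.2.1 h.2.2.2.2.2 h.2.2.2.2.1
  rw [conj_dt, tc_apply_of_ne h.1 h.2.1 h.2.2.1, h1, h2, h3]

theorem lifts_Xq {a b c d : Fin r} (h : [a, b, c, d].Nodup) :
    ρ.Lifts (dt a b c d) (Xq ρ a b c d) := by
  have hn := nodup_four.1 h
  have h1 : [a, c, b, d].Nodup := by rw [nodup_four]; tauto
  have hs := sign_tc hn.2.2.2.1 hn.2.2.2.2.2
  have := (ρ.lifts_f (tc b c d)).comm hs (sign_dt' h1) (ρ.lifts_f (dt a c b d))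
  have he : ⁅tc b c d, dt a c b d⁆ = dt a b c d := by
    rw [commutatorElement_def, conjTc h]
    have hi : (dt a c b d)⁻¹ = dt a c b d :=
      inv_eq_of_mul_eq_one_right (by rw [← pow_two, dt_sq h1])
    rw [hi]
    ext x
    simp [dt, Equiv.swap_apply_def]
    grind
  rw [he] at this
  exact this

theorem conj_Xq {a b c d : Fin r} (h : [a, b, c, d].Nodup) {σ : Perm (Fin r)} {G : GV k V}
    (hσ : Perm.sign σ = 1) (hG : ρ.Lifts σ G) :
    G * Xq ρ a b c d * G⁻¹ = Xq ρ (σ a) (σ b) (σ c) (σ d) := by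
  have hn := nodup_four.1 h
  have l1 := hG.conj hσ (sign_tc hn.2.2.2.1 hn.2.2.2.2.2) (ρ.lifts_f (tc b c d))
  have l2 := hG.conj hσ (sign_dt' (show [a, c, b, d].Nodup by rw [nodup_four]; tauto))
    (ρ.lifts_f (dt a c b d))
  rw [conj_tc] at l1
  rw [conj_dt] at l2
  rw [Xq, Xq, conjugate_commutatorElement]
  exact comm_eq (ρ.lifts_f _) l1 (ρ.lifts_f _) l2

theorem Xq_comm {a b c d : Fin r} (hr : 6 ≤ r) (hL : ρ.Lin) (h : [a, b, c, d].Nodup) :
    Xq ρ b a c d = Xq ρ a b c d := by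
  have hn := nodup_four.1 h
  obtain ⟨e, g, heg, he, hg⟩ := exists_avoid2 [a, b, c, d] (by simp; omega)
  simp only [List.mem_cons, List.not_mem_nil, or_false, not_or] at he hg
  have h6 : [a, b, c, d, e, g].Nodup := by rw [nodup_six]; tauto
  have hu : [a, b, e, g].Nodup := by rw [nodup_four]; tauto
  have hd := dt_apply hu
  have := conj_Xq (ρ := ρ) h (sign_dt' hu) (ρ.lifts_f (dt a b e g))
  rw [hd.1, hd.2.1, dt_apply_of_ne (Ne.symm hn.2.1) (Ne.symm hn.2.2.2.1) (Ne.symm he.2.2.1)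
    (Ne.symm hg.2.2.1), dt_apply_of_ne (Ne.symm hn.2.2.1) (Ne.symm hn.2.2.2.2.1)
    (Ne.symm he.2.2.2) (Ne.symm hg.2.2.2)] at this
  rw [← this, ((cm_share hL h6).lifts (lifts_Xq h) (ρ.lifts_f _)).symm.eq]
  group

theorem Xq_rot {a b c d : Fin r} (hL : ρ.Lin) (h : [a, b, c, d].Nodup) :
    Xq ρ c d a b = Xq ρ a b c d := by
  have hn := nodup_four.1 h
  have hu : [a, c, b, d].Nodup := by rw [nodup_four]; tauto
  have hd := dt_apply hu
  have := conj_Xq (ρ := ρ) h (sign_dt' hu) (ρ.lifts_f (dt a c b d))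
  rw [hd.1, hd.2.1, hd.2.2.1, hd.2.2.2] at this
  rw [← this, ((hL a b c d h).lifts (lifts_Xq h) (ρ.lifts_f _)).symm.eq]
  group

theorem Xq_comm' {a b c d : Fin r} (hr : 6 ≤ r) (hL : ρ.Lin) (h : [a, b, c, d].Nodup) :
    Xq ρ a b d c = Xq ρ a b c d := by
  have hn := nodup_four.1 h
  rw [Xq_rot hL (show [d, c, a, b].Nodup by rw [nodup_four]; tauto),
    Xq_comm hr hL (show [c, d, a, b].Nodup by rw [nodup_four]; tauto), Xq_rot hL h]

theorem Xq_commute_klein {a b c d : Fin r} (hL : ρ.Lin) (h : [a, b, c, d].Nodup) :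
    Commute (Xq ρ a b c d) (Xq ρ a c b d) :=
  (hL a b c d h).lifts (lifts_Xq h) (lifts_Xq (by rw [nodup_four] at h ⊢; tauto))

theorem Xq_commute_share {a b c d e g : Fin r} (hL : ρ.Lin) (h : [a, b, c, d, e, g].Nodup) :
    Commute (Xq ρ a b c d) (Xq ρ a b e g) :=
  (cm_share hL h).lifts (lifts_Xq (by rw [nodup_six] at h; rw [nodup_four]; tauto))
    (lifts_Xq (by rw [nodup_six] at h; rw [nodup_four]; tauto))

theorem Xq_commute_disjoint {a b c d e g i j : Fin r}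
    (h : [a, b, c, d].Nodup) (h' : [e, g, i, j].Nodup)
    (hd : ∀ x ∈ [a, b, c, d], x ∉ [e, g, i, j]) :
    Commute (Xq ρ a b c d) (Xq ρ e g i j) :=
  (cm_disjoint h h' hd).lifts (lifts_Xq h) (lifts_Xq h')

theorem Xq_sq {a b c d : Fin r} (hL : ρ.Lin) (h : [a, b, c, d].Nodup) :
    Xq ρ a b c d * Xq ρ a b c d = 1 := by
  have hn := nodup_four.1 h
  have h1 : [a, c, b, d].Nodup := by rw [nodup_four]; tauto
  have hs := sign_tc hn.2.2.2.1 hn.2.2.2.2.2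
  have lY := ρ.lifts_f (dt a c b d)
  have lS := ρ.lifts_f (tc b c d)
  have lY2 := lS.conj hs (sign_dt' h1) lY
  rw [conjTc h] at lY2
  obtain ⟨μ, hμ⟩ := pow_scalar (sign_dt' h1) lY (dt_sq h1)
  have hc : Commute (ρ.f (tc b c d) * ρ.f (dt a c b d) * (ρ.f (tc b c d))⁻¹) (ρ.f (dt a c b d)) := by
    have h2 : [a, c, d, b].Nodup := by rw [nodup_four]; tauto
    have := (hL a c d b h2).symm
    rw [show dt a c d b = dt a c b d from dt_swap'] at this
    exact this.lifts lY2 lY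
  rw [Xq, commutatorElement_def]
  rw [pow_two] at hμ
  generalize ρ.f (tc b c d) = S at hc
  generalize ρ.f (dt a c b d) = Y at hμ hc
  calc S * Y * S⁻¹ * Y⁻¹ * (S * Y * S⁻¹ * Y⁻¹)
      = (S * Y * S⁻¹) * (Y⁻¹ * (S * Y * S⁻¹)) * Y⁻¹ := by group
    _ = (S * Y * S⁻¹) * ((S * Y * S⁻¹) * Y⁻¹) * Y⁻¹ := by rw [(hc.inv_right).symm.eq]
    _ = S * (Y * Y) * S⁻¹ * (Y * Y)⁻¹ := by group
    _ = 1 := by rw [hμ, ← sc_comm μ S]; group

theorem Xq_inv {a b c d : Fin r} (hL : ρ.Lin) (h : [a, b, c, d].Nodup) :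
    (Xq ρ a b c d)⁻¹ = Xq ρ a b c d := inv_eq_of_mul_eq_one_right (Xq_sq hL h)

theorem Xq_klein {a b c d : Fin r} (hr : 6 ≤ r) (hL : ρ.Lin) (h : [a, b, c, d].Nodup) :
    Xq ρ a b c d * Xq ρ a c b d = Xq ρ a d b c := by
  have hn := nodup_four.1 h
  have h1 : [a, c, b, d].Nodup := by rw [nodup_four]; tauto
  have h2 : [a, c, d, b].Nodup := by rw [nodup_four]; tauto
  have h3 : [a, d, b, c].Nodup := by rw [nodup_four]; tauto
  have hs := sign_tc hn.2.2.2.1 hn.2.2.2.2.2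
  have lY := ρ.lifts_f (dt a c b d)
  have lS := ρ.lifts_f (tc b c d)
  have lY2 := lS.conj hs (sign_dt' h1) lY
  have t1 := tc_apply hn.2.2.2.1 hn.2.2.2.2.2 hn.2.2.2.2.1
  have ta := tc_apply_of_ne hn.1 hn.2.1 hn.2.2.1
  have e1 := conj_Xq (ρ := ρ) h hs lS
  rw [ta, t1.1, t1.2.1, t1.2.2] at e1
  have e2 := conj_Xq (ρ := ρ) h2 hs lS
  rw [ta, t1.1, t1.2.1, t1.2.2] at e2
  have hS3 : tc b c d ^ 3 = 1 := by
    ext x
    simp [pow_succ, tc, Equiv.swap_apply_def]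
    grind
  obtain ⟨μ, hμ⟩ := pow_scalar hs lS hS3
  rw [conjTc h] at lY2
  have hc : Commute (ρ.f (tc b c d) * ρ.f (dt a c b d) * (ρ.f (tc b c d))⁻¹) (ρ.f (dt a c b d)) := by
    have := (hL a c d b h2).symm
    rw [show dt a c d b = dt a c b d from dt_swap'] at this
    exact this.lifts lY2 lY
  have hprod : Xq ρ a b c d * Xq ρ a c d b * Xq ρ a d b c = 1 := by
    rw [← e2, ← e1, Xq, commutatorElement_def]
    generalize ρ.f (tc b c d) = S at hμ hc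
    generalize ρ.f (dt a c b d) = Y at hc
    have hμ' : S * S * S * Y * (S * S * S)⁻¹ = Y := by
      rw [show S * S * S = S ^ 3 by simp [pow_succ], hμ, sc_comm]; group
    -- conjugating the commutation relation by `S`
    have c3 : Commute (S * (S * Y * S⁻¹) * S⁻¹) (S * Y * S⁻¹) :=
      Commute.map hc (MulAut.conj S).toMonoidHom
    have c31 : Commute (S * (S * Y * S⁻¹) * S⁻¹) Y := by
      have c4 : Commute (S * (S * (S * Y * S⁻¹) * S⁻¹) * S⁻¹) (S * (S * Y * S⁻¹) * S⁻¹) :=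
        Commute.map c3 (MulAut.conj S).toMonoidHom
      have e : S * (S * (S * Y * S⁻¹) * S⁻¹) * S⁻¹ = Y := by
        rw [show S * (S * (S * Y * S⁻¹) * S⁻¹) * S⁻¹ = S * S * S * Y * (S * S * S)⁻¹ by group, hμ']
      rw [e] at c4
      exact c4.symm
    generalize hA : S * Y * S⁻¹ = A at hc c3 c31
    generalize hB : S * A * S⁻¹ = B at c3 c31
    have hC : S * B * S⁻¹ = Y := by
      rw [← hB, ← hA, show S * (S * (S * Y * S⁻¹) * S⁻¹) * S⁻¹ = S * S * S * Y * (S * S * S)⁻¹ by group,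
        hμ']
    have g1 : S * (A * Y⁻¹) * S⁻¹ = B * A⁻¹ := by rw [← hB, ← hA]; group
    have g2 : S * (B * A⁻¹) * S⁻¹ = Y * B⁻¹ := by rw [← hC, ← hB]; group
    rw [g1, g2]
    calc A * Y⁻¹ * (B * A⁻¹) * (Y * B⁻¹) = A * Y⁻¹ * (B * (A⁻¹ * Y)) * B⁻¹ := by group
      _ = A * Y⁻¹ * ((A⁻¹ * Y) * B) * B⁻¹ := by
        rw [((c3.inv_right).mul_right c31).eq]
      _ = A * (Y⁻¹ * A⁻¹) * Y := by group
      _ = A * (A⁻¹ * Y⁻¹) * Y := by rw [(hc.inv_left.inv_right).symm.eq]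
      _ = 1 := by group
  rw [Xq_comm' hr hL h1] at hprod
  rw [eq_inv_of_mul_eq_one_left hprod, Xq_inv hL h3]

set_option maxHeartbeats 1000000 in
theorem Xq_share {a b c d e g : Fin r} (hr : 6 ≤ r) (hL : ρ.Lin)
    (h : [a, b, c, d, e, g].Nodup) :
    Xq ρ a b e g * Xq ρ c d e g = Xq ρ a b c d := by
  have hn := nodup_six.1 h
  have hu : [a, b, e, g].Nodup := by rw [nodup_four]; tauto
  have hy : [a, c, b, d].Nodup := by rw [nodup_four]; tauto
  have h4 : [a, b, c, d].Nodup := by rw [nodup_four]; tauto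
  have hcd : [c, d, e, g].Nodup := by rw [nodup_four]; tauto
  have du := dt_apply hu
  have dy := dt_apply hy
  have c1 := conj_Xq (ρ := ρ) hy (sign_dt' hu) (lifts_Xq hu)
  rw [du.1, du.2.1, dt_apply_of_ne (Ne.symm hn.2.1) (Ne.symm hn.2.2.2.2.2.1)
    (show c ≠ e by tauto) (show c ≠ g by tauto),
    dt_apply_of_ne (show d ≠ a by tauto) (show d ≠ b by tauto)
    (show d ≠ e by tauto) (show d ≠ g by tauto), Xq_inv hL hu] at c1
  have c2 := conj_Xq (ρ := ρ) hu (sign_dt' hy) (lifts_Xq hy)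
  rw [dy.1, dy.2.2.1, dt_apply_of_ne (show e ≠ a by tauto) (show e ≠ c by tauto)
    (show e ≠ b by tauto) (show e ≠ d by tauto),
    dt_apply_of_ne (show g ≠ a by tauto) (show g ≠ c by tauto)
    (show g ≠ b by tauto) (show g ≠ d by tauto), Xq_inv hL hy] at c2
  have hb : Xq ρ b c a d = Xq ρ a d b c :=
    Xq_rot hL (show [a, d, b, c].Nodup by rw [nodup_four]; tauto)
  rw [hb] at c1
  have hcomm : Commute (Xq ρ a b e g) (Xq ρ c d e g) := by
    have := Xq_commute_share (ρ := ρ) hL (show [e, g, a, b, c, d].Nodup by rw [nodup_six]; tauto)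
    rw [Xq_rot hL hu, Xq_rot hL hcd] at this
    exact this
  rw [hcomm.eq, ← c2]
  calc Xq ρ a c b d * Xq ρ a b e g * Xq ρ a c b d * Xq ρ a b e g
      = Xq ρ a c b d * (Xq ρ a b e g * Xq ρ a c b d * Xq ρ a b e g) := by group
    _ = Xq ρ a c b d * Xq ρ a d b c := by rw [c1]
    _ = Xq ρ a b c d := by
      rw [← Xq_klein hr hL h4, (Xq_commute_klein hL h4).eq, ← mul_assoc,
        Xq_sq hL hy, one_mul]

end PRep

end Cfsg.Agent.AltSec
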