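import Cfsg.Agent.AltSec.OddMain

/-! A frame `v j` spanning the lines `{o, j}`, and the degree bound. -/

namespace Cfsg.Agent.AltSec

open Equiv Module

variable {k V : Type*} [Field k] [AddCommGroup V] [Module k V] [FiniteDimensional k V] {r : ℕ}

namespace PRep

variable {ρ : PRep k V r}

local macro "ndgrind" : tactic =>
  `(tactic| (simp only [List.nodup_cons, List.mem_cons, List.not_mem_nil, or_false, not_or,
      List.nodup_nil, and_true, not_false_eq_true] at *; grind only))

open Classical in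
/-- the frame vectors -/
noncomputable def vec (ρ : PRep k V r) (o t : Fin r) (v0 : V) (j : Fin r) : V :=
  if j = o then 0 else if j = t then v0 else
    if h : ∃ q : Fin r × Fin r, [o, t, j, q.1, q.2].Nodup then
      (Xq ρ t j h.choose.1 h.choose.2 : Module.End k V) v0 else 0

/-- the data of a frame -/
structure Frame (ρ : PRep k V r) (o t : Fin r) (v0 : V) : Prop where
  refl : ρ.Refl
  ne : o ≠ t
  mem : v0 ∈ Ln ρ o t
  nz : v0 ≠ 0

theorem Refl.share' (H : ρ.Refl) {a b c d e g : Fin r} (h : [a, b, c, d, e, g].Nodup) (v : V) :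
    (Xq ρ a b e g : Module.End k V) ((Xq ρ a b c d : Module.End k V) v) =
      (Xq ρ c d e g : Module.End k V) v := by
  have hab : [a, b, e, g].Nodup := by ndgrind
  rw [← Xq_share H.six H.lin h, gv_mul_apply, Xq_sq_apply H.lin hab]

variable {o t : Fin r} {v0 : V}

theorem Frame.fix0 (F : ρ.Frame o t v0) {a b c d : Fin r} (h : [o, t, a, b, c, d].Nodup) :
    (Xq ρ a b c d : Module.End k V) v0 = v0 := F.refl.Ln_fix h F.mem

theorem Frame.pick (F : ρ.Frame o t v0) (l : List (Fin r)) (hl : l.length ≤ 7) :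
    ∃ x y, x ≠ y ∧ x ∉ l ∧ y ∉ l :=
  exists_avoid2 l (by have := F.refl.nine; omega)

theorem Frame.trans_eq (F : ρ.Frame o t v0) {j c d e g : Fin r} (h : [o, t, j, c, d].Nodup)
    (h' : [o, t, j, e, g].Nodup) :
    (Xq ρ t j c d : Module.End k V) v0 = (Xq ρ t j e g : Module.End k V) v0 := by
  have disj : ∀ c d e g : Fin r, [o, t, j, c, d, e, g].Nodup →
      (Xq ρ t j c d : Module.End k V) v0 = (Xq ρ t j e g : Module.End k V) v0 := by
    intro c d e g h7
    have := F.refl.share' (show [t, j, c, d, e, g].Nodup by ndgrind) v0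
    rw [F.fix0 (show [o, t, c, d, e, g].Nodup by ndgrind)] at this
    have h2 := congrArg (Xq ρ t j e g : Module.End k V) this
    rwa [Xq_sq_apply F.refl.lin (show [t, j, e, g].Nodup by ndgrind)] at h2
  obtain ⟨x, y, hxy, hx, hy⟩ := F.pick [o, t, j, c, d, e, g] (by simp)
  rw [disj c d x y (by ndgrind), disj x y e g (by ndgrind)]

theorem Frame.vec_t (F : ρ.Frame o t v0) : vec ρ o t v0 t = v0 := by
  rw [vec, if_neg F.ne.symm, if_pos rfl]

theorem Frame.vec_eq (F : ρ.Frame o t v0) {j c d : Fin r} (h : [o, t, j, c, d].Nodup) :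
    vec ρ o t v0 j = (Xq ρ t j c d : Module.End k V) v0 := by
  have hex : ∃ q : Fin r × Fin r, [o, t, j, q.1, q.2].Nodup := ⟨(c, d), h⟩
  rw [vec, if_neg (by ndgrind), if_neg (by ndgrind), dif_pos hex]
  exact F.trans_eq hex.choose_spec h

theorem Frame.vec_mem (F : ρ.Frame o t v0) {j : Fin r} (hj : j ≠ o) :
    vec ρ o t v0 j ∈ Ln ρ o j ∧ vec ρ o t v0 j ≠ 0 := by
  by_cases hjt : j = t
  · subst hjt
    rw [F.vec_t]
    exact ⟨F.mem, F.nz⟩
  have hne := F.ne
  obtain ⟨c, d, hcd, hc, hd⟩ := F.pick [o, t, j] (by simp)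
  have h5 : [o, t, j, c, d].Nodup := by ndgrind
  have h4 : [t, j, c, d].Nodup := by ndgrind
  rw [F.vec_eq h5]
  refine ⟨?_, fun h0 => F.nz (gv_injective _ (by rw [h0, map_zero]))⟩
  have := F.refl.Ln_conj F.ne (sign_dt' h4) (lifts_Xq h4) F.mem
  rwa [(dt_apply h4).1, dt_apply_of_ne (by ndgrind) (by ndgrind) (by ndgrind)
    (by ndgrind)] at this

/-- quads avoiding `o` and `t` -/
theorem Frame.equiv_fix (F : ρ.Frame o t v0) {a b c d : Fin r} (h : [o, t, a, b, c, d].Nodup)
    {j : Fin r} (hj : j ≠ o) :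
    (Xq ρ a b c d : Module.End k V) (vec ρ o t v0 j) = vec ρ o t v0 (dt a b c d j) := by
  have h4 : [a, b, c, d].Nodup := by ndgrind
  have hσo : dt a b c d o = o := dt_apply_of_ne (by ndgrind) (by ndgrind) (by ndgrind) (by ndgrind)
  have hσt : dt a b c d t = t := dt_apply_of_ne (by ndgrind) (by ndgrind) (by ndgrind) (by ndgrind)
  by_cases hjt : j = t
  · rw [hjt, hσt, F.vec_t, F.fix0 h]
  have hne := F.ne
  obtain ⟨x, y, hxy, hx, hy⟩ := F.pick [o, t, j] (by simp)
  have h5 : [o, t, j, x, y].Nodup := by ndgrind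
  have h4' : [t, j, x, y].Nodup := by ndgrind
  have hmap : [dt a b c d o, dt a b c d t, dt a b c d j, dt a b c d x, dt a b c d y].Nodup :=
    h5.map (dt a b c d).injective
  rw [hσo, hσt] at hmap
  rw [F.vec_eq h5, F.vec_eq hmap, ← apply_conj h4' (sign_dt' h4) (lifts_Xq h4) v0, hσt,
    F.fix0 h]

/-- quads through `t` avoiding `o` -/
theorem Frame.equiv_move (F : ρ.Frame o t v0) {j a b : Fin r} (h : [o, t, j, a, b].Nodup)
    {i : Fin r} (hi : i ≠ o) :
    (Xq ρ t j a b : Module.End k V) (vec ρ o t v0 i) = vec ρ o t v0 (dt t j a b i) := by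
  have h4 : [t, j, a, b].Nodup := by ndgrind
  have hd := dt_apply h4
  by_cases hit : i = t
  · rw [hit, hd.1, F.vec_t, F.vec_eq h]
  by_cases hij : i = j
  · rw [hij, hd.2.1, F.vec_t, F.vec_eq h, Xq_sq_apply F.refl.lin h4]
  have away : ∀ a b i : Fin r, [o, t, j, a, b, i].Nodup →
      (Xq ρ t j a b : Module.End k V) (vec ρ o t v0 i) = vec ρ o t v0 i := by
    intro a b i h6
    have h4a : [t, j, a, b].Nodup := by ndgrind
    obtain ⟨x, y, hxy, hx, hy⟩ := F.pick [o, t, j, a, b, i] (by simp)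
    have h5 : [o, t, i, x, y].Nodup := by ndgrind
    have h4' : [t, i, x, y].Nodup := by ndgrind
    rw [F.vec_eq h5, ← apply_conj h4' (sign_dt' h4a) (lifts_Xq h4a) v0, (dt_apply h4a).1,
      dt_apply_of_ne (a := t) (b := j) (c := a) (d := b) (x := i) (by ndgrind) (by ndgrind)
        (by ndgrind) (by ndgrind),
      dt_apply_of_ne (a := t) (b := j) (c := a) (d := b) (x := x) (by ndgrind) (by ndgrind)
        (by ndgrind) (by ndgrind),
      dt_apply_of_ne (a := t) (b := j) (c := a) (d := b) (x := y) (by ndgrind) (by ndgrind)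
        (by ndgrind) (by ndgrind),
      ← F.vec_eq (show [o, t, j, a, b].Nodup by ndgrind),
      F.equiv_fix (show [o, t, j, i, x, y].Nodup by ndgrind) (show j ≠ o by ndgrind),
      (dt_apply (show [j, i, x, y].Nodup by ndgrind)).1, F.vec_eq h5]
  by_cases hiab : i ≠ a ∧ i ≠ b
  · rw [away a b i (by ndgrind), dt_apply_of_ne hit hij hiab.1 hiab.2]
  have hab : i = a ∨ i = b := by tauto
  obtain ⟨x, y, hxy, hx, hy⟩ := F.pick [o, t, j, a, b] (by simp)
  have h6 : [t, j, a, b, x, y].Nodup := by ndgrind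
  rw [← Xq_share F.refl.six F.refl.lin h6, gv_mul_apply,
    F.equiv_fix (show [o, t, a, b, x, y].Nodup by ndgrind) hi]
  have hd' := dt_apply (show [a, b, x, y].Nodup by ndgrind)
  rcases hab with rfl | rfl
  · rw [hd'.1, hd.2.2.1, away x y b (by ndgrind)]
  · rw [hd'.2.1, hd.2.2.2, away x y a (by ndgrind)]

theorem Frame.equiv (F : ρ.Frame o t v0) {a b c d : Fin r} (h : [o, a, b, c, d].Nodup)
    {i : Fin r} (hi : i ≠ o) :
    (Xq ρ a b c d : Module.End k V) (vec ρ o t v0 i) = vec ρ o t v0 (dt a b c d i) := by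
  have h4 : [a, b, c, d].Nodup := by ndgrind
  by_cases ha : a = t
  · subst ha; exact F.equiv_move h hi
  by_cases hb : b = t
  · subst hb
    rw [← Xq_comm F.refl.six F.refl.lin h4, ← dt_swap]
    exact F.equiv_move (by ndgrind) hi
  by_cases hc : c = t
  · subst hc
    rw [← Xq_rot F.refl.lin h4, dt_comm h4]
    exact F.equiv_move (by ndgrind) hi
  by_cases hd : d = t
  · subst hd
    have h4' : [c, d, a, b].Nodup := by ndgrind
    rw [← Xq_rot F.refl.lin h4, ← Xq_comm F.refl.six F.refl.lin h4', dt_comm h4, ← dt_swap]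
    exact F.equiv_move (by ndgrind) hi
  have := F.ne
  exact F.equiv_fix (by ndgrind) hi

set_option maxHeartbeats 1000000 in
/-- the three lines of a triangle are dependent -/
theorem Frame.triangle (F : ρ.Frame o t v0) {j l : Fin r} (h : [o, t, j, l].Nodup) :
    (Xq ρ o t j l : Module.End k V) (vec ρ o t v0 l) = vec ρ o t v0 j - v0 := by
  classical
  have H := F.refl
  have hr := H.nine
  have h2 := H.two
  have hL := H.lin
  obtain ⟨x, y, hxy, hx, hy⟩ := F.pick [o, t, j, l] (by simp)
  have hA : [o, t, j, l].Nodup := h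
  have hB : [o, j, t, l].Nodup := by ndgrind
  have hC : [o, l, t, j].Nodup := by ndgrind
  have hP : [t, j, x, y].Nodup := by ndgrind
  have hQ : [j, l, x, y].Nodup := by ndgrind
  set Xa := (Xq ρ o t j l : Module.End k V) with hXa
  set Xb := (Xq ρ o j t l : Module.End k V) with hXb
  set Xc := (Xq ρ o l t j : Module.End k V) with hXc
  set P := (Xq ρ t j x y : Module.End k V) with hPdef
  set Q := (Xq ρ j l x y : Module.End k V) with hQdef
  have hab : ∀ u, Xa (Xb u) = Xc u := by
    intro u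
    rw [hXa, hXb, hXc, ← gv_mul_apply, Xq_klein H.six hL hA]
  have hba : ∀ u, Xb (Xa u) = Xc u := by
    intro u
    rw [← hab, hXa, hXb]
    exact (commute_apply (Xq_commute_klein hL hA) u).symm
  have dP := dt_apply hP
  have dQ := dt_apply hQ
  have oP : dt t j x y o = o := dt_apply_of_ne (by ndgrind) (by ndgrind) (by ndgrind) (by ndgrind)
  have lP : dt t j x y l = l := dt_apply_of_ne (by ndgrind) (by ndgrind) (by ndgrind) (by ndgrind)
  have oQ : dt j l x y o = o := dt_apply_of_ne (by ndgrind) (by ndgrind) (by ndgrind) (by ndgrind)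
  have tQ : dt j l x y t = t := dt_apply_of_ne (by ndgrind) (by ndgrind) (by ndgrind) (by ndgrind)
  -- conjugation rules
  have hPa : ∀ u, P (Xa u) = Xb (P u) := by
    intro u
    have := apply_conj hA (sign_dt' hP) (lifts_Xq (ρ := ρ) hP) u
    rw [oP, dP.1, dP.2.1, lP] at this
    exact this.symm
  have hPb : ∀ u, P (Xb u) = Xa (P u) := by
    intro u
    have := apply_conj hB (sign_dt' hP) (lifts_Xq (ρ := ρ) hP) u
    rw [oP, dP.1, dP.2.1, lP] at this
    exact this.symm
  have hQa : ∀ u, Q (Xa u) = Xa (Q u) := by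
    intro u
    have := apply_conj hA (sign_dt' hQ) (lifts_Xq (ρ := ρ) hQ) u
    rw [oQ, tQ, dQ.1, dQ.2.1, Xq_comm' H.six hL hA] at this
    exact this.symm
  have hQb : ∀ u, Q (Xb u) = Xc (Q u) := by
    intro u
    have := apply_conj hB (sign_dt' hQ) (lifts_Xq (ρ := ρ) hQ) u
    rw [oQ, tQ, dQ.1, dQ.2.1] at this
    exact this.symm
  set v := v0 with hv
  set a_ := vec ρ o t v0 j with ha_
  set b_ := vec ρ o t v0 l with hb_
  have hto : t ≠ o := F.ne.symm
  have hPv : P v = a_ := by
    rw [hPdef, ha_, hv, F.vec_eq (show [o, t, j, x, y].Nodup by ndgrind)]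
  have hQv : Q v = v := by
    rw [hQdef, hv, F.fix0 (show [o, t, j, l, x, y].Nodup by ndgrind)]
  have hQa_ : Q a_ = b_ := by
    rw [hQdef, ha_, hb_, F.equiv (show [o, j, l, x, y].Nodup by ndgrind) (show j ≠ o by ndgrind),
      dQ.1]
  have hPb_ : P b_ = b_ := by
    rw [hPdef, hb_, F.equiv (show [o, t, j, x, y].Nodup by ndgrind) (show l ≠ o by ndgrind), lP]
  have hav : Xa v = -v := mem_Wq.1 (H.Ln_le hA F.mem)
  have hbsq : ∀ u, Xb (Xb u) = u := Xq_sq_apply hL hB
  have hasq : ∀ u, Xa (Xa u) = u := Xq_sq_apply hL hA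
  set w := Xb v with hw
  have haw : Xa w = -w := by rw [hw, hab, ← hba, hav, map_neg]
  have hcv : Xc v = -w := by rw [← hba, hav, map_neg]
  -- the plane of `Xa`
  have hind : LinearIndependent k ![v, w] := by
    rw [LinearIndependent.pair_iff' F.nz]
    intro s hs
    have hwl : w ∈ Ln ρ j l := by
      have := H.Ln_conj F.ne (sign_dt' hB) (lifts_Xq hB) F.mem
      rwa [(dt_apply hB).1, (dt_apply hB).2.2.1] at this
    have : w ∈ Ln ρ o t ⊓ Ln ρ j l := ⟨hs ▸ Submodule.smul_mem _ _ F.mem, hwl⟩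
    rw [H.Ln_disjoint hA, Submodule.mem_bot] at this
    exact F.nz (by rw [← hbsq v, ← hw, this, map_zero])
  have hplane : ∀ u, Xa u = -u → ∃ α β : k, u = α • v + β • w := by
    intro u hu
    have hsp : Submodule.span k (Set.range ![v, w]) = Wq ρ o t j l := by
      refine Submodule.eq_of_le_of_finrank_eq (Submodule.span_le.2 ?_) ?_
      · rintro _ ⟨s, rfl⟩
        fin_cases s
        · exact mem_Wq.2 hav
        · exact mem_Wq.2 haw
      · rw [finrank_span_eq_card hind, H.rank o t j l hA, Fintype.card_fin]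
    have hu' : u ∈ Submodule.span k ({v, w} : Set V) := by
      rw [← Matrix.range_cons_cons_empty v w ![], hsp]; exact mem_Wq.2 hu
    obtain ⟨α, β, hαβ⟩ := Submodule.mem_span_pair.1 hu'
    exact ⟨α, β, hαβ.symm⟩
  set e₂ := v + w with he₂
  set e₃ := v - w with he₃
  have hbe₂ : Xb e₂ = e₂ := by rw [he₂, map_add, hw, hbsq, add_comm]
  have hbe₃ : Xb e₃ = -e₃ := by rw [he₃, map_sub, hw, hbsq, neg_sub]
  have hae₂ : Xa e₂ = -e₂ := by rw [he₂, map_add, hav, haw]; abel
  have hae₃ : Xa e₃ = -e₃ := by rw [he₃, map_sub, hav, haw]; abel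
  have he₂0 : e₂ ≠ 0 := by
    intro h0
    have := LinearIndependent.pair_iff.1 hind 1 1 (by simpa using h0)
    exact one_ne_zero this.1
  have he₃0 : e₃ ≠ 0 := by
    intro h0
    have := LinearIndependent.pair_iff.1 hind 1 (-1) (by rw [← h0, he₃]; module)
    exact one_ne_zero this.1
  have hline : ∀ u, Xa u = -u → Xb u = -u → ∃ s : k, u = s • e₃ := by
    intro u hu hu'
    obtain ⟨α, β, rfl⟩ := hplane u hu
    rw [map_add, map_smul, map_smul, hw, hbsq, ← hw] at hu'
    have hz : (α + β) • v + (α + β) • w = 0 := by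
      linear_combination (norm := module) hu'
    have := LinearIndependent.pair_iff.1 hind _ _ hz
    refine ⟨α, ?_⟩
    rw [he₃, show β = -α by linear_combination this.1]
    module
  have hPP : ∀ u, P (P u) = u := Xq_sq_apply hL hP
  have hQQ : ∀ u, Q (Q u) = u := Xq_sq_apply hL hQ
  -- the images
  obtain ⟨κ, hκ⟩ := hline (P e₃) (by rw [← hPb, hbe₃, map_neg]) (by rw [← hPa, hae₃, map_neg])
  have hκ2 : κ * κ = 1 := by
    have := congrArg P hκ
    rw [hPP, map_smul, hκ, smul_smul] at this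
    exact smul_left_injective k he₃0 (by simpa using this.symm)
  set e₁ := P e₂ with he₁
  have hae₁ : Xa e₁ = e₁ := by rw [he₁, ← hPb, hbe₂]
  have hbe₁ : Xb e₁ = -e₁ := by rw [he₁, ← hPa, hae₂, map_neg]
  have hQe₂ : Q e₂ = e₃ := by rw [he₂, map_add, hw, hQb, hQv, hcv, he₃, sub_eq_add_neg]
  have hQe₃ : Q e₃ = e₂ := by rw [← hQe₂, hQQ]
  obtain ⟨ε, hε⟩ : ∃ ε : k, Q e₁ = ε • e₁ := by
    -- `Q e₁` is fixed by `Xa`, negated by `Xb`; pull it back by `P`
    have hqa : Xa (Q e₁) = Q e₁ := by rw [← hQa, hae₁]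
    have hqc : Xc (Q e₁) = -Q e₁ := by rw [← hQb, hbe₁, map_neg]
    have hqb : Xb (Q e₁) = -Q e₁ := by rw [← hqc, ← hba, hqa]
    have pa : Xa (P (Q e₁)) = -P (Q e₁) := by rw [← hPb, hqb, map_neg]
    have pb : Xb (P (Q e₁)) = P (Q e₁) := by rw [← hPa, hqa]
    obtain ⟨α, β, hαβ⟩ := hplane _ pa
    rw [hαβ, map_add, map_smul, map_smul, hw, hbsq, ← hw] at pb
    have hz : (β - α) • v + (α - β) • w = 0 := by
      linear_combination (norm := module) pb
    have := LinearIndependent.pair_iff.1 hind _ _ hz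
    refine ⟨α, ?_⟩
    rw [← hPP (Q e₁), hαβ, show β = α by linear_combination this.1, ← smul_add, map_smul, ← he₂,
      ← he₁]
  have hva : (2 : k) • a_ = e₁ + κ • e₃ := by
    rw [← hPv, ← hκ, he₁, ← map_add, ← map_smul]
    congr 1
    rw [he₂, he₃]; module
  have hvb : (2 : k) • b_ = ε • e₁ + κ • e₂ := by
    rw [← hQa_, ← map_smul, hva, map_add, map_smul, hQe₃, hε]
  have heκ : ε = κ := by
    have h1 := congrArg P hvb
    rw [map_smul, hPb_, hvb, map_add, map_smul, map_smul, ← he₁,
      show P e₁ = e₂ by rw [he₁, hPP]] at h1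
    have h3 := congrArg Xa h1
    simp only [map_add, map_smul, hae₁, hae₂] at h3
    have hz : (2 : k) • (ε - κ) • e₂ = 0 := by linear_combination (norm := module) h3 - h1
    rcases smul_eq_zero.1 hz with hz | hz
    · exact absurd hz h2
    · exact sub_eq_zero.1 ((smul_eq_zero.1 hz).resolve_right he₂0)
  rcases mul_self_eq_one_iff.1 hκ2 with rfl | rfl
  · refine smul_right_injective V h2 ?_
    change (2 : k) • Xa b_ = (2 : k) • (a_ - v)
    rw [← map_smul, hvb, heκ, one_smul, one_smul, map_add, hae₁, hae₂, smul_sub, hva, one_smul,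
      he₂, he₃]
    module
  exfalso
  -- the degenerate case: three lines through one point are dependent
  set u := vec ρ o t v0 with hu
  have hsum : u t + u j + u l = 0 := by
    have ht' : u t = v := F.vec_t
    refine (smul_eq_zero.1 (show (2 : k) • (u t + u j + u l) = 0 from ?_)).resolve_left h2
    rw [ht', ← ha_, ← hb_, smul_add, smul_add, hva, hvb, heκ, he₂, he₃]
    module
  obtain ⟨z, z', hzz, hz, hz'⟩ := F.pick [o, t, j, l, x] (by simp)
  have hxl : u x = u l := by
    have := congrArg (Xq ρ l x z z' : Module.End k V) hsum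
    rw [map_add, map_add, map_zero,
      F.equiv (show [o, l, x, z, z'].Nodup by ndgrind) hto,
      F.equiv (show [o, l, x, z, z'].Nodup by ndgrind) (show j ≠ o by ndgrind),
      F.equiv (show [o, l, x, z, z'].Nodup by ndgrind) (show l ≠ o by ndgrind),
      (dt_apply (show [l, x, z, z'].Nodup by ndgrind)).1,
      dt_apply_of_ne (x := t) (by ndgrind) (by ndgrind) (by ndgrind) (by ndgrind),
      dt_apply_of_ne (x := j) (by ndgrind) (by ndgrind) (by ndgrind) (by ndgrind),
      ← hu] at this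
    rw [← hsum] at this
    exact add_left_cancel this
  have hLeq : Ln ρ o x = Ln ρ o l := by
    have hxo : x ≠ o := by ndgrind
    have hlo : l ≠ o := by ndgrind
    have e : ∀ i, i ≠ o → Ln ρ o i = Submodule.span k {u i} := by
      intro i hi
      refine (Submodule.eq_of_le_of_finrank_eq ?_ ?_).symm
      · rw [Submodule.span_singleton_le_iff_mem]; exact (F.vec_mem hi).1
      · rw [finrank_span_singleton (F.vec_mem hi).2, H.finrank_Ln (Ne.symm hi)]
    rw [e x hxo, e l hlo, hxl]
  -- transport: all lines through `l` coincide with that of `{o, l}`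
  have hlx : Ln ρ l x = Ln ρ o l := by
    have hq : [o, l, z, z'].Nodup := by ndgrind
    have dq := dt_apply hq
    have hsub : Ln ρ o l ≤ Ln ρ l x := by
      intro q hq'
      have hq2 := H.Ln_conj (show o ≠ l by ndgrind) (sign_dt' hq) (lifts_Xq hq) hq'
      rw [dq.1, dq.2.1, H.Ln_comm (show o ≠ l by ndgrind), ← hLeq] at hq2
      have hq3 := H.Ln_conj (show o ≠ x by ndgrind) (sign_dt' hq) (lifts_Xq hq) hq2
      rw [dq.1, dt_apply_of_ne (x := x) (by ndgrind) (by ndgrind) (by ndgrind) (by ndgrind),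
        Xq_sq_apply hL hq] at hq3
      exact hq3
    exact (Submodule.eq_of_le_of_finrank_eq hsub (by
      rw [H.finrank_Ln (show o ≠ l by ndgrind), H.finrank_Ln (show l ≠ x by ndgrind)])).symm
  -- move to two disjoint pairs
  have hzo : Ln ρ o z = Ln ρ o l := by
    have hq : [x, z, z', t].Nodup := by ndgrind
    have hsub : Ln ρ o l ≤ Ln ρ o z := by
      intro q hq'
      have hq2 : q ∈ Ln ρ o x := hLeq ▸ hq'
      have h3 := H.Ln_conj (show o ≠ l by ndgrind) (sign_dt' hq) (lifts_Xq hq) hq'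
      rw [dt_apply_of_ne (x := o) (by ndgrind) (by ndgrind) (by ndgrind) (by ndgrind),
        dt_apply_of_ne (x := l) (by ndgrind) (by ndgrind) (by ndgrind) (by ndgrind)] at h3
      rw [← hLeq] at h3
      have h4 := H.Ln_conj (show o ≠ x by ndgrind) (sign_dt' hq) (lifts_Xq hq) h3
      rw [dt_apply_of_ne (x := o) (by ndgrind) (by ndgrind) (by ndgrind) (by ndgrind),
        (dt_apply hq).1, Xq_sq_apply hL hq] at h4
      exact h4
    exact (Submodule.eq_of_le_of_finrank_eq hsub (by
      rw [H.finrank_Ln (show o ≠ l by ndgrind), H.finrank_Ln (show o ≠ z by ndgrind)])).symm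
  have hdis := H.Ln_disjoint (show [l, x, o, z].Nodup by ndgrind)
  rw [hlx, hzo, inf_idem] at hdis
  have := H.finrank_Ln (show o ≠ l by ndgrind)
  rw [hdis, finrank_bot] at this
  omega

/-- a double transposition moving `o` -/
theorem Frame.move_o (F : ρ.Frame o t v0) {a b : Fin r} (h : [o, t, a, b].Nodup) :
    (Xq ρ o t a b : Module.End k V) v0 = -v0 ∧
    (Xq ρ o t a b : Module.End k V) (vec ρ o t v0 b) = vec ρ o t v0 a - v0 ∧
    (Xq ρ o t a b : Module.End k V) (vec ρ o t v0 a) = vec ρ o t v0 b - v0 ∧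
    ∀ i, i ∉ [o, t, a, b] →
      (Xq ρ o t a b : Module.End k V) (vec ρ o t v0 i) = vec ρ o t v0 i - v0 := by
  refine ⟨mem_Wq.1 (F.refl.Ln_le h F.mem), F.triangle h, ?_, fun i hi => ?_⟩
  · rw [← Xq_comm' F.refl.six F.refl.lin h]
    exact F.triangle (by ndgrind)
  obtain ⟨x, hx⟩ := exists_avoid [o, t, a, b, i] (by have := F.refl.nine; simp; omega)
  have h6 : [o, t, a, b, i, x].Nodup := by ndgrind
  rw [← Xq_share F.refl.six F.refl.lin h6, gv_mul_apply,
    F.equiv (show [o, a, b, i, x].Nodup by ndgrind) (show i ≠ o by ndgrind),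
    (dt_apply (show [a, b, i, x].Nodup by ndgrind)).2.2.1]
  exact F.triangle (by ndgrind)

/-- four points: two differences are independent -/
theorem Frame.indep_four (F : ρ.Frame o t v0) {a b c d : Fin r} (h : [o, a, b, c, d].Nodup)
    {Δ Δ' : k} (hz : Δ • (vec ρ o t v0 a - vec ρ o t v0 b) +
      Δ' • (vec ρ o t v0 c - vec ρ o t v0 d) = 0) : Δ = 0 := by
  -- the difference at `{p, q}` is a nonzero vector of that line
  have key : ∀ p q, [o, p, q].Nodup →
      vec ρ o t v0 p - vec ρ o t v0 q ∈ Ln ρ p q ∧ vec ρ o t v0 p - vec ρ o t v0 q ≠ 0 := by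
    have first : ∀ q, [o, t, q].Nodup →
        vec ρ o t v0 q - v0 ∈ Ln ρ t q ∧ vec ρ o t v0 q - v0 ≠ 0 := by
      intro q hq
      obtain ⟨s, hs⟩ := exists_avoid [o, t, q] (by have := F.refl.nine; simp; omega)
      have h4 : [o, t, q, s].Nodup := by ndgrind
      rw [← F.triangle h4]
      refine ⟨?_, fun h0 => (F.vec_mem (show s ≠ o by ndgrind)).2
        (gv_injective _ (by rw [h0, map_zero]))⟩
      have := F.refl.Ln_conj (show o ≠ s by ndgrind) (sign_dt' h4) (lifts_Xq h4)
        (F.vec_mem (show s ≠ o by ndgrind)).1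
      rwa [(dt_apply h4).1, (dt_apply h4).2.2.2] at this
    intro p q hpq
    by_cases hp : p = t
    · subst hp
      rw [F.vec_t]
      obtain ⟨h1, h2⟩ := first q hpq
      exact ⟨(neg_sub (vec ρ o p v0 q) v0) ▸ Submodule.neg_mem _ h1,
        (neg_sub (vec ρ o p v0 q) v0) ▸ neg_ne_zero.2 h2⟩
    by_cases hq : q = t
    · subst hq
      rw [F.vec_t]
      obtain ⟨h1, h2⟩ := first p (by ndgrind)
      rw [F.refl.Ln_comm (show q ≠ p by ndgrind)]
      exact ⟨h1, h2⟩
    have := F.ne
    obtain ⟨x, y, hxy, hx, hy⟩ := F.pick [o, t, p, q] (by simp)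
    have h4 : [t, p, x, y].Nodup := by ndgrind
    obtain ⟨h1, h2⟩ := first q (by ndgrind)
    have e : (Xq ρ t p x y : Module.End k V) (vec ρ o t v0 q - v0) =
        vec ρ o t v0 q - vec ρ o t v0 p := by
      rw [map_sub, F.equiv (show [o, t, p, x, y].Nodup by ndgrind) (show q ≠ o by ndgrind),
        dt_apply_of_ne (x := q) (by ndgrind) (by ndgrind) (by ndgrind) (by ndgrind),
        ← F.vec_eq (show [o, t, p, x, y].Nodup by ndgrind)]
    have hmem := F.refl.Ln_conj (show t ≠ q by ndgrind) (sign_dt' h4) (lifts_Xq h4) h1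
    rw [(dt_apply h4).1,
      dt_apply_of_ne (x := q) (by ndgrind) (by ndgrind) (by ndgrind) (by ndgrind), e] at hmem
    have hne : vec ρ o t v0 q - vec ρ o t v0 p ≠ 0 := fun h0 =>
      h2 (gv_injective (Xq ρ t p x y) (by rw [e, h0, map_zero]))
    exact ⟨(neg_sub (vec ρ o t v0 q) (vec ρ o t v0 p)) ▸ Submodule.neg_mem _ hmem,
      (neg_sub (vec ρ o t v0 q) (vec ρ o t v0 p)) ▸ neg_ne_zero.2 hne⟩
  obtain ⟨m1, n1⟩ := key a b (by ndgrind)
  obtain ⟨m2, n2⟩ := key c d (by ndgrind)
  have hmem : Δ • (vec ρ o t v0 a - vec ρ o t v0 b) ∈ Ln ρ a b ⊓ Ln ρ c d :=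
    ⟨Submodule.smul_mem _ _ m1, by
      rw [eq_neg_of_add_eq_zero_left hz]
      exact Submodule.neg_mem _ (Submodule.smul_mem _ _ m2)⟩
  rw [F.refl.Ln_disjoint (show [a, b, c, d].Nodup by ndgrind), Submodule.mem_bot] at hmem
  exact (smul_eq_zero.1 hmem).resolve_right n1

theorem Frame.relation_const (F : ρ.Frame o t v0) {c : Fin r → k} (hco : c o = 0)
    (hc : ∑ i, c i • vec ρ o t v0 i = 0) {a b : Fin r} (ha : a ≠ o) (hb : b ≠ o) : c a = c b := by
  by_cases hab : a = b
  · rw [hab]
  obtain ⟨x, y, hxy, hx, hy⟩ := F.pick [o, a, b] (by simp)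
  have h5 : [o, a, b, x, y].Nodup := by ndgrind
  have h4 : [a, b, x, y].Nodup := by ndgrind
  set σ := dt a b x y with hσ
  set u := vec ρ o t v0 with hu
  have h1 : ∑ i, c i • u (σ i) = 0 := by
    have := congrArg (Xq ρ a b x y : Module.End k V) hc
    rw [map_sum, map_zero] at this
    rw [← this]
    refine Finset.sum_congr rfl fun i _ => ?_
    rw [map_smul]
    by_cases hio : i = o
    · rw [hio, hco, zero_smul, zero_smul]
    · rw [F.equiv h5 hio]
  have h0 : ∑ i, c i • (u i - u (σ i)) = 0 := by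
    simp only [smul_sub, Finset.sum_sub_distrib]
    rw [hc, h1, sub_zero]
  have hd := dt_apply h4
  have hfin : ∑ i, c i • (u i - u (σ i)) =
      ∑ i ∈ ({a, b, x, y} : Finset (Fin r)), c i • (u i - u (σ i)) := by
    symm
    refine Finset.sum_subset (Finset.subset_univ _) fun i _ hi => ?_
    simp only [Finset.mem_insert, Finset.mem_singleton, not_or] at hi
    rw [hσ, dt_apply_of_ne hi.1 hi.2.1 hi.2.2.1 hi.2.2.2, sub_self, smul_zero]
  rw [hfin, Finset.sum_insert (by simp; ndgrind), Finset.sum_insert (by simp; ndgrind),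
    Finset.sum_insert (by simp; ndgrind), Finset.sum_singleton, hσ, hd.1, hd.2.1, hd.2.2.1,
    hd.2.2.2] at h0
  have hz : (c a - c b) • (u a - u b) + (c x - c y) • (u x - u y) = 0 := by
    rw [← h0]; module
  exact sub_eq_zero.1 (F.indep_four h5 hz)

theorem Frame.sum_image (F : ρ.Frame o t v0) {a b : Fin r} (h4 : [o, t, a, b].Nodup) :
    (Xq ρ o t a b : Module.End k V) (∑ i ∈ (Finset.univ : Finset (Fin r)).erase o, vec ρ o t v0 i) =
      (∑ i ∈ (Finset.univ : Finset (Fin r)).erase o, vec ρ o t v0 i) - (r : k) • v0 := by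
  classical
  obtain ⟨m1, m2, m3, m4⟩ := F.move_o h4
  obtain ⟨hot, hoa, hob, hta, htb, hab⟩ := nodup_four.1 h4
  set s := (Finset.univ : Finset (Fin r)).erase o with hs
  set s' := ((s.erase t).erase a).erase b with hs'
  have hsab : s = insert t (insert a (insert b s')) := by
    ext i
    simp only [hs', hs, Finset.mem_erase, Finset.mem_insert, Finset.mem_univ, and_true]
    grind
  have hmem : ∀ i ∈ s', i ∉ [o, t, a, b] := by
    intro i hi
    simp only [hs', hs, Finset.mem_erase, Finset.mem_univ, and_true] at hi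
    simp only [List.mem_cons, List.not_mem_nil, or_false, not_or]
    exact ⟨hi.2.2.2, hi.2.2.1, hi.2.1, hi.1⟩
  have ht : t ∉ insert a (insert b s') := by simp [hs', hta, htb]
  have ha' : a ∉ insert b s' := by simp [hs', hab]
  have hb' : b ∉ s' := by simp [hs']
  have hcard : s'.card + 4 = r := by
    have := congrArg Finset.card hsab
    rw [Finset.card_insert_of_notMem ht, Finset.card_insert_of_notMem ha',
      Finset.card_insert_of_notMem hb', hs, Finset.card_erase_of_mem (Finset.mem_univ o),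
      Finset.card_univ, Fintype.card_fin] at this
    have := F.refl.nine
    omega
  have hrk : (r : k) = (s'.card : k) + 4 := by
    have := congrArg (Nat.cast : ℕ → k) hcard
    push_cast at this
    exact this.symm
  rw [map_sum, hsab, Finset.sum_insert ht, Finset.sum_insert ha', Finset.sum_insert hb',
    Finset.sum_insert ht, Finset.sum_insert ha', Finset.sum_insert hb',
    Finset.sum_congr rfl (fun i hi => m4 i (hmem i hi)), Finset.sum_sub_distrib,
    Finset.sum_const, F.vec_t, m1, m2, m3, hrk, ← Nat.cast_smul_eq_nsmul k]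
  module

/-- the degree bound in the reflection case -/
theorem Refl.bound (H : ρ.Refl) :
    r - 2 ≤ finrank k V ∧ ((r : k) ≠ 0 → r - 1 ≤ finrank k V) := by
  classical
  have hr := H.nine
  set o : Fin r := ⟨0, by omega⟩
  set t : Fin r := ⟨1, by omega⟩
  have hot : o ≠ t := by simp [o, t, Fin.ext_iff]
  obtain ⟨⟨v0, hv0⟩, hne0, -⟩ := finrank_eq_one_iff'.1 (H.finrank_Ln hot)
  have F : ρ.Frame o t v0 := ⟨H, hot, hv0, fun h0 => hne0 (Subtype.ext h0)⟩
  have hext : ∀ (s : Finset (Fin r)), o ∉ s → ∀ g : {i // i ∈ s} → k,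
      ∑ i, g i • vec ρ o t v0 i.1 = 0 →
      ∃ c : Fin r → k, c o = 0 ∧ ∑ i, c i • vec ρ o t v0 i = 0 ∧ (∀ i, c i.1 = g i) ∧
        ∀ i, i ∉ s → c i = 0 := by
    intro s hs g hg
    refine ⟨fun i => if h : i ∈ s then g ⟨i, h⟩ else 0, by simp [hs], ?_,
      fun i => by simp [i.2], fun i hi => by simp [hi]⟩
    rw [← hg, ← Finset.sum_subset (Finset.subset_univ s) (by intro i _ hi; simp [hi]),
      ← Finset.sum_attach s]
    exact Finset.sum_congr rfl fun i _ => by simp
  constructor
  · set s : Finset (Fin r) := (Finset.univ.erase o).erase t with hs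
    have hos : o ∉ s := by simp [hs]
    have hts : t ∉ s := by simp [hs]
    have li : LinearIndependent k (fun i : {i // i ∈ s} => vec ρ o t v0 i.1) := by
      rw [Fintype.linearIndependent_iff]
      intro g hg i
      obtain ⟨c, hco, hc, hcg, hcs⟩ := hext s hos g hg
      rw [← hcg, F.relation_const hco hc (show i.1 ≠ o from fun h => hos (h ▸ i.2)) hot.symm]
      exact hcs t hts
    have hcard : Fintype.card {i // i ∈ s} = r - 2 := by
      rw [Fintype.card_coe, hs, Finset.card_erase_of_mem (by simp [hot.symm]),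
        Finset.card_erase_of_mem (Finset.mem_univ o), Finset.card_univ, Fintype.card_fin]
      omega
    rw [← hcard]
    exact li.fintype_card_le_finrank
  · intro hrk
    set s : Finset (Fin r) := Finset.univ.erase o with hs
    have hos : o ∉ s := by simp [hs]
    have li : LinearIndependent k (fun i : {i // i ∈ s} => vec ρ o t v0 i.1) := by
      rw [Fintype.linearIndependent_iff]
      intro g hg i
      obtain ⟨c, hco, hc, hcg, hcs⟩ := hext s hos g hg
      have hts : t ≠ o := hot.symm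
      set ct := c t
      have hct : ∀ i, i ≠ o → c i = ct := fun i hi => F.relation_const hco hc hi hts
      suffices ct = 0 by rw [← hcg, hct _ (show i.1 ≠ o from fun h => hos (h ▸ i.2)), this]
      obtain ⟨a, b, hab, ha, hb⟩ := F.pick [o, t] (by simp)
      have h4 : [o, t, a, b].Nodup := by ndgrind
      obtain ⟨m1, m2, m3, m4⟩ := F.move_o h4
      set u := vec ρ o t v0 with hu
      have hsum : ct • ∑ i ∈ s, u i = 0 := by
        rw [Finset.smul_sum, ← hc, ← Finset.sum_erase (s := Finset.univ) (a := o)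
          (show c o • u o = 0 by rw [hco, zero_smul]), ← hs]
        exact Finset.sum_congr rfl fun i hi => by rw [hct i (by simpa [hs] using hi)]
      have himg := F.sum_image h4
      rw [← hu, ← hs] at himg
      have := congrArg (Xq ρ o t a b : Module.End k V) hsum
      rw [map_smul, map_zero, himg, smul_sub, hsum, zero_sub, neg_eq_zero, smul_smul] at this
      exact (mul_eq_zero.1 ((smul_eq_zero.1 this).resolve_right F.nz)).resolve_right hrk
    have hcard : Fintype.card {i // i ∈ s} = r - 1 := by simp [hs]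
    rw [← hcard]
    exact li.fintype_card_le_finrank

end PRep

end Cfsg.Agent.AltSec
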