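import Cfsg.Agent.AltSec.Klein

/-! If the lifted double transpositions are reflections in two-dimensional spaces, these spaces
are spanned by lines indexed by pairs of points. -/

namespace Cfsg.Agent.AltSec

open Equiv Module
open scoped commutatorElement

variable {k V : Type*} [Field k] [AddCommGroup V] [Module k V] {r : ℕ}

/-- the `-1`-space of the lift of `(a b)(c d)` -/
noncomputable def Wq (ρ : PRep k V r) (a b c d : Fin r) : Submodule k V :=
  LinearMap.ker ((Xq ρ a b c d : Module.End k V) + 1)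

theorem mem_Wq {ρ : PRep k V r} {a b c d : Fin r} {v : V} :
    v ∈ Wq ρ a b c d ↔ (Xq ρ a b c d : Module.End k V) v = -v := by
  rw [Wq, LinearMap.mem_ker, LinearMap.add_apply, Module.End.one_apply, add_eq_zero_iff_eq_neg]

theorem gv_mul_apply (X Y : GV k V) (v : V) :
    ((X * Y : GV k V) : Module.End k V) v = (X : Module.End k V) ((Y : Module.End k V) v) := by
  rw [Units.val_mul, Module.End.mul_apply]

theorem gv_injective (X : GV k V) : Function.Injective (X : Module.End k V) := by
  intro v w h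
  have := congrArg ((X⁻¹ : GV k V) : Module.End k V) h
  rw [← gv_mul_apply, ← gv_mul_apply, inv_mul_cancel, Units.val_one] at this
  simpa using this

namespace PRep

variable {ρ : PRep k V r}

/-- every double transposition acts as a reflection in a plane -/
def Rank2 (ρ : PRep k V r) : Prop :=
  ∀ a b c d : Fin r, [a, b, c, d].Nodup → finrank k (Wq ρ a b c d) = 2

theorem Xq_sq_apply {a b c d : Fin r} (hL : ρ.Lin) (h : [a, b, c, d].Nodup) (v : V) :
    (Xq ρ a b c d : Module.End k V) ((Xq ρ a b c d : Module.End k V) v) = v := by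
  rw [← gv_mul_apply, Xq_sq hL h, Units.val_one, Module.End.one_apply]

theorem apply_conj {a b c d : Fin r} (h : [a, b, c, d].Nodup) {σ : Perm (Fin r)} {G : GV k V}
    (hσ : Perm.sign σ = 1) (hG : ρ.Lifts σ G) (v : V) :
    (Xq ρ (σ a) (σ b) (σ c) (σ d) : Module.End k V) ((G : Module.End k V) v) =
      (G : Module.End k V) ((Xq ρ a b c d : Module.End k V) v) := by
  rw [← conj_Xq h hσ hG, ← gv_mul_apply, ← gv_mul_apply]
  congr 2
  group

theorem Wq_conj {a b c d : Fin r} (h : [a, b, c, d].Nodup) {σ : Perm (Fin r)} {G : GV k V}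
    (hσ : Perm.sign σ = 1) (hG : ρ.Lifts σ G) {v : V} (hv : v ∈ Wq ρ a b c d) :
    (G : Module.End k V) v ∈ Wq ρ (σ a) (σ b) (σ c) (σ d) := by
  rw [mem_Wq] at hv ⊢
  rw [apply_conj h hσ hG, hv, map_neg]

theorem commute_apply {X Y : GV k V} (h : Commute X Y) (v : V) :
    (X : Module.End k V) ((Y : Module.End k V) v) = (Y : Module.End k V) ((X : Module.End k V) v) := by
  rw [← gv_mul_apply, ← gv_mul_apply, h.eq]

theorem share_apply {a b c d e g : Fin r} (hr : 6 ≤ r) (hL : ρ.Lin)
    (h : [a, b, c, d, e, g].Nodup) {v : V} (hv : v ∈ Wq ρ a b c d) :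
    (Xq ρ a b e g : Module.End k V) ((Xq ρ c d e g : Module.End k V) v) = -v := by
  rw [← gv_mul_apply, Xq_share hr hL h, ← mem_Wq]
  exact hv

theorem neg_ne_self (h2 : (2 : k) ≠ 0) {v : V} (h : v = -v) : v = 0 := by
  have : (2 : k) • v = 0 := by rw [two_smul]; nth_rewrite 1 [h]; simp
  exact (smul_eq_zero.1 this).resolve_left h2

variable [FiniteDimensional k V]

theorem inf_line (hr : 6 ≤ r) (h2 : (2 : k) ≠ 0) (hL : ρ.Lin) (h22 : ρ.Rank2)
    {a b c d e g : Fin r} (h : [a, b, c, d, e, g].Nodup) :
    finrank k ↥(Wq ρ a b c d ⊓ Wq ρ a b e g) = 1 := by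
  have hn := nodup_six.1 h
  have h4 : [a, b, c, d].Nodup := by rw [nodup_four]; grind
  have hu : [a, b, e, g].Nodup := by rw [nodup_four]; grind
  have hw : [c, d, e, g].Nodup := by rw [nodup_four]; grind
  have hy : [a, c, b, d].Nodup := by rw [nodup_four]; grind
  set A := Wq ρ a b c d ⊓ Wq ρ a b e g with hA
  set B := Wq ρ a b c d ⊓ Wq ρ c d e g with hB
  have hC : Commute (Xq ρ a b c d) (Xq ρ a b e g) := Xq_commute_share hL h
  have hAB : A ⊓ B = ⊥ := by
    rw [eq_bot_iff]
    intro v hv
    simp only [hA, hB, Submodule.mem_inf] at hv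
    obtain ⟨⟨hv1, hv2⟩, -, hv3⟩ := hv
    rw [mem_Wq] at hv2 hv3
    have := share_apply hr hL h hv1
    rw [hv3, map_neg, hv2, neg_neg] at this
    simpa using neg_ne_self h2 this
  have hsup : A ⊔ B = Wq ρ a b c d := by
    refine le_antisymm (sup_le inf_le_left inf_le_left) fun v hv => ?_
    set w := (Xq ρ a b e g : Module.End k V) v with hw'
    have hwW : w ∈ Wq ρ a b c d := by
      rw [mem_Wq, hw', commute_apply hC, mem_Wq.1 hv, map_neg]
    have hww : (Xq ρ a b e g : Module.End k V) w = v := by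
      rw [hw', Xq_sq_apply hL hu]
    have e1 : ∀ x ∈ Wq ρ a b c d, (Xq ρ c d e g : Module.End k V) x =
        -(Xq ρ a b e g : Module.End k V) x := by
      intro x hx
      have := congrArg (Xq ρ a b e g : Module.End k V) (share_apply hr hL h hx)
      rwa [Xq_sq_apply hL hu, map_neg] at this
    have hhalf : v = (2⁻¹ : k) • (v - w) + (2⁻¹ : k) • (v + w) := by
      rw [← smul_add, show v - w + (v + w) = (2 : k) • v by rw [two_smul]; abel, smul_smul,
        inv_mul_cancel₀ h2, one_smul]
    rw [hhalf]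
    refine Submodule.add_mem_sup (Submodule.smul_mem _ _ ?_) (Submodule.smul_mem _ _ ?_)
    · refine ⟨sub_mem hv hwW, ?_⟩
      change v - w ∈ Wq ρ a b e g
      rw [mem_Wq, map_sub, hww, ← hw', neg_sub]
    · refine ⟨add_mem hv hwW, ?_⟩
      change v + w ∈ Wq ρ c d e g
      rw [mem_Wq, map_add, e1 _ hv, e1 _ hwW, hww, ← hw', ← neg_add, add_comm]
  have dy := dt_apply hy
  have hswap : ∀ v : V, (v ∈ A → (Xq ρ a c b d : Module.End k V) v ∈ B) ∧
      (v ∈ B → (Xq ρ a c b d : Module.End k V) v ∈ A) := by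
    intro v
    have q4 := fun hv : v ∈ Wq ρ a b c d => Wq_conj h4 (sign_dt' hy) (lifts_Xq hy) hv
    rw [dy.1, dy.2.2.1, dy.2.1, dy.2.2.2, show Wq ρ c d a b = Wq ρ a b c d by
      rw [Wq, Wq, Xq_rot hL h4]] at q4
    have qu := fun hv : v ∈ Wq ρ a b e g => Wq_conj hu (sign_dt' hy) (lifts_Xq hy) hv
    have qw := fun hv : v ∈ Wq ρ c d e g => Wq_conj hw (sign_dt' hy) (lifts_Xq hy) hv
    have he : dt a c b d e = e := dt_apply_of_ne (by grind) (by grind) (by grind) (by grind)
    have hg : dt a c b d g = g := dt_apply_of_ne (by grind) (by grind) (by grind) (by grind)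
    rw [dy.1, dy.2.2.1, he, hg] at qu
    rw [dy.2.1, dy.2.2.2, he, hg] at qw
    exact ⟨fun hv => ⟨q4 hv.1, qu hv.2⟩, fun hv => ⟨q4 hv.1, qw hv.2⟩⟩
  have hle1 : finrank k A ≤ finrank k B := by
    refine LinearMap.finrank_le_finrank_of_injective
      (f := (Xq ρ a c b d : Module.End k V).restrict fun v hv => (hswap v).1 hv) ?_
    intro x y hxy
    exact Subtype.ext (gv_injective (Xq ρ a c b d) (congrArg Subtype.val hxy :))
  have hle2 : finrank k B ≤ finrank k A := by
    refine LinearMap.finrank_le_finrank_of_injective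
      (f := (Xq ρ a c b d : Module.End k V).restrict fun v hv => (hswap v).2 hv) ?_
    intro x y hxy
    exact Subtype.ext (gv_injective (Xq ρ a c b d) (congrArg Subtype.val hxy :))
  have := Submodule.finrank_sup_add_finrank_inf_eq A B
  rw [hsup, hAB, finrank_bot, h22 a b c d h4] at this
  omega

set_option maxHeartbeats 800000 in
/-- `(a b)(c d)` fixes the plane of a double transposition on other points -/
theorem fix_disjoint (hr : 9 ≤ r) (h2 : (2 : k) ≠ 0) (hL : ρ.Lin) (h22 : ρ.Rank2)
    {a b c d e g i j : Fin r} (h : [a, b, c, d, e, g, i, j].Nodup) {v : V}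
    (hv : v ∈ Wq ρ a b c d) : (Xq ρ e g i j : Module.End k V) v = v := by
  have hr6 : 6 ≤ r := by omega
  have h6 : [a, b, c, d, e, g].Nodup :=
    h.sublist (List.take_sublist 6 [a, b, c, d, e, g, i, j])
  have h4 : [a, b, c, d].Nodup := h.sublist (List.take_sublist 4 [a, b, c, d, e, g, i, j])
  have h4' : [e, g, i, j].Nodup := h.sublist (List.drop_sublist 4 [a, b, c, d, e, g, i, j])
  have hn := nodup_six.1 h6
  have hd : ∀ x ∈ [a, b, c, d], x ∉ [e, g, i, j] := by
    have := List.nodup_append.1 (show ([a, b, c, d] ++ [e, g, i, j]).Nodup from h)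
    exact fun x hx hx' => this.2.2 x hx x hx' rfl
  simp only [List.mem_cons, List.not_mem_nil, or_false, forall_eq_or_imp, forall_eq, not_or] at hd
  have hn' := nodup_four.1 h4'
  have hu : [a, b, e, g].Nodup := by rw [nodup_four]; grind
  have hy : [a, c, b, d].Nodup := by rw [nodup_four]; grind
  have c1 : Commute (Xq ρ a b c d) (Xq ρ e g i j) := Xq_commute_disjoint h4 h4' (by
    simp only [List.mem_cons, List.not_mem_nil, or_false, forall_eq_or_imp, forall_eq, not_or]
    exact hd)
  have c2 : Commute (Xq ρ a b e g) (Xq ρ e g i j) := by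
    have := Xq_commute_share (ρ := ρ) hL (show [e, g, a, b, i, j].Nodup by rw [nodup_six]; grind)
    rwa [Xq_rot hL hu] at this
  set A := Wq ρ a b c d ⊓ Wq ρ a b e g with hA
  set X := (Xq ρ e g i j : Module.End k V) with hX
  have hlineA := inf_line hr6 h2 hL h22 h6
  obtain ⟨⟨u, huA⟩, hu0, hspan⟩ := finrank_eq_one_iff'.1 hlineA
  have hu0' : u ≠ 0 := fun h0 => hu0 (Subtype.ext h0)
  have hXu : X u ∈ A := ⟨by
    change X u ∈ Wq ρ a b c d
    rw [mem_Wq, hX, commute_apply c1, mem_Wq.1 huA.1, map_neg], by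
    change X u ∈ Wq ρ a b e g
    rw [mem_Wq, hX, commute_apply c2, mem_Wq.1 huA.2, map_neg]⟩
  obtain ⟨s, hs⟩ := hspan ⟨X u, hXu⟩
  replace hs : s • u = X u := congrArg Subtype.val hs
  have hss : s * s = 1 := by
    have := congrArg X hs
    rw [map_smul, ← hs, smul_smul, hs, hX, Xq_sq_apply hL h4'] at this
    exact smul_left_injective k hu0' (by simpa using this)
  set y := Xq ρ a c b d
  have hcy : Commute y (Xq ρ e g i j) := Xq_commute_disjoint hy h4' (by
    simp only [List.mem_cons, List.not_mem_nil, or_false, forall_eq_or_imp, forall_eq, not_or]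
    grind)
  have hyu : X ((y : Module.End k V) u) = s • (y : Module.End k V) u := by
    rw [hX, ← commute_apply hcy, ← hX, ← hs, map_smul]
  have hyW : (y : Module.End k V) u ∈ Wq ρ a b c d := by
    have dy := dt_apply hy
    have := Wq_conj h4 (sign_dt' hy) (lifts_Xq hy) huA.1
    rwa [dy.1, dy.2.2.1, dy.2.1, dy.2.2.2,
      show Wq ρ c d a b = Wq ρ a b c d by rw [Wq, Wq, Xq_rot hL h4]] at this
  have hind : LinearIndependent k ![u, (y : Module.End k V) u] := by
    rw [LinearIndependent.pair_iff' hu0']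
    intro t ht
    -- `y u` lies in the other line
    have hq := Wq_conj hu (sign_dt' hy) (lifts_Xq hy) huA.2
    have dy := dt_apply hy
    rw [dy.1, dy.2.2.1, dt_apply_of_ne (show e ≠ a by grind) (show e ≠ c by grind)
      (show e ≠ b by grind) (show e ≠ d by grind),
      dt_apply_of_ne (show g ≠ a by grind) (show g ≠ c by grind) (show g ≠ b by grind)
      (show g ≠ d by grind)] at hq
    have hyu' : ((Xq ρ a c b d : GV k V) : Module.End k V) u = t • u := ht.symm
    rw [hyu', mem_Wq, map_smul, ← smul_neg] at hq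
    have ht0 : t ≠ 0 := by
      rintro rfl
      rw [zero_smul] at hyu'
      exact hu0' (gv_injective _ (by rw [hyu', map_zero]))
    have h1 := share_apply hr6 hL h6 huA.1
    rw [smul_right_injective V ht0 hq, map_neg, mem_Wq.1 huA.2, neg_neg] at h1
    exact hu0' (neg_ne_self h2 h1)
  have hW : ∀ w ∈ Wq ρ a b c d, X w = s • w := by
    intro w hw
    have hsp : Submodule.span k (Set.range ![u, (y : Module.End k V) u]) = Wq ρ a b c d := by
      refine Submodule.eq_of_le_of_finrank_eq (Submodule.span_le.2 ?_) ?_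
      · rintro _ ⟨t, rfl⟩
        fin_cases t
        · exact huA.1
        · exact hyW
      · rw [finrank_span_eq_card hind, h22 a b c d h4, Fintype.card_fin]
    rw [← hsp] at hw
    induction hw using Submodule.span_induction with
    | mem w hw =>
      obtain ⟨t, rfl⟩ := hw
      fin_cases t
      · exact hs.symm
      · exact hyu
    | zero => simp
    | add x z _ _ hx hz => rw [map_add, hx, hz, smul_add]
    | smul t x _ hx => rw [map_smul, hx, smul_comm]
  rcases mul_self_eq_one_iff.1 hss with rfl | rfl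
  · simpa using hW v hv
  exfalso
  -- all planes would be equal
  have heq : Wq ρ e g i j = Wq ρ a b c d := by
    refine (Submodule.eq_of_le_of_finrank_eq (fun w hw => ?_) ?_).symm
    · rw [mem_Wq, ← hX, hW w hw, neg_one_smul]
    · rw [h22 a b c d h4, h22 e g i j h4']
  have hall : ∀ a' b' c' d' e' g' i' j' : Fin r, [a', b', c', d', e', g', i', j'].Nodup →
      Wq ρ a' b' c' d' ≤ Wq ρ e' g' i' j' := by
    intro a' b' c' d' e' g' i' j' h' w hw
    obtain ⟨x, hx⟩ := exists_avoid [a, b, c, d, e, g, i, j] (by simp; omega)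
    obtain ⟨x', hx'⟩ := exists_avoid [a', b', c', d', e', g', i', j'] (by simp; omega)
    obtain ⟨σ, hσ0⟩ := Equiv.Perm.exists_extending_pair ![a, b, c, d, e, g, i, j]
      ![a', b', c', d', e', g', i', j']
      (by rw [← List.nodup_ofFn]; simpa [List.ofFn_succ] using h)
      (by rw [← List.nodup_ofFn]; simpa [List.ofFn_succ] using h')
    -- correct the parity inside the quad `e, g, i, j`
    have key : ∀ (e₀ g₀ : Fin r) (τ : Perm (Fin r)), Perm.sign τ = 1 →
        τ a = a' → τ b = b' → τ c = c' → τ d = d' → τ e = e₀ → τ g = g₀ → τ i = i' → τ j = j' →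
        Wq ρ a' b' c' d' ≤ Wq ρ e₀ g₀ i' j' := by
      intro e₀ g₀ τ hτ t1 t2 t3 t4 t5 t6 t7 t8 w hw
      have hi := Wq_conj (ρ := ρ) (v := ((ρ.f τ)⁻¹ : GV k V).val w) h4' hτ (ρ.lifts_f τ) ?_
      · rw [t5, t6, t7, t8, ← gv_mul_apply, mul_inv_cancel, Units.val_one,
          Module.End.one_apply] at hi
        exact hi
      · rw [heq]
        have hnd : [a', b', c', d'].Nodup :=
          h'.sublist (List.take_sublist 4 [a', b', c', d', e', g', i', j'])
        have := Wq_conj hnd (show Perm.sign τ⁻¹ = 1 by simp [hτ]) ((ρ.lifts_f τ).inv hτ) hw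
        simpa [Perm.inv_eq_iff_eq.2 t1.symm, Perm.inv_eq_iff_eq.2 t2.symm,
          Perm.inv_eq_iff_eq.2 t3.symm, Perm.inv_eq_iff_eq.2 t4.symm] using this
    have hv' : ∀ q, σ (![a, b, c, d, e, g, i, j] q) = ![a', b', c', d', e', g', i', j'] q := hσ0
    rcases Int.units_eq_one_or (Perm.sign σ) with hs' | hs'
    · exact key e' g' σ hs' (hv' 0) (hv' 1) (hv' 2) (hv' 3) (hv' 4) (hv' 5) (hv' 6) (hv' 7) hw
    · have hne : e' ≠ g' := by
        rw [← show σ e = e' from hv' 4, ← show σ g = g' from hv' 5]
        exact σ.injective.ne hn'.1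
      have := key g' e' (swap e' g' * σ) (by simp [hs', Perm.sign_swap hne]) ?_ ?_ ?_ ?_ ?_ ?_ ?_ ?_ hw
      · rwa [show Wq ρ g' e' i' j' = Wq ρ e' g' i' j' by
          rw [Wq, Wq, Xq_comm hr6 hL (h'.sublist (List.drop_sublist 4 [a', b', c', d', e', g', i', j']))]] at this
      all_goals
        rw [Perm.mul_apply]
        first
        | rw [show σ a = a' from hv' 0] | rw [show σ b = b' from hv' 1]
        | rw [show σ c = c' from hv' 2] | rw [show σ d = d' from hv' 3]
        | rw [show σ e = e' from hv' 4] | rw [show σ g = g' from hv' 5]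
        | rw [show σ i = i' from hv' 6] | rw [show σ j = j' from hv' 7]
        simp only [List.nodup_cons, List.mem_cons, List.not_mem_nil, or_false, not_or] at h'
        simp only [Equiv.swap_apply_def]
        grind
  -- changing the last point
  have hlast : ∀ a' b' c' d' x' : Fin r, [a', b', c', d', x'].Nodup →
      Wq ρ a' b' c' d' = Wq ρ a' b' c' x' := by
    intro a' b' c' d' x' h5
    obtain ⟨e', he'⟩ := exists_avoid [a', b', c', d', x'] (by simp; omega)
    obtain ⟨g', hg'⟩ := exists_avoid [a', b', c', d', x', e'] (by simp; omega)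
    obtain ⟨i', hi'⟩ := exists_avoid [a', b', c', d', x', e', g'] (by simp; omega)
    obtain ⟨j', hj'⟩ := exists_avoid [a', b', c', d', x', e', g', i'] (by simp; omega)
    simp only [List.nodup_cons, List.mem_cons, List.not_mem_nil, or_false, not_or] at h5 he' hg' hi' hj'
    have n1 : [a', b', c', d', e', g', i', j'].Nodup := by
      simp [List.nodup_cons]; grind
    have n2 : [a', b', c', x', e', g', i', j'].Nodup := by
      simp [List.nodup_cons]; grind
    have n3 : [e', g', i', j', a', b', c', d'].Nodup := by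
      simp [List.nodup_cons]; grind
    have n4 : [e', g', i', j', a', b', c', x'].Nodup := by
      simp [List.nodup_cons]; grind
    exact le_antisymm ((hall _ _ _ _ _ _ _ _ n1).trans (hall _ _ _ _ _ _ _ _ n4))
      ((hall _ _ _ _ _ _ _ _ n2).trans (hall _ _ _ _ _ _ _ _ n3))
  have hfinal : Wq ρ a b c d = Wq ρ a b e g := by
    have hce : [a, b, c, e].Nodup := by rw [nodup_four]; grind
    rw [hlast a b c d e (by simp only [List.nodup_cons, List.mem_cons, List.not_mem_nil, or_false, not_or, List.nodup_nil, and_true, not_false_eq_true]; grind only),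
      show Wq ρ a b c e = Wq ρ a b e c by rw [Wq, Wq, Xq_comm' hr6 hL hce],
      hlast a b e c g (by simp only [List.nodup_cons, List.mem_cons, List.not_mem_nil, or_false, not_or, List.nodup_nil, and_true, not_false_eq_true]; grind only)]
  rw [← hfinal, inf_idem, h22 a b c d h4] at hlineA
  omega

end PRep

end Cfsg.Agent.AltSec
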