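import Cfsg.Agent.AltSec.OddLines

/-! Degree bound in the reflection case, odd characteristic. -/

namespace Cfsg.Agent.AltSec

open Equiv Module

variable {k V : Type*} [Field k] [AddCommGroup V] [Module k V] [FiniteDimensional k V] {r : ℕ}

namespace PRep

/-- standing hypotheses of the reflection case -/
structure Refl (ρ : PRep k V r) : Prop where
  nine : 9 ≤ r
  two : (2 : k) ≠ 0
  lin : ρ.Lin
  rank : ρ.Rank2

variable {ρ : PRep k V r}

theorem Refl.six (H : ρ.Refl) : 6 ≤ r := by have := H.nine; omega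

theorem sub_eight {a b c d e g i j : Fin r} (h : [a, b, c, d, e, g, i, j].Nodup) :
    [a, b, c, d, e, g].Nodup ∧ [a, b, c, d].Nodup ∧ [e, g, i, j].Nodup :=
  ⟨h.sublist (List.take_sublist 6 [a, b, c, d, e, g, i, j]),
    h.sublist (List.take_sublist 4 [a, b, c, d, e, g, i, j]),
    h.sublist (List.drop_sublist 4 [a, b, c, d, e, g, i, j])⟩

/-- the line of `{a, b}` does not depend on the third pair -/
theorem Refl.line_third (H : ρ.Refl) {a b c d e g i j : Fin r}
    (h : [a, b, c, d, e, g, i, j].Nodup) :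
    Wq ρ a b c d ⊓ Wq ρ a b e g = Wq ρ a b c d ⊓ Wq ρ a b i j := by
  obtain ⟨h6, h4, h4'⟩ := sub_eight h
  have h6' : [a, b, c, d, i, j].Nodup := by
    simp [List.nodup_cons] at h ⊢; grind
  have hsh : [e, g, i, j, a, b].Nodup := by
    simp [List.nodup_cons] at h ⊢; grind
  refine Submodule.eq_of_le_of_finrank_eq (fun v hv => ⟨hv.1, ?_⟩) ?_
  · have hfix := fix_disjoint H.nine H.two H.lin H.rank h hv.1
    have := congrArg (fun X : GV k V => (X : Module.End k V) v) (Xq_share H.six H.lin hsh)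
    simp only [gv_mul_apply] at this
    have hab : [a, b, e, g].Nodup := by simp [List.nodup_cons] at h ⊢; grind
    have hij : [a, b, i, j].Nodup := by simp [List.nodup_cons] at h ⊢; grind
    rw [hfix, Xq_rot H.lin hab, Xq_rot H.lin hij] at this
    change v ∈ Wq ρ a b i j
    rw [mem_Wq]
    have hmem : (Xq ρ a b e g : Module.End k V) v = -v := mem_Wq.1 hv.2
    have h2 := congrArg (Xq ρ a b e g : Module.End k V) this
    rw [Xq_sq_apply H.lin hab] at h2
    rw [h2, hmem]
  · rw [inf_line H.six H.two H.lin H.rank h6, inf_line H.six H.two H.lin H.rank h6']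

theorem Refl.line_indep (H : ρ.Refl) {a b c d e g c' d' e' g' : Fin r}
    (h : [a, b, c, d, e, g].Nodup) (h' : [a, b, c', d', e', g'].Nodup) :
    Wq ρ a b c d ⊓ Wq ρ a b e g = Wq ρ a b c' d' ⊓ Wq ρ a b e' g' := by
  have hr := H.nine
  -- replace the third pair by any pair avoiding the first two
  have third : ∀ c d e g i j : Fin r, [a, b, c, d, e, g].Nodup → [a, b, c, d, i, j].Nodup →
      Wq ρ a b c d ⊓ Wq ρ a b e g = Wq ρ a b c d ⊓ Wq ρ a b i j := by
    intro c d e g i j n1 n2
    -- go through pairs disjoint from the others; two intermediate steps suffice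
    obtain ⟨x, y, hxy, hx, hy⟩ := exists_avoid2 [a, b, c, d, e, g] (by simp; omega)
    obtain ⟨x', y', hxy', hx', hy'⟩ := exists_avoid2 [a, b, c, d, i, x] (by simp; omega)
    obtain ⟨x'', hx''⟩ := exists_avoid [a, b, c, d, i, j, x] (by simp; omega)
    simp only [List.nodup_cons, List.mem_cons, List.not_mem_nil, or_false, not_or,
      List.nodup_nil, and_true, not_false_eq_true] at n1 n2 hx hy hx' hy' hx''
    obtain ⟨y'', hy''⟩ := exists_avoid [a, b, c, d, i, j, x, x''] (by simp; omega)
    simp only [List.nodup_cons, List.mem_cons, List.not_mem_nil, or_false, not_or,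
      List.nodup_nil, and_true, not_false_eq_true] at hy''
    by_cases hall : ∀ z ∈ [x, y], z ≠ i ∧ z ≠ j
    · simp only [List.mem_cons, List.not_mem_nil, or_false, forall_eq_or_imp, forall_eq] at hall
      rw [H.line_third (show [a, b, c, d, e, g, x, y].Nodup by simp [List.nodup_cons]; grind),
        H.line_third (show [a, b, c, d, x, y, i, j].Nodup by simp [List.nodup_cons]; grind)]
    · -- a pair avoiding `e, g, i, j` exists unless these overlap; use a pair through the free point
      obtain ⟨u, hu⟩ := exists_avoid [a, b, c, d, e, g, i, j] (by simp; omega)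
      simp only [List.mem_cons, List.not_mem_nil, or_false, not_or] at hu
      simp only [List.mem_cons, List.not_mem_nil, or_false, forall_eq_or_imp, forall_eq] at hall
      -- `{e, g, i, j}` has at most three points or four; move one point at a time
      obtain ⟨w, hw⟩ := exists_avoid [a, b, c, d, e, g, u] (by simp; omega)
      simp only [List.mem_cons, List.not_mem_nil, or_false, not_or] at hw
      obtain ⟨w', hw'⟩ := exists_avoid [a, b, c, d, i, j, u] (by simp; omega)
      simp only [List.mem_cons, List.not_mem_nil, or_false, not_or] at hw'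
      rcases eq_or_ne w w' with rfl | hne
      · rw [H.line_third (show [a, b, c, d, e, g, u, w].Nodup by simp [List.nodup_cons]; grind),
          ← H.line_third (show [a, b, c, d, i, j, u, w].Nodup by simp [List.nodup_cons]; grind)]
      · obtain ⟨z, hz⟩ := exists_avoid [a, b, c, d, u, w, w'] (by simp; omega)
        simp only [List.mem_cons, List.not_mem_nil, or_false, not_or] at hz
        -- `{u, w}` and `{u, w'}` both miss `{z, z'}`
        obtain ⟨z', hz'⟩ := exists_avoid [a, b, c, d, u, w, w', z] (by simp; omega)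
        simp only [List.mem_cons, List.not_mem_nil, or_false, not_or] at hz'
        rw [H.line_third (show [a, b, c, d, e, g, u, w].Nodup by simp [List.nodup_cons]; grind),
          H.line_third (show [a, b, c, d, u, w, z, z'].Nodup by simp [List.nodup_cons]; grind),
          H.line_third (show [a, b, c, d, z, z', u, w'].Nodup by simp [List.nodup_cons]; grind),
          H.line_third (show [a, b, c, d, u, w', i, j].Nodup by simp [List.nodup_cons]; grind)]
  obtain ⟨x, y, hxy, hx, hy⟩ := exists_avoid2 [a, b, c, d, c', d'] (by simp; omega)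
  simp only [List.nodup_cons, List.mem_cons, List.not_mem_nil, or_false, not_or, List.nodup_nil,
    and_true, not_false_eq_true] at h h' hx hy
  have n1 : [a, b, c, d, x, y].Nodup := by simp [List.nodup_cons]; grind
  have n1' : [a, b, x, y, c, d].Nodup := by simp [List.nodup_cons]; grind
  have n2 : [a, b, x, y, c', d'].Nodup := by simp [List.nodup_cons]; grind
  have n3 : [a, b, c', d', x, y].Nodup := by simp [List.nodup_cons]; grind
  rw [third c d e g x y (by simp [List.nodup_cons]; grind) n1, inf_comm,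
    third x y c d c' d' n1' n2, inf_comm, third c' d' x y e' g' n3 (by
      simp [List.nodup_cons]; grind)]

/-- the line attached to the pair `{a, b}` -/
noncomputable def Ln (ρ : PRep k V r) (a b : Fin r) : Submodule k V :=
  open Classical in
  if h : ∃ q : Fin r × Fin r × Fin r × Fin r, [a, b, q.1, q.2.1, q.2.2.1, q.2.2.2].Nodup then
    Wq ρ a b h.choose.1 h.choose.2.1 ⊓ Wq ρ a b h.choose.2.2.1 h.choose.2.2.2
  else ⊥

theorem Refl.Ln_eq (H : ρ.Refl) {a b c d e g : Fin r} (h : [a, b, c, d, e, g].Nodup) :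
    Ln ρ a b = Wq ρ a b c d ⊓ Wq ρ a b e g := by
  have hex : ∃ q : Fin r × Fin r × Fin r × Fin r,
      [a, b, q.1, q.2.1, q.2.2.1, q.2.2.2].Nodup := ⟨(c, d, e, g), h⟩
  rw [Ln, dif_pos hex]
  exact H.line_indep hex.choose_spec h

theorem exists_four (hr : 9 ≤ r) (l : List (Fin r)) (hl : l.length ≤ 5) :
    ∃ c d e g : Fin r, [c, d, e, g].Nodup ∧ (∀ x ∈ [c, d, e, g], x ∉ l) := by
  obtain ⟨c, hc⟩ := exists_avoid l (by omega)
  obtain ⟨d, hd⟩ := exists_avoid (c :: l) (by simp; omega)
  obtain ⟨e, he⟩ := exists_avoid (c :: d :: l) (by simp; omega)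
  obtain ⟨g, hg⟩ := exists_avoid (c :: d :: e :: l) (by simp; omega)
  refine ⟨c, d, e, g, ?_, ?_⟩
  · simp [List.nodup_cons] at hd he hg ⊢; grind
  · simp only [List.mem_cons, not_or, List.not_mem_nil, or_false, forall_eq_or_imp,
      forall_eq] at hd he hg ⊢
    exact ⟨hc, hd.2, he.2.2, hg.2.2.2⟩

theorem Refl.exists_ext (H : ρ.Refl) {a b : Fin r} (hab : a ≠ b) :
    ∃ c d e g, [a, b, c, d, e, g].Nodup := by
  obtain ⟨c, d, e, g, hn, hav⟩ := exists_four H.nine [a, b] (by simp)
  exact ⟨c, d, e, g, by simp [List.nodup_cons] at hn hav ⊢; grind⟩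

theorem Refl.finrank_Ln (H : ρ.Refl) {a b : Fin r} (hab : a ≠ b) : finrank k (Ln ρ a b) = 1 := by
  obtain ⟨c, d, e, g, h⟩ := H.exists_ext hab
  rw [H.Ln_eq h]
  exact inf_line H.six H.two H.lin H.rank h

theorem Refl.Ln_le (H : ρ.Refl) {a b c d : Fin r} (h : [a, b, c, d].Nodup) :
    Ln ρ a b ≤ Wq ρ a b c d := by
  obtain ⟨e, g, heg, he, hg⟩ := exists_avoid2 [a, b, c, d] (by have := H.nine; simp; omega)
  rw [H.Ln_eq (show [a, b, c, d, e, g].Nodup by simp [List.nodup_cons] at h he hg ⊢; grind)]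
  exact inf_le_left

theorem Refl.Ln_comm (H : ρ.Refl) {a b : Fin r} (hab : a ≠ b) : Ln ρ b a = Ln ρ a b := by
  obtain ⟨c, d, e, g, h⟩ := H.exists_ext hab
  rw [H.Ln_eq h, H.Ln_eq (show [b, a, c, d, e, g].Nodup by simp [List.nodup_cons] at h ⊢; grind)]
  rw [Wq, Wq, Wq, Wq, Xq_comm H.six H.lin (show [a, b, c, d].Nodup by
    simp [List.nodup_cons] at h ⊢; grind),
    Xq_comm H.six H.lin (show [a, b, e, g].Nodup by simp [List.nodup_cons] at h ⊢; grind)]

theorem Refl.Ln_conj (H : ρ.Refl) {a b : Fin r} (hab : a ≠ b) {σ : Perm (Fin r)} {G : GV k V}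
    (hσ : Perm.sign σ = 1) (hG : ρ.Lifts σ G) {v : V} (hv : v ∈ Ln ρ a b) :
    (G : Module.End k V) v ∈ Ln ρ (σ a) (σ b) := by
  obtain ⟨c, d, e, g, h⟩ := H.exists_ext hab
  rw [H.Ln_eq h] at hv
  rw [H.Ln_eq (show [σ a, σ b, σ c, σ d, σ e, σ g].Nodup from h.map σ.injective)]
  exact ⟨Wq_conj (h.sublist (List.take_sublist 4 [a, b, c, d, e, g])) hσ hG hv.1,
    Wq_conj (show [a, b, e, g].Nodup by simp [List.nodup_cons] at h ⊢; grind) hσ hG hv.2⟩

theorem Refl.Ln_fix (H : ρ.Refl) {a b e g i j : Fin r} (h : [a, b, e, g, i, j].Nodup) {v : V}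
    (hv : v ∈ Ln ρ a b) : (Xq ρ e g i j : Module.End k V) v = v := by
  obtain ⟨c, d, hcd, hc, hd⟩ := exists_avoid2 [a, b, e, g, i, j] (by have := H.nine; simp; omega)
  have h8 : [a, b, c, d, e, g, i, j].Nodup := by
    simp [List.nodup_cons] at h hc hd ⊢; grind
  exact fix_disjoint H.nine H.two H.lin H.rank h8 (H.Ln_le (sub_eight h8).2.1 hv)

theorem Refl.Ln_disjoint (H : ρ.Refl) {a b c d : Fin r} (h : [a, b, c, d].Nodup) :
    Ln ρ a b ⊓ Ln ρ c d = ⊥ := by
  obtain ⟨e, g, heg, he, hg⟩ := exists_avoid2 [a, b, c, d] (by have := H.nine; simp; omega)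
  have h6 : [a, b, c, d, e, g].Nodup := by simp [List.nodup_cons] at h he hg ⊢; grind
  rw [eq_bot_iff]
  intro v hv
  have h1 := mem_Wq.1 (H.Ln_le h hv.1)
  have h2 := mem_Wq.1 (H.Ln_le (show [a, b, e, g].Nodup by
    simp [List.nodup_cons] at h6 ⊢; grind) hv.1)
  have h3 := mem_Wq.1 (H.Ln_le (show [c, d, e, g].Nodup by
    simp [List.nodup_cons] at h6 ⊢; grind) hv.2)
  have := share_apply H.six H.lin h6 (H.Ln_le h hv.1)
  rw [h3, map_neg, h2, neg_neg] at this
  simpa using neg_ne_self H.two this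

end PRep

end Cfsg.Agent.AltSec
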