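import Cfsg.Agent.AltSec.OddFrame
import Cfsg.Agent.AltSec.Joint

/-! Small degree forces the reflection case (odd characteristic, abelian lifts of four-groups). -/

namespace Cfsg.Agent.AltSec

open Equiv Module

variable {k V : Type*} [Field k] [AddCommGroup V] [Module k V] {r : ℕ}

namespace PRep

variable {ρ : PRep k V r}

/-- the three labels of a Klein generator -/
def lab : Fin 3 → Fin 4 × Fin 4 × Fin 4 := ![(1, 2, 3), (2, 1, 3), (3, 1, 2)]

/-- Klein generators of disjoint blocks -/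
noncomputable def kl (ρ : PRep k V r) {m : ℕ} (p : Fin m → Fin 4 → Fin r) (x : Fin m × Fin 3) :
    Module.End k V :=
  Xq ρ (p x.1 0) (p x.1 (lab x.2).1) (p x.1 (lab x.2).2.1) (p x.1 (lab x.2).2.2)

/-- the eigenvalues belonging to a choice of label in each block -/
def chi {m : ℕ} (w : Fin m → Fin 4) (x : Fin m × Fin 3) : k :=
  if w x.1 = 0 ∨ w x.1 = (lab x.2).1 then 1 else -1

theorem chi_injective (h2 : (2 : k) ≠ 0) {m : ℕ} :
    Function.Injective (chi : (Fin m → Fin 4) → Fin m × Fin 3 → k) := by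
  intro w w' h
  have hne : (-1 : k) ≠ 1 := by
    intro h1
    apply h2
    linear_combination -h1
  funext b
  have key : ∀ l : Fin 3, (w b = 0 ∨ w b = (lab l).1) ↔ (w' b = 0 ∨ w' b = (lab l).1) := by
    intro l
    have := congrFun h (b, l)
    simp only [chi] at this
    split_ifs at this with h1 h1' h1'
    · exact iff_of_true h1 h1'
    · exact absurd this.symm hne
    · exact absurd this hne
    · exact iff_of_false h1 h1'
  have k0 := key 0
  have k1 := key 1
  have k2 := key 2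
  simp only [lab, Matrix.cons_val_zero, Matrix.cons_val_one, Matrix.cons_val_two,
    Matrix.head_cons, Matrix.tail_cons] at k0 k1 k2
  revert k0 k1 k2
  generalize w b = x
  generalize w' b = y
  revert x y
  decide

/-- good block data -/
structure Blocks (ρ : PRep k V r) {m : ℕ} (p : Fin m → Fin 4 → Fin r) : Prop where
  nine : 9 ≤ r
  two : (2 : k) ≠ 0
  lin : ρ.Lin
  inj : Function.Injective fun x : Fin m × Fin 4 => p x.1 x.2

variable {m : ℕ} {p : Fin m → Fin 4 → Fin r}

theorem Blocks.six (B : ρ.Blocks p) : 6 ≤ r := by have := B.nine; omega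

theorem Blocks.inj' (B : ρ.Blocks p) (b : Fin m) : Function.Injective (p b) := fun i j h =>
  (Prod.ext_iff.1 (@B.inj (b, i) (b, j) h)).2

theorem Blocks.nodup (B : ρ.Blocks p) (b : Fin m) {i j h l : Fin 4}
    (hn : [i, j, h, l].Nodup) : [p b i, p b j, p b h, p b l].Nodup :=
  hn.map (B.inj' b)

theorem lab_nodup : ∀ l : Fin 3, [0, (lab l).1, (lab l).2.1, (lab l).2.2].Nodup := by decide

theorem Blocks.kl_nodup (B : ρ.Blocks p) (x : Fin m × Fin 3) :
    [p x.1 0, p x.1 (lab x.2).1, p x.1 (lab x.2).2.1, p x.1 (lab x.2).2.2].Nodup :=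
  B.nodup x.1 (lab_nodup x.2)

theorem Blocks.label (B : ρ.Blocks p) (b : Fin m) : ∀ i j h : Fin 4, [0, i, j, h].Nodup →
    ∃ l, (lab l).1 = i ∧
      (Xq ρ (p b 0) (p b i) (p b j) (p b h) : Module.End k V) = kl ρ p (b, l) := by
  intro i j h hn
  have hcases : ∃ l, (lab l).1 = i ∧
      (((lab l).2.1 = j ∧ (lab l).2.2 = h) ∨ ((lab l).2.1 = h ∧ (lab l).2.2 = j)) := by
    revert hn; revert i j h; decide
  obtain ⟨l, hl, hcase⟩ := hcases
  refine ⟨l, hl, ?_⟩
  rcases hcase with ⟨h1, h2⟩ | ⟨h1, h2⟩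
  · simp only [kl, hl, h1, h2]
  · simp only [kl, hl, h1, h2]
    rw [Xq_comm' B.six B.lin (B.nodup b hn)]

theorem Blocks.kl_sq (B : ρ.Blocks p) (x : Fin m × Fin 3) (v : V) :
    kl ρ p x (kl ρ p x v) = v := Xq_sq_apply B.lin (B.kl_nodup x) v

theorem Blocks.kl_prod (B : ρ.Blocks p) (b : Fin m) (v : V) :
    kl ρ p (b, 0) (kl ρ p (b, 1) v) = kl ρ p (b, 2) v := by
  simp only [kl, lab, Matrix.cons_val_zero, Matrix.cons_val_one, Matrix.cons_val_two,
    Matrix.head_cons, Matrix.tail_cons]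
  rw [← gv_mul_apply, Xq_klein B.six B.lin (B.nodup b (by decide))]

theorem Blocks.kl_comm (B : ρ.Blocks p) (x y : Fin m × Fin 3) (v : V) :
    kl ρ p x (kl ρ p y v) = kl ρ p y (kl ρ p x v) := by
  obtain ⟨b, l⟩ := x
  obtain ⟨b', l'⟩ := y
  refine commute_apply ?_ v
  by_cases hb : b = b'
  · subst hb
    have c01 : Commute (Xq ρ (p b 0) (p b 1) (p b 2) (p b 3))
        (Xq ρ (p b 0) (p b 2) (p b 1) (p b 3)) :=
      Xq_commute_klein B.lin (B.nodup b (by decide))
    have e2 : Xq ρ (p b 0) (p b 3) (p b 1) (p b 2) =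
        Xq ρ (p b 0) (p b 1) (p b 2) (p b 3) * Xq ρ (p b 0) (p b 2) (p b 1) (p b 3) :=
      (Xq_klein B.six B.lin (B.nodup b (by decide))).symm
    fin_cases l <;> fin_cases l' <;> simp only [lab, Matrix.cons_val_zero, Matrix.cons_val_one,
      Matrix.cons_val_two, Matrix.head_cons, Matrix.tail_cons, e2, Fin.isValue, Fin.zero_eta,
      Fin.mk_one, Fin.reduceFinMk]
    all_goals first
      | exact Commute.refl _
      | exact c01
      | exact c01.symm
      | exact (Commute.refl _).mul_right c01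
      | exact c01.symm.mul_right (Commute.refl _)
      | exact ((Commute.refl _).mul_right c01).symm
      | exact (c01.symm.mul_right (Commute.refl _)).symm
  · refine Xq_commute_disjoint (B.kl_nodup (b, l)) (B.kl_nodup (b', l')) ?_
    intro x hx hx'
    simp only [List.mem_cons, List.not_mem_nil, or_false] at hx hx'
    have : ∀ i j, p b i ≠ p b' j := fun i j h => hb (Prod.ext_iff.1 (@B.inj (b, i) (b', j) h)).1
    rcases hx with rfl | rfl | rfl | rfl <;> rcases hx' with h | h | h | h <;>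
      exact this _ _ h

theorem Blocks.exists_label (B : ρ.Blocks p) {v : V} (hv : v ≠ 0)
    (hs : ∀ x, kl ρ p x v = v ∨ kl ρ p x v = -v) :
    ∃ w, v ∈ joint (kl ρ p) (chi w) := by
  classical
  have hb : ∀ b, ∃ i : Fin 4, ∀ l : Fin 3,
      kl ρ p (b, l) v = (if i = 0 ∨ i = (lab l).1 then (1 : k) else -1) • v := by
    intro b
    have hp := B.kl_prod b v
    rcases hs (b, 0) with h0 | h0 <;> rcases hs (b, 1) with h1 | h1
    · refine ⟨0, fun l => ?_⟩
      rw [h1, h0] at hp
      fin_cases l <;> simp [h0, h1, ← hp]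
    · refine ⟨1, fun l => ?_⟩
      rw [h1, map_neg, h0] at hp
      fin_cases l <;> simp [lab, h0, h1, ← hp]
    · refine ⟨2, fun l => ?_⟩
      rw [h1, h0] at hp
      fin_cases l <;> simp [lab, h0, h1, ← hp]
    · refine ⟨3, fun l => ?_⟩
      rw [h1, map_neg, h0, neg_neg] at hp
      fin_cases l <;> simp [lab, h0, h1, ← hp]
  choose w hw using hb
  exact ⟨w, mem_joint.2 fun ⟨b, l⟩ => hw b l⟩

/-- lifting a permutation of the blocks with label changes -/
theorem Blocks.move (B : ρ.Blocks p) (π : Perm (Fin m)) (β : Fin m → Perm (Fin 4))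
    (hβ : ∀ b, β b 0 = 0) {w : Fin m → Fin 4} (b0 : Fin m) :
    ∃ (G : GV k V) (w' : Fin m → Fin 4), (∀ b, w' (π b) = β b (w b)) ∧
      ∀ v ∈ joint (kl ρ p) (chi w), (G : Module.End k V) v ∈ joint (kl ρ p) (chi w') := by
  classical
  -- two labels that can be exchanged without moving `w b0`
  obtain ⟨j, h, hjh, hj, hh, hjw, hhw⟩ : ∃ j h : Fin 4, j ≠ h ∧ j ≠ 0 ∧ h ≠ 0 ∧
      j ≠ w b0 ∧ h ≠ w b0 := by
    generalize w b0 = i
    revert i; decide
  suffices key : ∀ β : Fin m → Perm (Fin 4), (∀ b, β b 0 = 0) → ∀ σ : Perm (Fin r),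
      Perm.sign σ = 1 → (∀ b i, σ (p b i) = p (π b) (β b i)) →
      ∃ (G : GV k V) (w' : Fin m → Fin 4), (∀ b, w' (π b) = β b (w b)) ∧
        ∀ v ∈ joint (kl ρ p) (chi w), (G : Module.End k V) v ∈ joint (kl ρ p) (chi w') by
    obtain ⟨σ, hσ⟩ := Equiv.Perm.exists_extending_pair (fun x : Fin m × Fin 4 => p x.1 x.2)
      (fun x => p (π x.1) (β x.1 x.2)) B.inj (fun x y hxy => by
        have := @B.inj (π x.1, β x.1 x.2) (π y.1, β y.1 y.2) hxy
        simp only [Prod.mk.injEq, EmbeddingLike.apply_eq_iff_eq] at this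
        refine Prod.ext this.1 ?_
        have h2 := this.2
        rw [this.1] at h2
        exact (β y.1).injective h2)
    rcases Int.units_eq_one_or (Perm.sign σ) with hs | hs
    · exact key β hβ σ hs fun b i => hσ (b, i)
    · have := key (Function.update β b0 (β b0 * swap j h))
        (fun b => by
          by_cases hb : b = b0
          · subst hb
            simp [Equiv.swap_apply_of_ne_of_ne (Ne.symm hj) (Ne.symm hh), hβ b]
          · simp [hb, hβ b])
        (σ * swap (p b0 j) (p b0 h))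
        (by simp [hs, Perm.sign_swap ((B.inj' b0).ne hjh)])
        (fun b i => by
          by_cases hb : b = b0
          · subst hb
            rw [Perm.mul_apply, ← (B.inj' b).map_swap, Function.update_self, Perm.mul_apply,
              hσ (b, _)]
          · have hne : ∀ q, p b i ≠ p b0 q := fun q hq =>
              hb (Prod.ext_iff.1 (@B.inj (b, i) (b0, q) hq)).1
            rw [Perm.mul_apply, Equiv.swap_apply_of_ne_of_ne (hne j) (hne h),
              Function.update_of_ne hb, hσ (b, i)])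
      obtain ⟨G, w', h1, h2⟩ := this
      refine ⟨G, w', fun b => ?_, h2⟩
      rw [h1]
      by_cases hb : b = b0
      · subst hb
        rw [Function.update_self, Perm.mul_apply,
          Equiv.swap_apply_of_ne_of_ne (Ne.symm hjw) (Ne.symm hhw)]
      · rw [Function.update_of_ne hb]
  intro β hβ σ hσ hσp
  refine ⟨ρ.f σ, fun b => β (π.symm b) (w (π.symm b)), fun b => by simp, fun v hv => ?_⟩
  rw [mem_joint] at hv ⊢
  rintro ⟨b', l'⟩
  obtain ⟨b, rfl⟩ := π.surjective b'
  have hi : [0, (β b).symm (lab l').1, (β b).symm (lab l').2.1, (β b).symm (lab l').2.2].Nodup := by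
    have := (lab_nodup l').map (β b).symm.injective
    simp only [List.map_cons, List.map_nil] at this
    rwa [show (β b).symm 0 = 0 by rw [Equiv.symm_apply_eq, hβ]] at this
  obtain ⟨l, hl1, hl⟩ := B.label b _ _ _ hi
  have hkl : kl ρ p (π b, l') =
      (Xq ρ (σ (p b 0)) (σ (p b ((β b).symm (lab l').1))) (σ (p b ((β b).symm (lab l').2.1)))
        (σ (p b ((β b).symm (lab l').2.2))) : Module.End k V) := by
    simp only [hσp, hβ, Equiv.apply_symm_apply, kl]
  rw [hkl, apply_conj (B.nodup b hi) hσ (ρ.lifts_f σ), hl, hv (b, l), map_smul]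
  congr 1
  simp only [chi, Equiv.symm_apply_apply, hl1]
  refine if_congr ?_ rfl rfl
  have h0 : β b (w b) = 0 ↔ w b = 0 :=
    ⟨fun h => (β b).injective (by rw [h, hβ]), fun h => by rw [h, hβ]⟩
  simp [h0, Equiv.eq_symm_apply]

theorem Blocks.exists_eig (B : ρ.Blocks p) (W : Submodule k V) (hW : W ≠ ⊥)
    (hinv : ∀ x, ∀ v ∈ W, kl ρ p x v ∈ W) :
    ∃ v ∈ W, ∃ w, v ≠ 0 ∧ v ∈ joint (kl ρ p) (chi w) := by
  obtain ⟨v, hv, hv0, hs⟩ := exists_joint B.two (kl ρ p) B.kl_sq B.kl_comm
    (Finset.univ : Finset (Fin m × Fin 3)).toList W hW hinv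
  obtain ⟨w, hw⟩ := B.exists_label hv0 fun x => hs x (Finset.mem_toList.2 (Finset.mem_univ x))
  exact ⟨v, hv, w, hv0, hw⟩

/-- an eigenvector meeting `s ≥ 1` blocks has many conjugates -/
theorem Blocks.orbit (B : ρ.Blocks p) [FiniteDimensional k V] {v : V} (hv : v ≠ 0)
    {w : Fin m → Fin 4} (hw : v ∈ joint (kl ρ p) (chi w)) {s : ℕ} (hs0 : 1 ≤ s)
    (hs : (Finset.univ.filter fun b => w b ≠ 0).card = s) :
    m.choose s * 3 ^ s ≤ finrank k V := by
  classical
  set S := Finset.univ.filter fun b => w b ≠ 0 with hS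
  let U : Finset (Fin m → Fin 4) := Finset.univ.filter fun w' =>
    (Finset.univ.filter fun b => w' b ≠ 0).card = s
  have hU : m.choose s * 3 ^ s ≤ U.card := by
    let D := (Finset.powersetCard s (Finset.univ : Finset (Fin m))).sigma fun T =>
      T.pi fun _ => ({1, 2, 3} : Finset (Fin 4))
    have hD : D.card = m.choose s * 3 ^ s := by
      rw [Finset.card_sigma, Finset.sum_congr rfl (g := fun _ => 3 ^ s) (fun T hT => by
        rw [Finset.card_pi, Finset.prod_const, (Finset.mem_powersetCard.1 hT).2]; rfl),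
        Finset.sum_const, Finset.card_powersetCard, Finset.card_univ, Fintype.card_fin,
        smul_eq_mul]
    rw [← hD]
    have hnz : ∀ q ∈ D, ∀ b (hb : b ∈ q.1), q.2 b hb ≠ 0 := by
      intro q hq b hb
      have := (Finset.mem_pi.1 (Finset.mem_sigma.1 hq).2) b hb
      revert this
      generalize q.2 b hb = i
      revert i; decide
    refine Finset.card_le_card_of_injOn (fun q b => if hb : b ∈ q.1 then q.2 b hb else 0) ?_ ?_
    · intro q hq
      have hsupp : (Finset.univ.filter fun b =>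
          (if hb : b ∈ q.1 then q.2 b hb else 0) ≠ 0) = q.1 := by
        ext b
        by_cases hb : b ∈ q.1 <;> simp [hb, hnz q hq b]
      simp only [Finset.mem_coe, U, Finset.mem_filter, Finset.mem_univ, true_and]
      rw [hsupp]
      exact (Finset.mem_powersetCard.1 (Finset.mem_sigma.1 hq).1).2
    · rintro ⟨T, g⟩ hq ⟨T', g'⟩ hq' heq
      have hT : T = T' := by
        ext b
        have := congrFun heq b
        simp only at this
        constructor
        · intro hb
          by_contra hb'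
          rw [dif_pos hb, dif_neg hb'] at this
          exact hnz _ hq b hb this
        · intro hb
          by_contra hb'
          rw [dif_neg hb', dif_pos hb] at this
          exact hnz _ hq' b hb this.symm
      subst hT
      congr 1
      funext b hb
      have := congrFun heq b
      simpa [hb] using this
  refine hU.trans ?_
  rw [← Fintype.card_coe]
  refine card_le_finrank (X := kl ρ p) (f := fun u : U => chi u.1)
    ((chi_injective B.two).comp Subtype.val_injective) fun ⟨u, hu⟩ => ?_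
  have hu' : (Finset.univ.filter fun b => u b ≠ 0).card = s := by simpa [U] using hu
  set S' := Finset.univ.filter fun b => u b ≠ 0 with hS'
  obtain ⟨π, hπ⟩ := Equiv.Perm.exists_map_finset_eq S S' (by rw [hs, hu'])
  have hmem : ∀ b, π b ∈ S' ↔ b ∈ S := by
    intro b
    rw [← hπ]
    simp
  let β : Fin m → Perm (Fin 4) := fun b => if b ∈ S then swap (w b) (u (π b)) else 1
  have hβ : ∀ b, β b 0 = 0 := by
    intro b
    by_cases hb : b ∈ S
    · have h1 : w b ≠ 0 := by simpa [hS] using hb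
      have h2 : u (π b) ≠ 0 := by simpa [hS'] using (hmem b).2 hb
      simp [β, hb, Equiv.swap_apply_of_ne_of_ne h1.symm h2.symm]
    · simp [β, hb]
  obtain ⟨b0, -⟩ : S.Nonempty := Finset.card_pos.1 (by omega)
  obtain ⟨G, w', hw', hG⟩ := B.move π β hβ (w := w) b0
  have he : w' = u := by
    funext b'
    obtain ⟨b, rfl⟩ := π.surjective b'
    rw [hw']
    by_cases hb : b ∈ S
    · simp [β, hb]
    · have h1 : w b = 0 := by simpa [hS] using hb
      have h2 : u (π b) = 0 := by simpa [hS'] using (mt (hmem b).1 hb)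
      simp [β, hb, h1, h2]
  rw [Submodule.ne_bot_iff]
  exact ⟨(G : Module.End k V) v, he ▸ hG v hw,
    fun h0 => hv (gv_injective G (by rw [h0, map_zero]))⟩

theorem pair_determined : ∀ T T' : Finset (Fin 5), T.card = 2 → T'.card = 2 →
    (∀ P Q, (P ∈ T ↔ Q ∈ T) ↔ (P ∈ T' ↔ Q ∈ T')) → T = T' := by decide

theorem lab_other : ∀ i : Fin 4, ∃ l, i ≠ (lab l).1 := by decide

theorem self_le_choose : ∀ m s : ℕ, 1 ≤ s → s < m → m ≤ m.choose s := by
  intro m
  induction m with
  | zero => simp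
  | succ m ih =>
    intro s hs hlt
    rcases (Nat.le_of_lt_succ hlt).eq_or_lt with rfl | hlt'
    · simp [Nat.choose_succ_self_right]
    obtain ⟨t, rfl⟩ : ∃ t, s = t + 1 := ⟨s - 1, by omega⟩
    rw [Nat.choose_succ_succ]
    have h1 := ih (t + 1) (by omega) hlt'
    have h2 : 1 ≤ m.choose t := Nat.choose_pos (by omega)
    change m + 1 ≤ m.choose t + m.choose (t + 1)
    omega

/-- five pairs: two commuting reflections give ten eigenvalue systems -/
theorem ten_le [FiniteDimensional k V] (hr : 10 ≤ r) (h2 : (2 : k) ≠ 0) (hL : ρ.Lin)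
    {a b c d e g i j : Fin r} (h : [a, b, c, d, e, g, i, j].Nodup) {u : V} (hu : u ≠ 0)
    (h1 : (Xq ρ a b c d : Module.End k V) u = -u) (h3 : (Xq ρ e g i j : Module.End k V) u = -u) :
    10 ≤ finrank k V := by
  classical
  have hr6 : 6 ≤ r := by omega
  obtain ⟨x, y, hxy, hx, hy⟩ := exists_avoid2 [a, b, c, d, e, g, i, j] (by simp; omega)
  let q : Fin 5 → Fin 2 → Fin r := ![![a, b], ![c, d], ![e, g], ![i, j], ![x, y]]
  have hq : Function.Injective fun z : Fin 5 × Fin 2 => q z.1 z.2 := by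
    intro z z' hz
    have hnd : [a, b, c, d, e, g, i, j, x, y].Nodup := by
      simp only [List.nodup_cons, List.mem_cons, List.not_mem_nil, or_false, not_or] at h hx hy ⊢
      simp only [List.nodup_nil, and_true, not_false_eq_true] at h ⊢
      grind only
    have hget : ∀ z : Fin 5 × Fin 2, q z.1 z.2 =
        [a, b, c, d, e, g, i, j, x, y].get ⟨2 * z.1.val + z.2.val, by
          simp only [List.length_cons, List.length_nil]; omega⟩ := by
      rintro ⟨z1, z2⟩
      fin_cases z1 <;> fin_cases z2 <;> rfl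
    simp only [hget] at hz
    have := congrArg Fin.val (hnd.injective_get hz)
    simp only at this
    exact Prod.ext (Fin.ext (by omega)) (Fin.ext (by omega))
  have qne : ∀ {P Q : Fin 5}, P ≠ Q → ∀ u v, q P u ≠ q Q v := fun hPQ u v huv =>
    hPQ (Prod.ext_iff.1 (@hq (_, u) (_, v) huv)).1
  have qne' : ∀ P : Fin 5, q P 0 ≠ q P 1 := fun P huv =>
    zero_ne_one (Prod.ext_iff.1 (@hq (P, 0) (P, 1) huv)).2
  have n4 : ∀ {P Q : Fin 5}, P ≠ Q → [q P 0, q P 1, q Q 0, q Q 1].Nodup := by
    intro P Q hPQ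
    rw [nodup_four]
    exact ⟨qne' P, qne hPQ _ _, qne hPQ _ _, qne hPQ _ _, qne hPQ _ _, qne' Q⟩
  have n6 : ∀ {P Q R : Fin 5}, P ≠ Q → P ≠ R → Q ≠ R →
      [q P 0, q P 1, q Q 0, q Q 1, q R 0, q R 1].Nodup := by
    intro P Q R hPQ hPR hQR
    rw [nodup_six]
    exact ⟨qne' P, qne hPQ _ _, qne hPQ _ _, qne hPR _ _, qne hPR _ _, qne hPQ _ _, qne hPQ _ _,
      qne hPR _ _, qne hPR _ _, qne' Q, qne hQR _ _, qne hQR _ _, qne hQR _ _, qne hQR _ _,
      qne' R⟩
  let ι := {z : Fin 5 × Fin 5 // z.1 ≠ z.2}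
  let Y : ι → Module.End k V := fun z =>
    (Xq ρ (q z.1.1 0) (q z.1.1 1) (q z.1.2 0) (q z.1.2 1) : Module.End k V)
  have hYsq : ∀ z v, Y z (Y z v) = v := fun z v => Xq_sq_apply hL (n4 z.2) v
  have hYc : ∀ z z' v, Y z (Y z' v) = Y z' (Y z v) := by
    rintro ⟨⟨P, Q⟩, hPQ : P ≠ Q⟩ ⟨⟨R, T⟩, hRT : R ≠ T⟩ v
    refine commute_apply ?_ v
    change Commute (Xq ρ (q P 0) (q P 1) (q Q 0) (q Q 1)) (Xq ρ (q R 0) (q R 1) (q T 0) (q T 1))
    by_cases hPR : P = R
    · subst hPR
      by_cases hQT : Q = T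
      · subst hQT; exact Commute.refl _
      exact Xq_commute_share hL (n6 hPQ hRT hQT)
    by_cases hPT : P = T
    · subst hPT
      rw [← Xq_rot hL (n4 hRT)]
      by_cases hQR : Q = R
      · subst hQR; exact Commute.refl _
      exact Xq_commute_share hL (n6 hPQ (Ne.symm hRT) hQR)
    rw [← Xq_rot hL (n4 hPQ)]
    by_cases hQR : Q = R
    · subst hQR
      exact Xq_commute_share hL (n6 (Ne.symm hPQ) hRT hPT)
    by_cases hQT : Q = T
    · subst hQT
      rw [← Xq_rot hL (n4 hRT)]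
      exact Xq_commute_share hL (n6 (Ne.symm hPQ) (Ne.symm hRT) hPR)
    refine Xq_commute_disjoint (n4 (Ne.symm hPQ)) (n4 hRT) ?_
    intro z hz hz'
    simp only [List.mem_cons, List.not_mem_nil, or_false] at hz hz'
    rcases hz with rfl | rfl | rfl | rfl <;> rcases hz' with hh | hh | hh | hh <;>
      first | exact qne hQR _ _ hh | exact qne hQT _ _ hh | exact qne hPR _ _ hh
            | exact qne hPT _ _ hh
  let z01 : ι := ⟨(0, 1), by decide⟩
  let z23 : ι := ⟨(2, 3), by decide⟩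
  let W : Submodule k V := LinearMap.ker (Y z01 + 1) ⊓ LinearMap.ker (Y z23 + 1)
  have hWmem : ∀ v, v ∈ W ↔ Y z01 v = -v ∧ Y z23 v = -v := by
    intro v
    simp only [W, Submodule.mem_inf, LinearMap.mem_ker, LinearMap.add_apply, Module.End.one_apply,
      add_eq_zero_iff_eq_neg]
  have hW : W ≠ ⊥ := (Submodule.ne_bot_iff W).2 ⟨u, (hWmem u).2 ⟨h1, h3⟩, hu⟩
  obtain ⟨v, hvW, hv0, hv⟩ := exists_joint h2 Y hYsq hYc
    (Finset.univ : Finset ι).toList W hW (fun z v hv => by
      rw [hWmem] at hv ⊢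
      exact ⟨by rw [hYc, hv.1, map_neg], by rw [hYc, hv.2, map_neg]⟩)
  replace hv : ∀ z, Y z v = v ∨ Y z v = -v := fun z => hv z (Finset.mem_toList.2 (Finset.mem_univ z))
  have hnn : v ≠ -v := fun he => hv0 (neg_ne_self h2 he)
  -- the sign of each pair relative to the first
  let σ : Fin 5 → Bool := fun P => if hP : (0 : Fin 5) ≠ P then decide (Y ⟨(0, P), hP⟩ v = -v)
    else false
  have hY : ∀ z : ι, Y z v = if σ z.1.1 = σ z.1.2 then v else -v := by
    have key : ∀ (P Q : Fin 5) (hP : (0 : Fin 5) ≠ P) (hQ : (0 : Fin 5) ≠ Q) (hPQ : P ≠ Q),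
        Y ⟨(P, Q), hPQ⟩ v = Y ⟨(0, P), hP⟩ (Y ⟨(0, Q), hQ⟩ v) := by
      intro P Q hP hQ hPQ
      simp only [Y]
      rw [← gv_mul_apply, ← Xq_share hr6 hL (n6 hQ hP (Ne.symm hPQ)),
        ← mul_assoc, Xq_sq hL (n4 hP), one_mul, ← Xq_rot hL (n4 (Ne.symm hPQ))]
    have hσ : ∀ (P : Fin 5) (hP : (0 : Fin 5) ≠ P),
        Y ⟨(0, P), hP⟩ v = if σ P then -v else v := by
      intro P hP
      simp only [σ, dif_pos hP]
      rcases hv ⟨(0, P), hP⟩ with hh | hh
      · simp [hh, hnn]
      · simp [hh]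
    have hσ0 : σ 0 = false := by simp [σ]
    rintro ⟨⟨P, Q⟩, hPQ : P ≠ Q⟩
    by_cases hP : P = 0
    · subst hP
      rw [hσ Q hPQ]
      cases hq' : σ Q <;> simp [hσ0, hq']
    by_cases hQ : Q = 0
    · subst hQ
      have : Y ⟨(P, 0), hPQ⟩ = Y ⟨(0, P), Ne.symm hPQ⟩ := by
        simp only [Y]; rw [Xq_rot hL (n4 (Ne.symm hPQ))]
      rw [this, hσ P (Ne.symm hPQ)]
      cases hp' : σ P <;> simp [hσ0, hp']
    rw [key P Q (Ne.symm hP) (Ne.symm hQ) hPQ, hσ Q (Ne.symm hQ)]
    cases hq' : σ Q <;> cases hp' : σ P <;>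
      simp [hσ P (Ne.symm hP), hp', hq', map_neg]
  -- a two-element set inducing the same signs
  have h01 : σ 0 ≠ σ 1 := by
    intro he
    have := hY z01
    rw [if_pos he, ((hWmem v).1 hvW).1] at this
    exact hnn this.symm
  have h23 : σ 2 ≠ σ 3 := by
    intro he
    have := hY z23
    rw [if_pos he, ((hWmem v).1 hvW).2] at this
    exact hnn this.symm
  obtain ⟨T, hT2, hTσ⟩ : ∃ T : Finset (Fin 5), T.card = 2 ∧
      ∀ P Q, (σ P = σ Q) ↔ (P ∈ T ↔ Q ∈ T) := by
    revert h01 h23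
    generalize σ = f
    revert f
    decide
  let f : {T : Finset (Fin 5) // T.card = 2} → ι → k := fun T z =>
    if (z.1.1 ∈ T.1 ↔ z.1.2 ∈ T.1) then 1 else -1
  have hf : Function.Injective f := by
    intro T T' hTT
    have hne : (1 : k) ≠ -1 := fun h1 => h2 (by linear_combination h1)
    have hiff : ∀ P Q : Fin 5, ((P ∈ T.1 ↔ Q ∈ T.1) ↔ (P ∈ T'.1 ↔ Q ∈ T'.1)) := by
      intro P Q
      by_cases hPQ : P = Q
      · subst hPQ; simp
      have := congrFun hTT ⟨(P, Q), hPQ⟩
      simp only [f] at this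
      split_ifs at this with ha hb hb
      · exact iff_of_true ha hb
      · exact absurd this hne
      · exact absurd this.symm hne
      · exact iff_of_false ha hb
    obtain ⟨T, hT⟩ := T
    obtain ⟨T', hT'⟩ := T'
    simp only at hiff
    exact Subtype.ext (pair_determined T T' hT hT' hiff)
  have hcount : Fintype.card {T : Finset (Fin 5) // T.card = 2} = 10 := by
    rw [Fintype.card_finset_len, Fintype.card_fin]; decide
  rw [← hcount]
  refine card_le_finrank (X := Y) hf fun T' => ?_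
  obtain ⟨π, hπ⟩ := Equiv.Perm.exists_map_finset_eq T T'.1 (by rw [hT2, T'.2])
  -- lift `π` to an even permutation of the points
  suffices key : ∀ τ : Perm (Fin r), Perm.sign τ = 1 →
      (∀ P, (τ (q P 0) = q (π P) 0 ∧ τ (q P 1) = q (π P) 1) ∨
        (τ (q P 0) = q (π P) 1 ∧ τ (q P 1) = q (π P) 0)) → joint Y (f T') ≠ ⊥ by
    obtain ⟨τ, hτ⟩ := Equiv.Perm.exists_extending_pair (fun z : Fin 5 × Fin 2 => q z.1 z.2)
      (fun z => q (π z.1) z.2) hq (fun z z' hz => by
        have := @hq (π z.1, z.2) (π z'.1, z'.2) hz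
        simp only [Prod.mk.injEq, EmbeddingLike.apply_eq_iff_eq] at this
        exact Prod.ext this.1 this.2)
    rcases Int.units_eq_one_or (Perm.sign τ) with hs | hs
    · exact key τ hs fun P => Or.inl ⟨hτ (P, 0), hτ (P, 1)⟩
    · refine key (τ * swap (q 0 0) (q 0 1)) (by simp [hs, Perm.sign_swap (qne' 0)]) fun P => ?_
      by_cases hP : P = 0
      · subst hP
        right
        simp only [Perm.mul_apply, Equiv.swap_apply_left, Equiv.swap_apply_right]
        exact ⟨hτ (0, 1), hτ (0, 0)⟩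
      · left
        simp only [Perm.mul_apply,
          Equiv.swap_apply_of_ne_of_ne (qne hP _ _) (qne hP _ _)]
        exact ⟨hτ (P, 0), hτ (P, 1)⟩
  intro τ hτ hτq
  rw [Submodule.ne_bot_iff]
  refine ⟨(ρ.f τ : Module.End k V) v, mem_joint.2 ?_,
    fun h0 => hv0 (gv_injective (ρ.f τ) (by rw [h0, map_zero]))⟩
  rintro ⟨⟨P', Q'⟩, hPQ' : P' ≠ Q'⟩
  obtain ⟨P, rfl⟩ := π.surjective P'
  obtain ⟨Q, rfl⟩ := π.surjective Q'
  have hPQ : P ≠ Q := fun he => hPQ' (by rw [he])
  have hY' : Y ⟨(π P, π Q), hPQ'⟩ = (Xq ρ (τ (q P 0)) (τ (q P 1)) (τ (q Q 0)) (τ (q Q 1)) :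
      Module.End k V) := by
    simp only [Y]
    rcases hτq P with ⟨a1, a2⟩ | ⟨a1, a2⟩ <;> rcases hτq Q with ⟨b1, b2⟩ | ⟨b1, b2⟩ <;>
      rw [a1, a2, b1, b2]
    · rw [Xq_comm' hr6 hL (n4 hPQ')]
    · rw [Xq_comm hr6 hL (n4 hPQ')]
    · have hn : [q (π P) 1, q (π P) 0, q (π Q) 0, q (π Q) 1].Nodup := by
        have := nodup_four.1 (n4 hPQ'); rw [nodup_four]; tauto
      rw [Xq_comm' hr6 hL hn, Xq_comm hr6 hL (n4 hPQ')]
  rw [hY', apply_conj (n4 hPQ) hτ (ρ.lifts_f τ)]
  change (ρ.f τ : Module.End k V) (Y ⟨(P, Q), hPQ⟩ v) = _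
  rw [hY]
  have hmem : ∀ z, π z ∈ T'.1 ↔ z ∈ T := fun z => by rw [← hπ]; simp
  simp only [f, hmem, ← hTσ]
  split_ifs <;> simp

theorem exists_blocks {m : ℕ} (hm : 4 * m ≤ r) : ∃ p : Fin m → Fin 4 → Fin r,
    Function.Injective fun x : Fin m × Fin 4 => p x.1 x.2 := by
  refine ⟨fun b i => ⟨4 * b.val + i.val, by omega⟩, fun x y h => ?_⟩
  have := congrArg Fin.val h
  simp only at this
  exact Prod.ext (Fin.ext (by omega)) (Fin.ext (by omega))

theorem choose_mul_pow_gt {m s n : ℕ} (hm : 3 ≤ m) (hs : 2 ≤ s) (hsm : s ≤ m)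
    (hn : n ≤ 4 * m + 1) : n < m.choose s * 3 ^ s := by
  have h3 : ∀ m, 3 ≤ m → 4 * m + 1 < 3 ^ m := by
    intro m hm
    induction m, hm using Nat.le_induction with
    | base => norm_num
    | succ m hm ih => rw [pow_succ]; omega
  have h9 : 9 ≤ 3 ^ s := (by norm_num : (9 : ℕ) = 3 ^ 2) ▸ Nat.pow_le_pow_right (by norm_num) hs
  rcases hsm.eq_or_lt with rfl | hlt
  · rw [Nat.choose_self, one_mul]
    exact lt_of_le_of_lt hn (h3 _ hm)
  · have hc : m ≤ m.choose s := self_le_choose m s (by omega) hlt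
    nlinarith

/-- small degree: every double transposition is a reflection in a plane -/
theorem rank2_of_small [FiniteDimensional k V] (hr : 9 ≤ r) (h2 : (2 : k) ≠ 0) (hL : ρ.Lin)
    (hn : finrank k V + 2 ≤ r) : ρ.Rank2 := by
  classical
  have hr6 : 6 ≤ r := by omega
  obtain ⟨m, hm2, hm, hm'⟩ : ∃ m, 2 ≤ m ∧ 4 * m ≤ r ∧ r ≤ 4 * m + 3 :=
    ⟨r / 4, by omega, by omega, by omega⟩
  obtain ⟨p, hp⟩ := exists_blocks hm
  have B : ρ.Blocks p := ⟨hr, h2, hL, hp⟩
  -- no eigenvector meets two blocks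
  have hsupp : ∀ (v : V) (w : Fin m → Fin 4), v ≠ 0 → v ∈ joint (kl ρ p) (chi w) →
      ∀ b b', w b ≠ 0 → w b' ≠ 0 → b = b' := by
    intro v w hv hw b b' hb hb'
    by_contra hne
    set s := (Finset.univ.filter fun b => w b ≠ 0).card with hs
    have hs2 : 2 ≤ s := Finset.one_lt_card.2 ⟨b, by simp [hb], b', by simp [hb'], hne⟩
    have hsm : s ≤ m := le_trans (Finset.card_le_univ _) (by simp)
    have horb := B.orbit hv hw (by omega : 1 ≤ s) hs.symm
    by_cases hm3 : 3 ≤ m
    · exact absurd horb (not_le.2 (choose_mul_pow_gt hm3 hs2 hsm (by omega)))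
    have hme : m = 2 := by omega
    have hs' : s = 2 := by omega
    rw [hs', hme] at horb
    norm_num at horb
    have h10 : 10 ≤ finrank k V := by
      have hneg : ∀ c, w c ≠ 0 → ∃ l, kl ρ p (c, l) v = -v := by
        intro c hc
        obtain ⟨l, hl⟩ : ∃ l, w c ≠ (lab l).1 := by
          generalize w c = i
          revert i; decide
        exact ⟨l, by rw [mem_joint.1 hw (c, l), chi, if_neg (not_or.2 ⟨hc, hl⟩), neg_one_smul]⟩
      obtain ⟨l, hl⟩ := hneg b hb
      obtain ⟨l', hl'⟩ := hneg b' hb'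
      refine ten_le (by omega) h2 hL ?_ hv hl hl'
      have hnd1 := B.kl_nodup (b, l)
      have hnd2 := B.kl_nodup (b', l')
      exact List.nodup_append.2 ⟨hnd1, hnd2, fun x hx y hy hxy => by
        subst hxy
        simp only [List.mem_cons, List.not_mem_nil, or_false] at hx hy
        have hd : ∀ i j, p b i ≠ p b' j := fun i j h =>
          hne (Prod.ext_iff.1 (@B.inj (b, i) (b', j) h)).1
        rcases hx with rfl | rfl | rfl | rfl <;> rcases hy with h | h | h | h <;>
          exact hd _ _ h⟩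
    omega
  -- one plane and its two halves
  set b : Fin m := ⟨0, by omega⟩ with hb
  have h4 : [p b 0, p b 1, p b 2, p b 3].Nodup := B.nodup b (by decide)
  set W := Wq ρ (p b 0) (p b 1) (p b 2) (p b 3) with hW
  have hmemW : ∀ v, v ∈ W ↔ kl ρ p (b, 0) v = -v := fun v => mem_Wq
  set A := W ⊓ LinearMap.ker (kl ρ p (b, 1) + 1) with hA
  set A' := W ⊓ LinearMap.ker (kl ρ p (b, 2) + 1) with hA'
  have hmk : ∀ (l : Fin 3) (v : V), v ∈ LinearMap.ker (kl ρ p (b, l) + 1) ↔
      kl ρ p (b, l) v = -v := fun l v => by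
    rw [LinearMap.mem_ker, LinearMap.add_apply, Module.End.one_apply, add_eq_zero_iff_eq_neg]
  -- each half consists of joint eigenvectors of a single label
  have hlabel : ∀ (i : Fin 4) (U : Submodule k V), i ≠ 0 →
      (∀ v ∈ U, ∀ l, kl ρ p (b, l) v = (if i = (lab l).1 then (1 : k) else -1) • v) →
      (∀ x, ∀ v ∈ U, kl ρ p x v ∈ U) →
      U ≤ joint (kl ρ p) (chi (Function.update 0 b i)) := by
    intro i U hi hUb hUinv v hv
    rw [mem_joint]
    rintro ⟨c, l⟩
    by_cases hc : c = b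
    · subst hc
      rw [hUb v hv l]
      simp [chi, hi]
    · simp only [chi, Function.update_of_ne hc, Pi.zero_apply, true_or, if_true, one_smul]
      by_contra hne
      set W' := U ⊓ LinearMap.ker (kl ρ p (c, l) + 1) with hW'
      have hW'0 : W' ≠ ⊥ := by
        rw [Submodule.ne_bot_iff]
        refine ⟨v - kl ρ p (c, l) v, ⟨sub_mem hv (hUinv _ v hv), ?_⟩, sub_ne_zero.2 (Ne.symm hne)⟩
        rw [SetLike.mem_coe, LinearMap.mem_ker, LinearMap.add_apply, Module.End.one_apply,
          map_sub, B.kl_sq]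
        abel
      obtain ⟨u, hu, w, hu0, huw⟩ := B.exists_eig W' hW'0 (fun x u hu => ⟨hUinv x u hu.1, by
        have h1 : kl ρ p (c, l) u + u = 0 := hu.2
        rw [SetLike.mem_coe, LinearMap.mem_ker, LinearMap.add_apply, Module.End.one_apply,
          B.kl_comm, ← map_add, h1, map_zero]⟩)
      have hne1 : ∀ (a : k), a • u = -u → a ≠ 1 := by
        rintro a ha rfl
        exact hu0 (neg_ne_self h2 (by simpa using ha))
      have e1 : w c ≠ 0 := by
        intro h0
        have := mem_joint.1 huw (c, l)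
        rw [chi, if_pos (Or.inl h0), show kl ρ p (c, l) u = -u from
          add_eq_zero_iff_eq_neg.1 hu.2] at this
        exact hne1 1 this.symm rfl
      have e2 : w b ≠ 0 := by
        intro h0
        obtain ⟨l', hl'⟩ := lab_other i
        have := mem_joint.1 huw (b, l')
        rw [chi, if_pos (Or.inl h0), hUb u hu.1 l', if_neg hl', neg_one_smul] at this
        exact hne1 1 this.symm rfl
      exact hc (hsupp u w hu0 huw c b e1 e2)
  have hinv : ∀ (l : Fin 3) (x : Fin m × Fin 3), ∀ v,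
      v ∈ W ⊓ LinearMap.ker (kl ρ p (b, l) + 1) →
      kl ρ p x v ∈ W ⊓ LinearMap.ker (kl ρ p (b, l) + 1) := by
    intro l x v hv
    refine ⟨(hmemW _).2 ?_, (hmk l _).2 ?_⟩
    · rw [B.kl_comm, (hmemW v).1 hv.1, map_neg]
    · rw [B.kl_comm, (hmk l v).1 hv.2, map_neg]
  have hAle : A ≤ joint (kl ρ p) (chi (Function.update 0 b 3)) := by
    refine hlabel 3 A (by decide) (fun v hv l => ?_) (fun x v hv => hinv 1 x v hv)
    have h0 := (hmemW v).1 hv.1
    have h1 := (hmk 1 v).1 hv.2
    have h2' : kl ρ p (b, 2) v = v := by rw [← B.kl_prod, h1, map_neg, h0, neg_neg]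
    fin_cases l <;> simp [lab, h0, h1, h2']
  have hhalf : ∀ v ∈ W, v = (2⁻¹ : k) • (v - kl ρ p (b, 1) v) + (2⁻¹ : k) • (v + kl ρ p (b, 1) v) := by
    intro v _
    rw [← smul_add, show v - kl ρ p (b, 1) v + (v + kl ρ p (b, 1) v) = (2 : k) • v by
      rw [two_smul]; abel, smul_smul, inv_mul_cancel₀ h2, one_smul]
  have hsup : A ⊔ A' = W := by
    refine le_antisymm (sup_le inf_le_left inf_le_left) fun v hv => ?_
    have hv1 : kl ρ p (b, 1) v ∈ W := (hmemW _).2 (by rw [B.kl_comm, (hmemW v).1 hv, map_neg])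
    rw [hhalf v hv]
    refine Submodule.add_mem_sup (Submodule.smul_mem _ _ ⟨sub_mem hv hv1, ?_⟩)
      (Submodule.smul_mem _ _ ⟨add_mem hv hv1, ?_⟩)
    · exact (hmk 1 _).2 (by rw [map_sub, B.kl_sq]; abel)
    · refine (hmk 2 _).2 ?_
      rw [← B.kl_prod, map_add, B.kl_sq, map_add, (hmemW _).1 hv1, (hmemW v).1 hv]
      abel
  have hinf : A ⊓ A' = ⊥ := by
    rw [eq_bot_iff]
    intro v hv
    have h0 := (hmemW v).1 hv.1.1
    have h1 := (hmk 1 v).1 hv.1.2
    have h2' := (hmk 2 v).1 hv.2.2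
    rw [← B.kl_prod, h1, map_neg, h0, neg_neg] at h2'
    simpa using neg_ne_self h2 h2'
  -- a lift exchanging the two halves
  set G := Xq ρ (p b 0) (p b 1) (p b 2) (p b 3) with hG
  obtain ⟨x, y, hxy, hx, hy⟩ := exists_avoid2 [p b 0, p b 1, p b 2, p b 3] (by simp; omega)
  have hq : [p b 2, p b 3, x, y].Nodup := by
    simp only [List.nodup_cons, List.mem_cons, List.not_mem_nil, or_false, not_or,
      List.nodup_nil, and_true, not_false_eq_true] at h4 hx hy ⊢
    grind only
  have dq := dt_apply hq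
  have f0 : dt (p b 2) (p b 3) x y (p b 0) = p b 0 := by
    simp only [List.nodup_cons, List.mem_cons, List.not_mem_nil, or_false, not_or] at h4 hx hy
    exact dt_apply_of_ne (by grind) (by grind) (by grind) (by grind)
  have f1 : dt (p b 2) (p b 3) x y (p b 1) = p b 1 := by
    simp only [List.nodup_cons, List.mem_cons, List.not_mem_nil, or_false, not_or] at h4 hx hy
    exact dt_apply_of_ne (by grind) (by grind) (by grind) (by grind)
  set Q := (Xq ρ (p b 2) (p b 3) x y : Module.End k V) with hQ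
  have hQ0 : ∀ v, kl ρ p (b, 0) (Q v) = Q (kl ρ p (b, 0) v) := by
    intro v
    have := apply_conj h4 (sign_dt' hq) (lifts_Xq (ρ := ρ) hq) v
    rw [f0, f1, dq.1, dq.2.1, Xq_comm' hr6 hL h4] at this
    exact this
  have hQ1 : ∀ v, kl ρ p (b, 2) (Q v) = Q (kl ρ p (b, 1) v) := by
    intro v
    have h4' : [p b 0, p b 2, p b 1, p b 3].Nodup := B.nodup b (by decide)
    have := apply_conj h4' (sign_dt' hq) (lifts_Xq (ρ := ρ) hq) v
    rw [f0, f1, dq.1, dq.2.1] at this
    exact this
  have hQ2 : ∀ v, kl ρ p (b, 1) (Q v) = Q (kl ρ p (b, 2) v) := by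
    intro v
    have hQQ : ∀ u, Q (Q u) = u := Xq_sq_apply hL hq
    have h' := congrArg Q (hQ1 (Q v))
    simp only [hQQ] at h'
    exact h'.symm
  have hle1 : finrank k A ≤ finrank k A' := by
    refine LinearMap.finrank_le_finrank_of_injective (f := Q.restrict fun v (hv : v ∈ A) =>
      (⟨(hmemW _).2 (by rw [hQ0, (hmemW v).1 hv.1, map_neg]),
        (hmk 2 _).2 (by rw [hQ1, (hmk 1 v).1 hv.2, map_neg])⟩ : Q v ∈ A')) ?_
    intro u u' huu
    exact Subtype.ext (gv_injective (Xq ρ (p b 2) (p b 3) x y) (congrArg Subtype.val huu :))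
  have hle2 : finrank k A' ≤ finrank k A := by
    refine LinearMap.finrank_le_finrank_of_injective (f := Q.restrict fun v (hv : v ∈ A') =>
      (⟨(hmemW _).2 (by rw [hQ0, (hmemW v).1 hv.1, map_neg]),
        (hmk 1 _).2 (by rw [hQ2, (hmk 2 v).1 hv.2, map_neg])⟩ : Q v ∈ A)) ?_
    intro u u' huu
    exact Subtype.ext (gv_injective (Xq ρ (p b 2) (p b 3) x y) (congrArg Subtype.val huu :))
  have hdim := Submodule.finrank_sup_add_finrank_inf_eq A A'
  rw [hsup, hinf, finrank_bot] at hdim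
  -- count
  have hcount : 3 * m * finrank k A ≤ finrank k V := by
    let f : Fin m × Fin 3 → Fin m → Fin 4 := fun z => Function.update 0 z.1 (lab z.2).1
    have hlab0 : ∀ l, (lab l).1 ≠ 0 := by decide
    have hlabinj : ∀ l l', (lab l).1 = (lab l').1 → l = l' := by decide
    have hf : Function.Injective f := by
      intro z z' hzz
      have h1 := congrFun hzz z.1
      simp only [f, Function.update_self] at h1
      have hz1 : z.1 = z'.1 := by
        by_contra hne
        rw [Function.update_of_ne hne, Pi.zero_apply] at h1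
        exact hlab0 _ h1
      rw [← hz1, Function.update_self] at h1
      exact Prod.ext hz1 (hlabinj _ _ h1)
    have hmove : ∀ z : Fin m × Fin 3, ∃ G : GV k V,
        A.map (G : Module.End k V) ≤ joint (kl ρ p) (chi (f z)) := by
      intro z
      obtain ⟨G, w', hw', hG⟩ := B.move (swap b z.1)
        (fun c => if c = b then swap 3 (lab z.2).1 else 1)
        (fun c => by
          split_ifs
          · exact Equiv.swap_apply_of_ne_of_ne (by decide) (hlab0 z.2).symm
          · rfl)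
        (w := Function.update 0 b 3) b
      have : w' = f z := by
        funext c'
        obtain ⟨c, rfl⟩ := (swap b z.1).surjective c'
        rw [hw']
        by_cases hc : c = b
        · subst hc; simp [f]
        · have hne : swap b z.1 c ≠ z.1 := fun he => hc (by
            have := congrArg (swap b z.1) he
            rwa [Equiv.swap_apply_self, Equiv.swap_apply_right] at this)
          simp [f, hc, Function.update_of_ne hne]
      refine ⟨G, ?_⟩
      rintro _ ⟨v, hv, rfl⟩
      exact this ▸ hG v (hAle hv)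
    choose Gz hGz using hmove
    have := mul_card_le_finrank (X := kl ρ p) ((chi_injective h2).comp hf) (finrank k A)
      (fun z => A.map (Gz z : Module.End k V)) hGz
      (fun z => le_of_eq (Submodule.equivMapOfInjective (Gz z : Module.End k V)
        (gv_injective (Gz z)) A).finrank_eq)
    simp only [Fintype.card_prod, Fintype.card_fin] at this
    nlinarith
  have hA1 : finrank k A ≤ 1 := by
    by_contra hh
    have h6 : 3 * m * 2 ≤ 3 * m * finrank k A := Nat.mul_le_mul_left _ (by omega)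
    omega
  have hA0 : W ≠ ⊥ := by
    intro h0
    refine (lifts_Xq (ρ := ρ) h4).not_scalar (sign_dt' h4) (dt_ne_one h4) 1 ?_
    apply Units.ext
    apply LinearMap.ext
    intro v
    have hmem : v - kl ρ p (b, 0) v ∈ W := (hmemW _).2 (by rw [map_sub, B.kl_sq]; abel)
    rw [h0, Submodule.mem_bot, sub_eq_zero] at hmem
    rw [sc_apply, Units.val_one, one_smul]
    exact hmem.symm
  have hW2 : finrank k W = 2 := by
    have := Submodule.one_le_finrank_iff.2 hA0
    omega
  intro a' b' c' d' h'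
  obtain ⟨σ, hσ, hm4⟩ := exists_even_map ![p b 0, p b 1, p b 2, p b 3] ![a', b', c', d']
    (by rw [← List.nodup_ofFn]; simpa [List.ofFn_succ] using h4)
    (by rw [← List.nodup_ofFn]; simpa [List.ofFn_succ] using h') (by omega)
  have e : W.map (ρ.f σ : Module.End k V) = Wq ρ a' b' c' d' := by
    have ea : σ (p b 0) = a' := hm4 0
    have eb : σ (p b 1) = b' := hm4 1
    have ec : σ (p b 2) = c' := hm4 2
    have ed : σ (p b 3) = d' := hm4 3
    refine le_antisymm ?_ fun v hv => ?_
    · rintro _ ⟨v, hv, rfl⟩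
      have := Wq_conj h4 hσ (ρ.lifts_f σ) hv
      rwa [ea, eb, ec, ed] at this
    · refine ⟨((ρ.f σ)⁻¹ : GV k V).val v, ?_, by
        rw [← gv_mul_apply, mul_inv_cancel, Units.val_one, Module.End.one_apply]⟩
      have := Wq_conj h' (show Perm.sign σ⁻¹ = 1 by simp [hσ]) ((ρ.lifts_f σ).inv hσ) hv
      simpa [← ea, ← eb, ← ec, ← ed] using this
  rw [← e, ← (Submodule.equivMapOfInjective (ρ.f σ : Module.End k V) (gv_injective _) W).finrank_eq,
    hW2]

/-- the degree bound when four-groups lift to abelian groups -/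
theorem lin_bound [FiniteDimensional k V] (hr : 9 ≤ r) (h2 : (2 : k) ≠ 0) (hL : ρ.Lin) :
    r - 2 ≤ finrank k V ∧ ((r : k) ≠ 0 → r - 1 ≤ finrank k V) := by
  by_cases hn : finrank k V + 2 ≤ r
  · exact Refl.bound ⟨hr, h2, hL, rank2_of_small hr h2 hL hn⟩
  · exact ⟨by omega, fun _ => by omega⟩

end PRep

end Cfsg.Agent.AltSec
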