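import Cfsg.Agent.AltSec.Spin

/-! Reduction of alternating sections of linear groups to projective representations. -/

namespace Cfsg.Agent.AltSec

open Module
open scoped commutatorElement

local notation:10000 n "!" => Nat.factorial n

/-- the asserted bound -/
def Bd (k : Type) [Field k] (n r : ℕ) : Prop := r - 2 ≤ n ∧ ((r : k) ≠ 0 → r - 1 ≤ n)

theorem Bd.mono {k : Type} [Field k] {m n r : ℕ} (h : Bd k m r) (hmn : m ≤ n) : Bd k n r :=
  ⟨h.1.trans hmn, fun hr => (h.2 hr).trans hmn⟩

theorem Bd.of_le {k : Type} [Field k] {n r : ℕ} (h : r - 1 ≤ n) : Bd k n r :=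
  ⟨by omega, fun _ => h⟩

section Alt

variable {r : ℕ}

theorem alt_noncomm (hr : 9 ≤ r) :
    ∃ a b : alternatingGroup (Fin r), a * b ≠ b * a := by
  have h1 : [(⟨0, by omega⟩ : Fin r), ⟨1, by omega⟩, ⟨2, by omega⟩].Nodup := by
    simp [List.nodup_cons]
  have h2 : [(⟨1, by omega⟩ : Fin r), ⟨2, by omega⟩, ⟨3, by omega⟩].Nodup := by
    simp [List.nodup_cons]
  refine ⟨⟨_, sign_tc' h1⟩, ⟨_, sign_tc' h2⟩, fun h => ?_⟩
  have := congrArg (fun s : alternatingGroup (Fin r) =>
    (s : Equiv.Perm (Fin r)) ⟨3, by omega⟩) h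
  simp [tc, Equiv.swap_apply_def, Fin.ext_iff] at this

theorem alt_simple (hr : 9 ≤ r) : IsSimpleGroup (alternatingGroup (Fin r)) :=
  alternatingGroup.isSimpleGroup (by simp; omega)

theorem alt_center (hr : 9 ≤ r) {a : alternatingGroup (Fin r)} (h : ∀ b, b * a = a * b) :
    a = 1 := by
  haveI := alt_simple hr
  have ha : a ∈ Subgroup.center (alternatingGroup (Fin r)) := Subgroup.mem_center_iff.2 h
  rcases IsSimpleGroup.eq_bot_or_eq_top_of_normal
    (Subgroup.center (alternatingGroup (Fin r))) inferInstance with h' | h'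
  · rwa [h', Subgroup.mem_bot] at ha
  · obtain ⟨x, y, hxy⟩ := alt_noncomm hr
    exact absurd (Subgroup.mem_center_iff.1 (h' ▸ Subgroup.mem_top y) x) hxy

theorem alt_card_gt (hr : 9 ≤ r) {m : ℕ} (hm : m + 1 ≤ r) :
    m ! < Nat.card (alternatingGroup (Fin r)) := by
  have h2 : 2 * Nat.card (alternatingGroup (Fin r)) = r ! := by
    haveI : Nontrivial (Fin r) := Fin.nontrivial_iff_two_le.2 (by omega)
    rw [two_mul_nat_card_alternatingGroup, Nat.card_perm, Nat.card_fin]
  have h3 : m ! ≤ (r - 1) ! := Nat.factorial_le (by omega)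
  have h4 : r * (r - 1) ! = r ! := Nat.mul_factorial_pred (by omega)
  have h5 : 0 < (r - 1) ! := Nat.factorial_pos _
  nlinarith

theorem alt_card_ge (hr : 9 ≤ r) : 181440 ≤ Nat.card (alternatingGroup (Fin r)) := by
  have h2 : 2 * Nat.card (alternatingGroup (Fin r)) = r ! := by
    haveI : Nontrivial (Fin r) := Fin.nontrivial_iff_two_le.2 (by omega)
    rw [two_mul_nat_card_alternatingGroup, Nat.card_perm, Nat.card_fin]
  have h3 : 9 ! ≤ r ! := Nat.factorial_le hr
  have h9 : (9 : ℕ) ! = 362880 := by decide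
  omega

end Alt

variable {k V : Type} [Field k] [AddCommGroup V] [Module k V] {r : ℕ}

/-- a surjection factors through the image of a homomorphism with smaller kernel -/
theorem exists_factor {G M A : Type*} [Group G] [Group M] [Group A] (f : G →* M) (φ : G →* A)
    (hφ : Function.Surjective φ) (h : f.ker ≤ φ.ker) :
    ∃ ψ : f.range →* A, Function.Surjective ψ := by
  refine ⟨(f.rangeRestrict).liftOfSurjective f.rangeRestrict_surjective
    ⟨φ, by rwa [MonoidHom.ker_rangeRestrict]⟩, ?_⟩
  intro a
  obtain ⟨g, rfl⟩ := hφ a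
  exact ⟨f.rangeRestrict g, MonoidHom.liftOfRightInverse_comp_apply _ _ _ _ _⟩

/-- commuting operators have a common eigenvector -/
theorem exists_common [IsAlgClosed k] [FiniteDimensional k V] {ι : Type*} (X : ι → Module.End k V)
    (hc : ∀ i j v, X i (X j v) = X j (X i v)) (l : List ι) (W : Submodule k V) (hW : W ≠ ⊥)
    (hinv : ∀ i, ∀ v ∈ W, X i v ∈ W) :
    ∃ v ∈ W, v ≠ 0 ∧ ∀ i ∈ l, ∃ c : k, X i v = c • v := by
  induction l generalizing W with
  | nil =>
    obtain ⟨v, hv, hv0⟩ := (Submodule.ne_bot_iff W).1 hW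
    exact ⟨v, hv, hv0, by simp⟩
  | cons a l ih =>
    haveI : Nontrivial W := Submodule.nontrivial_iff_ne_bot.2 hW
    obtain ⟨μ, hμ⟩ := Module.End.exists_eigenvalue ((X a).restrict (hinv a))
    obtain ⟨⟨v0, hv0W⟩, hv0, hne⟩ :=
      (Submodule.ne_bot_iff _).1 (Module.End.hasEigenvalue_iff.1 hμ)
    have hXv : X a v0 = μ • v0 := congrArg Subtype.val (Module.End.mem_eigenspace_iff.1 hv0)
    obtain ⟨v, hv, hv', hl⟩ := ih (W ⊓ Module.End.eigenspace (X a) μ)
      ((Submodule.ne_bot_iff _).2 ⟨v0, ⟨hv0W, Module.End.mem_eigenspace_iff.2 hXv⟩,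
        fun h => hne (Subtype.ext h)⟩)
      (fun i u hu => ⟨hinv i u hu.1, Module.End.mem_eigenspace_iff.2 (by
        rw [hc, Module.End.mem_eigenspace_iff.1 hu.2, map_smul])⟩)
    refine ⟨v, hv.1, hv', fun i hi => ?_⟩
    rcases List.mem_cons.1 hi with rfl | hi
    · exact ⟨μ, Module.End.mem_eigenspace_iff.1 hv.2⟩
    · exact hl i hi

/-- restriction of a group to an invariant subspace -/
noncomputable def resHom (H : Subgroup (GV k V)) (W : Submodule k V)
    (hW : ∀ g ∈ H, ∀ v ∈ W, (g : Module.End k V) v ∈ W) : H →* GV k W :=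
  MonoidHom.toHomUnits
    { toFun := fun g => ((g : GV k V) : Module.End k V).restrict (hW g g.2)
      map_one' := by ext; rfl
      map_mul' := fun a b => by ext; rfl }

/-- the action on the quotient by an invariant subspace -/
noncomputable def quoHom (H : Subgroup (GV k V)) (W : Submodule k V)
    (hW : ∀ g ∈ H, ∀ v ∈ W, (g : Module.End k V) v ∈ W) : H →* GV k (V ⧸ W) :=
  MonoidHom.toHomUnits
    { toFun := fun g => W.mapQ W ((g : GV k V) : Module.End k V) (fun v hv => hW g g.2 v hv)
      map_one' := by ext; rfl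
      map_mul' := fun a b => by ext; rfl }

/-- an action on a finite commutative group of prime exponent as a linear representation over
the algebraic closure of the prime field -/
theorem endo_data {G W : Type} [Group G] [CommGroup W] [Finite W] {q : ℕ} [Fact q.Prime]
    (hexp : ∀ a : W, a ^ q = 1) (act : G → W →* W) (h1 : ∀ x, act 1 x = x)
    (h2 : ∀ g g' x, act (g * g') x = act g (act g' x)) :
    ∃ (d : ℕ) (f : G →* GV (AlgebraicClosure (ZMod q)) (Fin d → AlgebraicClosure (ZMod q))),
      Nat.card W = q ^ d ∧ (∀ g, f g = 1 → ∀ x, act g x = x) ∧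
        Nat.card f.range ≤ (q ^ d) ^ d := by
  classical
  have hexpA : ∀ a : Additive W, q • a = 0 := fun a => by
    apply Additive.toMul.injective
    rw [toMul_nsmul, toMul_zero]
    exact hexp _
  haveI : Module (ZMod q) (Additive W) := AddCommGroup.zmodModule hexpA
  haveI : Finite (Additive W) := inferInstanceAs (Finite W)
  haveI : Finite (Module.End (ZMod q) (Additive W)) :=
    Finite.of_injective (DFunLike.coe : Module.End (ZMod q) (Additive W) → Additive W → Additive W)
      DFunLike.coe_injective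
  set d := finrank (ZMod q) (Additive W) with hd
  let K := AlgebraicClosure (ZMod q)
  let b := Module.finBasis (ZMod q) (Additive W)
  let toK : Module.End (ZMod q) (Additive W) →* Module.End K (Fin d → K) :=
    (Matrix.toLinAlgEquiv' (R := K) (n := Fin d)).toAlgHom.toRingHom.toMonoidHom.comp
      (((algebraMap (ZMod q) K).mapMatrix.toMonoidHom).comp
        (LinearMap.toMatrixAlgEquiv b).toAlgHom.toRingHom.toMonoidHom)
  have hinj : Function.Injective toK :=
    (Matrix.toLinAlgEquiv' (R := K) (n := Fin d)).injective.comp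
      ((Matrix.map_injective (algebraMap (ZMod q) K).injective).comp (LinearMap.toMatrixAlgEquiv b).injective)
  let endo : G →* Module.End (ZMod q) (Additive W) :=
    { toFun := fun g => (MonoidHom.toAdditive (act g)).toZModLinearMap q
      map_one' := LinearMap.ext fun a => congrArg Additive.ofMul (h1 a.toMul)
      map_mul' := fun g g' => LinearMap.ext fun a => congrArg Additive.ofMul (h2 g g' a.toMul) }
  refine ⟨d, (Units.map toK).comp endo.toHomUnits, ?_, fun g hg x => ?_, ?_⟩
  · rw [hd, ← Nat.card_congr (Additive.toMul : Additive W ≃ W),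
      Module.natCard_eq_pow_finrank (K := ZMod q), Nat.card_zmod]
  · have : endo.toHomUnits g = 1 := Units.map_injective hinj (hg.trans (map_one _).symm)
    exact congrArg (fun e : (Module.End (ZMod q) (Additive W))ˣ =>
      Additive.toMul ((e : Module.End (ZMod q) (Additive W)) (Additive.ofMul x))) this
  · have h3 : Nat.card (Module.End (ZMod q) (Additive W)) = (q ^ d) ^ d := by
      rw [Module.natCard_eq_pow_finrank (K := ZMod q), Nat.card_zmod, Module.finrank_linearMap,
        ← hd, pow_mul]
    rw [← h3]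
    have hsub : ∀ e : ((Units.map toK).comp endo.toHomUnits).range, ∃ g,
        (Units.map toK).comp endo.toHomUnits g = e.1 := fun e => e.2
    choose pre hpre using hsub
    refine Nat.card_le_card_of_injective (fun e => endo (pre e)) fun e e' hee => ?_
    apply Subtype.ext
    rw [← hpre e, ← hpre e']
    exact congrArg (Units.map toK) (Units.ext hee)

variable [IsAlgClosed k] [FiniteDimensional k V]

/-- scalar elements of a linear group -/
noncomputable def scalars (H : Subgroup (GV k V)) : Subgroup H :=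
  ((sc : kˣ →* GV k V).range).comap H.subtype

theorem mem_scalars {H : Subgroup (GV k V)} {g : H} :
    g ∈ scalars H ↔ ∃ c : kˣ, sc c = (g : GV k V) := Iff.rfl

theorem scalars_comm {H : Subgroup (GV k V)} {g : H} (hg : g ∈ scalars H) (h : H) :
    h * g = g * h := by
  obtain ⟨c, hc⟩ := mem_scalars.1 hg
  apply Subtype.ext
  rw [Subgroup.coe_mul, Subgroup.coe_mul, ← hc, sc_comm]

instance scalars_normal (H : Subgroup (GV k V)) : (scalars H).Normal :=
  ⟨fun a ha g => by rw [scalars_comm ha, mul_inv_cancel_right]; exact ha⟩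

/-- no proper subgroup covers the quotient -/
def Minimal' {G A : Type*} [Group G] [Group A] (φ : G →* A) : Prop :=
  ∀ M : Subgroup G, M.map φ = ⊤ → M = ⊤

/-- the setting of the induction step -/
structure Ctx (H : Subgroup (GV k V)) (φ : H →* alternatingGroup (Fin r)) : Prop where
  nine : 9 ≤ r
  surj : Function.Surjective φ
  minimal : Minimal' φ
  fin : Finite H
  irr : ∀ W : Submodule k V, (∀ g ∈ H, ∀ v ∈ W, (g : Module.End k V) v ∈ W) → W = ⊥ ∨ W = ⊤

variable {H : Subgroup (GV k V)} {φ : H →* alternatingGroup (Fin r)}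

theorem Ctx.dichotomy (C : Ctx H φ) (K : Subgroup H) [K.Normal] : K ≤ φ.ker ∨ K = ⊤ := by
  haveI := alt_simple C.nine
  rcases IsSimpleGroup.eq_bot_or_eq_top_of_normal (K.map φ)
    (Subgroup.Normal.map inferInstance φ C.surj) with h | h
  · exact Or.inl fun x hx => MonoidHom.mem_ker.2 (by
      have := Subgroup.mem_map_of_mem φ hx
      rwa [h, Subgroup.mem_bot] at this)
  · exact Or.inr (C.minimal K h)

theorem Ctx.not_top (C : Ctx H φ) {K : Subgroup H} (h : K ≤ φ.ker) : K ≠ ⊤ := by
  rintro rfl
  obtain ⟨a, b, hab⟩ := alt_noncomm C.nine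
  obtain ⟨x, rfl⟩ := C.surj a
  exact hab (by rw [MonoidHom.mem_ker.1 (h (Subgroup.mem_top x))]; simp)

theorem Ctx.nontrivial (C : Ctx H φ) : Nontrivial V := by
  by_contra h
  rw [not_nontrivial_iff_subsingleton] at h
  refine C.not_top (K := ⊤) (fun x _ => MonoidHom.mem_ker.2 ?_) rfl
  have : x = 1 := Subtype.ext (Units.ext (LinearMap.ext fun v => Subsingleton.elim _ _))
  rw [this, map_one]

theorem Ctx.cent_scalar (C : Ctx H φ) {g : H} (h : ∀ x, x * g = g * x) : g ∈ scalars H := by
  haveI := C.nontrivial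
  obtain ⟨μ, hμ⟩ := Module.End.exists_eigenvalue ((g : GV k V) : Module.End k V)
  rw [Module.End.hasEigenvalue_iff] at hμ
  have hinv : ∀ x ∈ H, ∀ v ∈ Module.End.eigenspace ((g : GV k V) : Module.End k V) μ,
      (x : Module.End k V) v ∈ Module.End.eigenspace ((g : GV k V) : Module.End k V) μ := by
    intro x hx v hv
    rw [Module.End.mem_eigenspace_iff] at hv ⊢
    have e : x * (g : GV k V) = g * x := congrArg Subtype.val (h ⟨x, hx⟩)
    rw [← gv_mul_apply, ← e, gv_mul_apply, hv, map_smul]
  have htop := (C.irr _ hinv).resolve_left hμ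
  have hμ0 : μ ≠ 0 := by
    rintro rfl
    obtain ⟨v, hv, hv0⟩ := (Submodule.ne_bot_iff _).1 hμ
    rw [Module.End.mem_eigenspace_iff, zero_smul] at hv
    exact hv0 (gv_injective _ (by rw [hv, map_zero]))
  refine mem_scalars.2 ⟨Units.mk0 μ hμ0, Units.ext (LinearMap.ext fun v => ?_)⟩
  have hv : v ∈ Module.End.eigenspace ((g : GV k V) : Module.End k V) μ :=
    htop ▸ Submodule.mem_top
  rw [Module.End.mem_eigenspace_iff.1 hv, sc_apply, Units.val_mk0]

theorem Ctx.bound_central (C : Ctx H φ) (hN : φ.ker ≤ scalars H) : Bd k (finrank k V) r := by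
  classical
  have hsur : ∀ σ : Equiv.Perm (Fin r), Equiv.Perm.sign σ = 1 → ∃ g : H,
      (φ g : Equiv.Perm (Fin r)) = σ := fun σ hσ => by
    obtain ⟨g, hg⟩ := C.surj ⟨σ, hσ⟩
    exact ⟨g, by rw [hg]⟩
  choose pre hpre using hsur
  let ρ : PRep k V r :=
    { f := fun σ => if h : Equiv.Perm.sign σ = 1 then (pre σ h : GV k V) else 1
      mul := by
        intro σ τ hσ hτ
        have hστ : Equiv.Perm.sign (σ * τ) = 1 := by simp [hσ, hτ]
        simp only [dif_pos hσ, dif_pos hτ, dif_pos hστ]
        have hmem : pre σ hσ * pre τ hτ * (pre (σ * τ) hστ)⁻¹ ∈ φ.ker := by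
          rw [MonoidHom.mem_ker, map_mul, map_mul, map_inv, mul_inv_eq_one]
          apply Subtype.ext
          rw [Subgroup.coe_mul, hpre, hpre, hpre]
        obtain ⟨c, hc⟩ := mem_scalars.1 (hN hmem)
        refine ⟨c, ?_⟩
        rw [hc, Subgroup.coe_mul, Subgroup.coe_mul, Subgroup.coe_inv]
        group
      faithful := by
        intro σ hσ ⟨c, hc⟩
        rw [dif_pos hσ] at hc
        have hs : pre σ hσ ∈ scalars H := mem_scalars.2 ⟨c, hc.symm⟩
        have := alt_center C.nine (a := φ (pre σ hσ)) fun b => by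
          obtain ⟨x, rfl⟩ := C.surj b
          rw [← map_mul, ← map_mul, scalars_comm hs]
        rw [← hpre σ hσ, this, Subgroup.coe_one]
      nt := C.nontrivial }
  exact PRep.proj_bound ρ C.nine

theorem Ctx.bound_abelian (C : Ctx H φ) (A : Subgroup H) [A.Normal]
    (hA : ∀ a ∈ A, ∀ b ∈ A, a * b = b * a) (hne : ¬A ≤ scalars H) : r - 1 ≤ finrank k V := by
  classical
  haveI := C.nontrivial
  haveI := C.fin
  haveI : Fintype A := Fintype.ofFinite A
  let X : A → Module.End k V := fun a => (((a : H) : GV k V) : Module.End k V)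
  have hc : ∀ a b v, X a (X b v) = X b (X a v) := by
    intro a b v
    simp only [X]
    rw [← gv_mul_apply, ← gv_mul_apply, ← Subgroup.coe_mul H, ← Subgroup.coe_mul H,
      hA a a.2 b b.2]
  obtain ⟨v, -, hv0, hv⟩ := exists_common X hc (Finset.univ : Finset A).toList ⊤ top_ne_bot
    (fun _ _ _ => trivial)
  choose χ0 hχ0 using fun a => hv a (Finset.mem_toList.2 (Finset.mem_univ a))
  let Ω : Set (A → k) := {χ | joint X χ ≠ ⊥}
  have h0 : χ0 ∈ Ω := (Submodule.ne_bot_iff _).2 ⟨v, mem_joint.2 hχ0, hv0⟩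
  have hcardΩ : ∀ s : Finset (A → k), (∀ χ ∈ s, χ ∈ Ω) → s.card ≤ finrank k V := by
    intro s hs
    rw [← Fintype.card_coe]
    exact card_le_finrank (f := fun χ : {x // x ∈ s} => χ.1) Subtype.val_injective
      (fun χ => hs χ.1 χ.2)
  have hfin : Ω.Finite := by
    by_contra hinf
    obtain ⟨s, hs, hcard⟩ := Set.Infinite.exists_subset_card_eq hinf (finrank k V + 1)
    have := hcardΩ s (fun χ hχ => hs hχ)
    omega
  haveI : Fintype Ω := hfin.fintype
  -- conjugation of weights
  let cj : H → (A → k) → A → k := fun g χ a =>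
    χ ⟨g⁻¹ * (a : H) * g, by
      have := Subgroup.Normal.conj_mem inferInstance (a : H) a.2 g⁻¹
      rwa [inv_inv] at this⟩
  have hmove : ∀ (g : H) (χ : A → k), ∀ u ∈ joint X χ,
      ((g : GV k V) : Module.End k V) u ∈ joint X (cj g χ) := by
    intro g χ u hu
    rw [mem_joint] at hu ⊢
    intro a
    have h := hu ⟨g⁻¹ * (a : H) * g, by
      have := Subgroup.Normal.conj_mem inferInstance (a : H) a.2 g⁻¹
      rwa [inv_inv] at this⟩
    simp only [X] at h ⊢
    have e : ((a : H) : GV k V) * (g : GV k V) =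
        (g : GV k V) * ((g⁻¹ * (a : H) * g : H) : GV k V) := by
      rw [← Subgroup.coe_mul, ← Subgroup.coe_mul]
      congr 1
      group
    rw [← gv_mul_apply, e, gv_mul_apply, h, map_smul]
  have hΩ : ∀ g χ, χ ∈ Ω → cj g χ ∈ Ω := by
    intro g χ hχ
    obtain ⟨u, hu, hu0⟩ := (Submodule.ne_bot_iff _).1 (hχ : joint X χ ≠ ⊥)
    exact (Submodule.ne_bot_iff _).2
      ⟨_, hmove g χ u hu, fun h => hu0 (gv_injective _ (by rw [h, map_zero]))⟩
  letI act : MulAction H Ω :=
    { smul := fun g χ => ⟨cj g χ.1, hΩ g χ.1 χ.2⟩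
      one_smul := fun χ => Subtype.ext (funext fun a => by
        change cj 1 χ.1 a = χ.1 a
        simp [cj])
      mul_smul := fun g g' χ => Subtype.ext (funext fun a => by
        change cj (g * g') χ.1 a = cj g (cj g' χ.1) a
        simp only [cj]
        congr 1) }
  rcases C.dichotomy (MulAction.toPermHom H Ω).ker with hle | htop
  · by_contra hlt
    obtain ⟨ψ, hψ⟩ := exists_factor (MulAction.toPermHom H Ω) φ C.surj hle
    have h1 := Nat.card_le_card_of_surjective ψ hψ
    have h2 := Subgroup.card_le_card_group (MulAction.toPermHom H Ω).range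
    rw [Nat.card_perm, Nat.card_eq_fintype_card (α := Ω)] at h2
    have hm : Fintype.card Ω ≤ finrank k V := by
      have := hcardΩ hfin.toFinset (fun χ hχ => hfin.mem_toFinset.1 hχ)
      rwa [Set.Finite.card_toFinset] at this
    have := alt_card_gt C.nine (m := Fintype.card Ω) (by omega)
    omega
  · exfalso
    have hinv : ∀ x ∈ H, ∀ u ∈ joint X χ0, (x : Module.End k V) u ∈ joint X χ0 := by
      intro x hx u hu
      have h1 : (⟨x, hx⟩ : H) ∈ (MulAction.toPermHom H Ω).ker := htop ▸ Subgroup.mem_top _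
      rw [MonoidHom.mem_ker] at h1
      have h2 : cj ⟨x, hx⟩ χ0 = χ0 :=
        congrArg Subtype.val (congrArg (fun e : Equiv.Perm Ω => e ⟨χ0, h0⟩) h1)
      exact h2 ▸ hmove ⟨x, hx⟩ χ0 u hu
    have hall := (C.irr _ hinv).resolve_left h0
    refine hne fun a ha => ?_
    have hμ : χ0 ⟨a, ha⟩ ≠ 0 := by
      intro hz
      have h1 := hχ0 ⟨a, ha⟩
      rw [hz, zero_smul] at h1
      exact hv0 (gv_injective _ (h1.trans (map_zero _).symm))
    refine mem_scalars.2 ⟨Units.mk0 _ hμ, Units.ext (LinearMap.ext fun u => ?_)⟩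
    have hu : u ∈ joint X χ0 := hall ▸ Submodule.mem_top
    rw [sc_apply, Units.val_mk0]
    exact (mem_joint.1 hu ⟨a, ha⟩).symm

/-- the statement in degree `n` -/
def SecBd (n r : ℕ) : Prop :=
  ∀ (k : Type) [Field k] [IsAlgClosed k] (V : Type) [AddCommGroup V] [Module k V]
    [FiniteDimensional k V], finrank k V = n → ∀ (H : Subgroup (GV k V)),
    Finite H → ∀ φ : H →* alternatingGroup (Fin r), Function.Surjective φ → Bd k n r

theorem sec_apply {n r : ℕ} (hS : SecBd n r) {k : Type} [Field k] [IsAlgClosed k] {V : Type}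
    [AddCommGroup V] [Module k V] [FiniteDimensional k V] (hn : finrank k V = n)
    {G : Type*} [Group G] [Finite G] (f : G →* GV k V) (φ : G →* alternatingGroup (Fin r))
    (hφ : Function.Surjective φ) (hker : f.ker ≤ φ.ker) : Bd k n r := by
  obtain ⟨ψ, hψ⟩ := exists_factor f φ hφ hker
  exact hS k V hn f.range (Finite.of_surjective _ f.rangeRestrict_surjective) ψ hψ

omit [IsAlgClosed k] in
theorem det_scalar_root {c : kˣ} {x y : GV k V} (h : y * x * y⁻¹ = sc c * x) :
    (c : k) ^ finrank k V = 1 := by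
  have h1 : (y : Module.End k V) * (x : Module.End k V) = (c : k) • ((x : Module.End k V) * y) := by
    refine LinearMap.ext fun v => ?_
    have h2 : y * x = sc c * x * y := by rw [← h]; group
    have := congrArg (fun Z : GV k V => (Z : Module.End k V) v) h2
    simpa [gv_mul_apply] using this
  have h2 := congrArg LinearMap.det h1
  rw [map_mul, LinearMap.det_smul, map_mul, mul_comm (LinearMap.det (x : Module.End k V))] at h2
  exact mul_eq_right₀ (mul_ne_zero (y.isUnit.map LinearMap.det).ne_zero
    (x.isUnit.map LinearMap.det).ne_zero) |>.1 h2.symm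

theorem pow_le_sq_four {n d q : ℕ} (hq : 2 ≤ q) (hd : n ≤ d) (h : q ^ d ≤ n ^ 2) :
    d ≤ 4 ∧ q ^ d ≤ 16 := by
  have key : ∀ m, 5 ≤ m → m ^ 2 < 2 ^ m := by
    intro m hm
    induction m, hm using Nat.le_induction with
    | base => norm_num
    | succ m hm ih => rw [pow_succ 2 m]; nlinarith
  have h2 : 2 ^ d ≤ q ^ d := Nat.pow_le_pow_left hq d
  have hn4 : n ≤ 4 := by
    by_contra hh
    have := key n (by omega)
    have := Nat.pow_le_pow_right (show 0 < 2 by norm_num) hd
    omega
  have hn16 : n ^ 2 ≤ 4 ^ 2 := Nat.pow_le_pow_left hn4 2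
  refine ⟨?_, by omega⟩
  by_contra hh
  have := Nat.pow_le_pow_right (show 0 < 2 by norm_num) (show 5 ≤ d by omega)
  omega

theorem Ctx.bound_extraspecial (C : Ctx H φ) (IH : ∀ m < finrank k V, SecBd m r)
    (habel : ∀ A : Subgroup H, A.Normal → (∀ a ∈ A, ∀ b ∈ A, a * b = b * a) → A ≤ scalars H)
    (hN : ¬φ.ker ≤ scalars H) : r - 1 ≤ finrank k V := by
  classical
  haveI := C.fin
  haveI := C.nontrivial
  by_contra hlt
  obtain ⟨Q, ⟨hQn, hQN, hQS⟩, hQmin⟩ := exists_minimal_of_wellFoundedLT
    (P := fun Q : Subgroup H => Q.Normal ∧ Q ≤ φ.ker ∧ ¬Q ≤ scalars H)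
    ⟨φ.ker, inferInstance, le_rfl, hN⟩
  haveI := hQn
  have hmin : ∀ R : Subgroup H, R.Normal → R ≤ Q → ¬R ≤ scalars H → R = Q := fun R hR hle hns =>
    le_antisymm hle (hQmin ⟨hR, hle.trans hQN, hns⟩ hle)
  -- the kernel is nilpotent
  have hfr : φ.ker ≤ frattini H := le_iInf₂ fun M hM => by
    by_contra hM'
    have htop : φ.ker ⊔ M = ⊤ := hM.2 _ (lt_of_le_of_ne le_sup_right fun h => hM' (h ▸ le_sup_left))
    refine hM.1 (C.minimal M ?_)
    have := congrArg (Subgroup.map φ) htop
    rwa [Subgroup.map_sup, (Subgroup.map_eq_bot_iff _).2 le_rfl, bot_sup_eq,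
      Subgroup.map_top_of_surjective φ C.surj] at this
  haveI : Group.IsNilpotent Q := by
    haveI := frattini_nilpotent (G := H)
    exact (Group.isNilpotent_congr (Subgroup.subgroupOfEquivOfLe (hQN.trans hfr))).1 inferInstance
  have hQne : Q ≠ ⊥ := fun h => hQS (h ▸ bot_le)
  haveI : Nontrivial Q := (Subgroup.nontrivial_iff_ne_bot Q).2 hQne
  have hder : ∀ a ∈ Q, ∀ b ∈ Q, a * b * a⁻¹ * b⁻¹ ∈ scalars H := by
    have hle : ⁅Q, Q⁆ ≤ scalars H := by
      by_contra hns
      have heq := hmin ⁅Q, Q⁆ inferInstance (Subgroup.commutator_le_left Q Q) hns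
      have hlt' : commutator Q < ⊤ := Group.IsSolvable.commutator_lt_top_of_nontrivial Q
      apply hlt'.ne
      apply Subgroup.map_injective Q.subtype_injective
      rw [commutator_def, Subgroup.map_commutator, ← MonoidHom.range_eq_map, Subgroup.range_subtype,
        heq]
    exact fun a ha b hb => hle (Subgroup.commutator_mem_commutator ha hb)
  -- commutator scalars
  have hcs : ∀ x y : Q, ∃ c : kˣ,
      ((y : H) : GV k V) * ((x : H) : GV k V) * ((y : H) : GV k V)⁻¹ = sc c * ((x : H) : GV k V) := by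
    intro x y
    obtain ⟨c, hc⟩ := mem_scalars.1 (hder y y.2 x x.2)
    refine ⟨c, ?_⟩
    rw [hc]
    push_cast
    group
  choose cs hcs using hcs
  have hZQ : ∀ x : Q, (∀ y : Q, y * x = x * y) → (x : H) ∈ scalars H := by
    intro x hx
    haveI : ((Subgroup.center Q).map Q.subtype).Normal := inferInstance
    refine habel ((Subgroup.center Q).map Q.subtype) inferInstance ?_
      (Subgroup.mem_map_of_mem _ (Subgroup.mem_center_iff.2 hx))
    rintro _ ⟨a, ha, rfl⟩ _ ⟨b, hb, rfl⟩
    exact congrArg Subtype.val (Subgroup.mem_center_iff.1 hb a)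
  let Z : Subgroup Q := (scalars H).subgroupOf Q
  haveI : Z.Normal := inferInstance
  have hcomm : ∀ a b : Q ⧸ Z, a * b = b * a := by
    intro a b
    induction a using QuotientGroup.induction_on
    induction b using QuotientGroup.induction_on
    rename_i x y
    rw [← QuotientGroup.mk_mul, ← QuotientGroup.mk_mul, QuotientGroup.eq]
    change ((x * y)⁻¹ * (y * x) : Q) ∈ Z
    rw [Subgroup.mem_subgroupOf]
    have := hder (y : H)⁻¹ (Q.inv_mem y.2) (x : H)⁻¹ (Q.inv_mem x.2)
    push_cast
    simpa [mul_inv_rev, mul_assoc] using this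
  letI : CommGroup (Q ⧸ Z) := { (inferInstance : Group (Q ⧸ Z)) with mul_comm := hcomm }
  -- the characters are distinct
  have hW : Nat.card (Q ⧸ Z) ≤ finrank k V ^ 2 := by
    haveI : Fintype (Q ⧸ Z) := Fintype.ofFinite _
    let X : Q → Module.End k (Module.End k V) := fun y =>
      LinearMap.mulLeft k (((y : H) : GV k V) : Module.End k V) ∘ₗ
        LinearMap.mulRight k ((((y : H) : GV k V)⁻¹ : GV k V) : Module.End k V)
    have hf : Function.Injective (fun (j : Q ⧸ Z) (y : Q) => (cs j.out y : k)) := by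
      intro i j hij
      rw [← QuotientGroup.out_eq' i, ← QuotientGroup.out_eq' j, QuotientGroup.eq]
      rw [Subgroup.mem_subgroupOf]
      refine hZQ _ fun y => ?_
      apply Subtype.ext; apply Subtype.ext
      have e : cs i.out y = cs j.out y := Units.ext (congrFun hij y)
      have h1 := hcs i.out y
      have h2 := hcs j.out y
      rw [e] at h1
      push_cast
      generalize ((y : H) : GV k V) = Y at h1 h2
      generalize ((i.out : H) : GV k V) = I at h1
      generalize ((j.out : H) : GV k V) = J at h2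
      generalize (sc (cs j.out y) : GV k V) = Cs at h1 h2
      have h3 : Y * (I⁻¹ * J) * Y⁻¹ = I⁻¹ * J := by
        calc Y * (I⁻¹ * J) * Y⁻¹ = (Y * I * Y⁻¹)⁻¹ * (Y * J * Y⁻¹) := by group
          _ = I⁻¹ * J := by rw [h1, h2]; group
      calc Y * (I⁻¹ * J) = Y * (I⁻¹ * J) * Y⁻¹ * Y := by group
        _ = I⁻¹ * J * Y := by rw [h3]
    have := card_le_finrank (k := k) (X := X) (f := fun (j : Q ⧸ Z) (y : Q) => (cs j.out y : k)) hf
      (fun j => (Submodule.ne_bot_iff _).2 ⟨(((j.out : Q) : H) : GV k V).val, mem_joint.2 fun y => by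
        simp only [X, LinearMap.comp_apply, LinearMap.mulLeft_apply, LinearMap.mulRight_apply]
        have h1 := congrArg (fun z : GV k V => (z : Module.End k V)) (hcs j.out y)
        simp only [Units.val_mul] at h1
        rw [← mul_assoc, h1]
        refine LinearMap.ext fun v => ?_
        rw [Module.End.mul_apply, sc_apply, LinearMap.smul_apply],
        Units.ne_zero _⟩)
    rw [Module.finrank_linearMap, ← Nat.card_eq_fintype_card] at this
    rw [pow_two]; exact this
  -- a prime exponent
  have hWne : ¬Nat.card (Q ⧸ Z) = 1 := by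
    intro h1
    refine hQS fun x hx => ?_
    haveI := (Nat.card_eq_one_iff_unique.1 h1).1
    have : ((⟨x, hx⟩ : Q) : Q ⧸ Z) = 1 := Subsingleton.elim _ _
    rw [QuotientGroup.eq_one_iff, Subgroup.mem_subgroupOf] at this
    exact this
  obtain ⟨q, hq, hqdvd⟩ := Nat.exists_prime_and_dvd hWne
  haveI : Fact q.Prime := ⟨hq⟩
  have hexp : ∀ a : Q ⧸ Z, a ^ q = 1 := by
    let T : Subgroup H := ((powMonoidHom q : (Q ⧸ Z) →* (Q ⧸ Z)).ker.comap
      (QuotientGroup.mk' Z)).map Q.subtype
    have hmemT : ∀ x : H, x ∈ T ↔ x ∈ Q ∧ x ^ q ∈ scalars H := by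
      intro x
      constructor
      · rintro ⟨a, ha, rfl⟩
        refine ⟨a.2, ?_⟩
        have h1 : ((a : Q ⧸ Z)) ^ q = 1 := ha
        rw [← QuotientGroup.mk_pow, QuotientGroup.eq_one_iff, Subgroup.mem_subgroupOf] at h1
        simpa using h1
      · rintro ⟨h1, h2⟩
        refine ⟨⟨x, h1⟩, ?_, rfl⟩
        change ((⟨x, h1⟩ : Q) : Q ⧸ Z) ^ q = 1
        rw [← QuotientGroup.mk_pow, QuotientGroup.eq_one_iff, Subgroup.mem_subgroupOf]
        simpa using h2
    have hTn : T.Normal := ⟨fun x hx g => by
      rw [hmemT] at hx ⊢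
      exact ⟨hQn.conj_mem _ hx.1 g, by rw [conj_pow]; exact (scalars_normal H).conj_mem _ hx.2 g⟩⟩
    have hTQ : T = Q := by
      refine hmin T hTn (fun x hx => ((hmemT x).1 hx).1) fun hle => ?_
      obtain ⟨a, ha⟩ := exists_prime_orderOf_dvd_card' q hqdvd
      induction a using QuotientGroup.induction_on
      rename_i x
      have h1 : (x : H) ∈ scalars H := hle ((hmemT _).2 ⟨x.2, by
        have h2 := pow_orderOf_eq_one (x : Q ⧸ Z)
        rw [ha, ← QuotientGroup.mk_pow, QuotientGroup.eq_one_iff, Subgroup.mem_subgroupOf] at h2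
        simpa using h2⟩)
      have h3 : (x : Q ⧸ Z) = 1 := by
        rw [QuotientGroup.eq_one_iff, Subgroup.mem_subgroupOf]; exact h1
      rw [h3, orderOf_one] at ha
      exact hq.ne_one ha.symm
    intro a
    induction a using QuotientGroup.induction_on
    rename_i x
    rw [← QuotientGroup.mk_pow, QuotientGroup.eq_one_iff, Subgroup.mem_subgroupOf]
    have := ((hmemT (x : H)).1 ((SetLike.ext_iff.1 hTQ _).2 x.2)).2
    simpa using this
  -- the vector space
  haveI : Finite (Additive (Q ⧸ Z)) := inferInstanceAs (Finite (Q ⧸ Z))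
  let act : H → (Q ⧸ Z) →* (Q ⧸ Z) := fun g =>
    QuotientGroup.map Z Z ((MulAut.conjNormal g : MulAut Q).toMonoidHom) fun x hx => by
      rw [Subgroup.mem_comap, Subgroup.mem_subgroupOf] at *
      simpa using (scalars_normal H).conj_mem _ hx g
  have hact : ∀ (g : H) (x : Q), act g (x : Q ⧸ Z) = ((MulAut.conjNormal g x : Q) : Q ⧸ Z) :=
    fun g x => rfl
  obtain ⟨d, f, hcard, hfix, hrange⟩ := endo_data (q := q) hexp act
    (fun x => by
      induction x using QuotientGroup.induction_on
      rw [hact, map_one]; rfl)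
    (fun g g' x => by
      induction x using QuotientGroup.induction_on
      rw [hact, hact, hact, map_mul]; rfl)
  have hker : f.ker ≤ φ.ker := by
    refine (C.dichotomy f.ker).resolve_right fun htop => ?_
    have hconj : ∀ (g : H) (x : Q), (g * (x : H) * g⁻¹) * (x : H)⁻¹ ∈ scalars H := by
      intro g x
      have h1 : g ∈ f.ker := htop ▸ Subgroup.mem_top g
      rw [MonoidHom.mem_ker] at h1
      have h2 : act g (x : Q ⧸ Z) = (x : Q ⧸ Z) := hfix g h1 _
      rw [hact, eq_comm, QuotientGroup.eq, Subgroup.mem_subgroupOf] at h2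
      have h3 := (scalars_normal H).conj_mem _ h2 (x : H)
      simpa [mul_assoc] using h3
    let Cq : Subgroup H := Subgroup.centralizer (Q : Set H)
    have hCq : ⁅(⊤ : Subgroup H), ⊤⁆ ≤ Cq := by
      rw [Subgroup.commutator_le]
      intro g _ g' _
      rw [Subgroup.mem_centralizer_iff]
      intro x hx
      obtain ⟨c, hc⟩ := mem_scalars.1 (hconj g ⟨x, hx⟩)
      obtain ⟨c', hc'⟩ := mem_scalars.1 (hconj g' ⟨x, hx⟩)
      apply Subtype.ext
      simp only [Subgroup.coe_mul, Subgroup.coe_inv, commutatorElement_def] at hc hc' ⊢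
      generalize (g : GV k V) = G at hc ⊢
      generalize (g' : GV k V) = G' at hc' ⊢
      generalize (x : GV k V) = X at hc hc' ⊢
      have e1 : G * X * G⁻¹ = sc c * X := by rw [hc]; group
      have e2 : G' * X * G'⁻¹ = sc c' * X := by rw [hc']; group
      have k1 : G * X = sc c * X * G := by rw [← e1]; group
      have k2 : G' * X = sc c' * X * G' := by rw [← e2]; group
      have k12 : G * G' * X = sc (c * c') * X * (G * G') := by
        calc G * G' * X = G * (G' * X) := by group
          _ = G * sc c' * X * G' := by rw [k2]; group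
          _ = sc c' * (G * X) * G' := by rw [← sc_comm c' G]; group
          _ = sc c' * sc c * X * (G * G') := by rw [k1]; group
          _ = _ := by rw [← map_mul, mul_comm c' c]
      have k21 : G' * G * X = sc (c * c') * X * (G' * G) := by
        calc G' * G * X = G' * (G * X) := by group
          _ = G' * sc c * X * G := by rw [k1]; group
          _ = sc c * (G' * X) * G := by rw [← sc_comm c G']; group
          _ = sc c * sc c' * X * (G' * G) := by rw [k2]; group
          _ = _ := by rw [← map_mul]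
      have : (G * G') * (G' * G)⁻¹ * X = X * ((G * G') * (G' * G)⁻¹) := by
        calc (G * G') * (G' * G)⁻¹ * X
            = (G * G') * (G' * G)⁻¹ * ((sc (c * c'))⁻¹ * (sc (c * c') * X * (G' * G))) * (G' * G)⁻¹ := by
              group
          _ = (G * G') * (G' * G)⁻¹ * ((sc (c * c')⁻¹) * (G' * G * X)) * (G' * G)⁻¹ := by
              rw [k21, map_inv]
          _ = (G * G') * ((G' * G)⁻¹ * sc (c * c')⁻¹) * (G' * G * X) * (G' * G)⁻¹ := by group
          _ = (G * G') * (sc (c * c')⁻¹ * (G' * G)⁻¹) * (G' * G * X) * (G' * G)⁻¹ := by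
              rw [sc_comm (c * c')⁻¹ (G' * G)⁻¹]
          _ = (G * G' * sc (c * c')⁻¹) * X * (G' * G)⁻¹ := by group
          _ = (sc (c * c')⁻¹ * (G * G')) * X * (G' * G)⁻¹ := by rw [sc_comm (c * c')⁻¹ (G * G')]
          _ = sc (c * c')⁻¹ * (G * G' * X) * (G' * G)⁻¹ := by group
          _ = X * ((G * G') * (G' * G)⁻¹) := by rw [k12, map_inv]; group
      calc X * (G * G' * G⁻¹ * G'⁻¹) = X * ((G * G') * (G' * G)⁻¹) := by group
        _ = (G * G') * (G' * G)⁻¹ * X := this.symm
        _ = G * G' * G⁻¹ * G'⁻¹ * X := by group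
    have hC : Cq = ⊤ := C.minimal _ (by
      refine top_unique ?_
      haveI := alt_simple C.nine
      have hmap : Subgroup.map φ (⁅(⊤ : Subgroup H), (⊤ : Subgroup H)⁆ : Subgroup H) = ⊤ := by
        rw [Subgroup.map_commutator, Subgroup.map_top_of_surjective φ C.surj]
        refine (IsSimpleGroup.eq_bot_or_eq_top_of_normal _ inferInstance).resolve_left fun hbot => ?_
        obtain ⟨a, b, hab⟩ := alt_noncomm C.nine
        have := Subgroup.commutator_mem_commutator (Subgroup.mem_top a) (Subgroup.mem_top b)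
        rw [hbot, Subgroup.mem_bot, commutatorElement_eq_one_iff_mul_comm] at this
        exact hab this
      rw [← hmap]
      exact Subgroup.map_mono hCq)
    refine hQS fun x hx => C.cent_scalar fun g => ?_
    have hg : g ∈ Cq := hC ▸ Subgroup.mem_top g
    exact ((Subgroup.mem_centralizer_iff.1 hg) x hx).symm
  rw [hcard] at hW
  by_cases hdn : d < finrank k V
  · have := (sec_apply (IH d hdn) (k := AlgebraicClosure (ZMod q))
      (V := Fin d → AlgebraicClosure (ZMod q)) (Module.finrank_fin_fun _) f φ C.surj hker).1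
    omega
  · obtain ⟨ψ, hψ⟩ := exists_factor f φ C.surj hker
    obtain ⟨hd4, h16⟩ := pow_le_sq_four hq.two_le (not_lt.1 hdn) hW
    have h1 : Nat.card (alternatingGroup (Fin r)) ≤ Nat.card f.range := by
      haveI : Finite f.range := Finite.of_surjective _ f.rangeRestrict_surjective
      exact Nat.card_le_card_of_surjective ψ hψ
    have h4 : (q ^ d) ^ d ≤ 16 ^ 4 :=
      (Nat.pow_le_pow_left h16 d).trans (Nat.pow_le_pow_right (by norm_num) hd4)
    have := alt_card_ge C.nine
    omega

theorem Ctx.bound (C : Ctx H φ) (IH : ∀ m < finrank k V, SecBd m r) : Bd k (finrank k V) r := by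
  by_cases hA : ∃ A : Subgroup H, A.Normal ∧ (∀ a ∈ A, ∀ b ∈ A, a * b = b * a) ∧ ¬A ≤ scalars H
  · obtain ⟨A, hn, hc, hne⟩ := hA
    exact Bd.of_le (C.bound_abelian A hc hne)
  by_cases hN : φ.ker ≤ scalars H
  · exact C.bound_central hN
  refine Bd.of_le (C.bound_extraspecial IH (fun A hn hc => ?_) hN)
  by_contra hne
  exact hA ⟨A, hn, hc, hne⟩

/-- alternating sections of linear groups over algebraically closed fields -/
theorem sec_bound (hr : 9 ≤ r) : ∀ n, SecBd n r := by
  intro n
  induction n using Nat.strong_induction_on with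
  | _ n IH =>
    intro k _ _ V _ _ _ hn H
    induction hc : Nat.card H using Nat.strong_induction_on generalizing H with
    | _ c IHH =>
      intro hfin φ hφ
      subst hc
      subst hn
      haveI := hfin
      by_cases hmin : Minimal' φ
      swap
      · simp only [Minimal', not_forall] at hmin
        obtain ⟨M, hM, hne⟩ := hmin
        have hlt : M.map H.subtype < H := by
          refine lt_of_le_of_ne (Subgroup.map_subtype_le M) fun h => hne ?_
          refine Subgroup.map_injective H.subtype_injective (h.trans ?_)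
          rw [← MonoidHom.range_eq_map, Subgroup.range_subtype]
        haveI : Finite (M.map H.subtype) :=
          Finite.of_equiv _ (M.equivMapOfInjective H.subtype H.subtype_injective).toEquiv
        have hcard : Nat.card (M.map H.subtype) < Nat.card H :=
          Set.Finite.card_lt_card (Set.toFinite (H : Set (GV k V))) hlt
        refine IHH _ hcard (M.map H.subtype) rfl inferInstance
          ((φ.comp M.subtype).comp
            (M.equivMapOfInjective H.subtype H.subtype_injective).symm.toMonoidHom) ?_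
        intro a
        have : a ∈ M.map φ := hM ▸ Subgroup.mem_top a
        obtain ⟨x, hx, rfl⟩ := this
        exact ⟨M.equivMapOfInjective H.subtype H.subtype_injective ⟨x, hx⟩, by simp⟩
      by_cases hirr : ∀ W : Submodule k V,
          (∀ g ∈ H, ∀ v ∈ W, (g : Module.End k V) v ∈ W) → W = ⊥ ∨ W = ⊤
      · exact Ctx.bound ⟨hr, hφ, hmin, hfin, hirr⟩ IH
      -- reducible
      simp only [not_forall, not_or] at hirr
      obtain ⟨W, hW, hbot, htop⟩ := hirr
      haveI := alt_simple hr
      have dich : ∀ K : Subgroup H, K.Normal → K ≤ φ.ker ∨ K = ⊤ := by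
        intro K hK
        rcases IsSimpleGroup.eq_bot_or_eq_top_of_normal (K.map φ) (hK.map φ hφ) with h | h
        · exact Or.inl fun x hx => MonoidHom.mem_ker.2 (by
            have := Subgroup.mem_map_of_mem φ hx
            rwa [h, Subgroup.mem_bot] at this)
        · exact Or.inr (hmin K h)
      have hlt : finrank k W < finrank k V := Submodule.finrank_lt htop
      have hpos : 1 ≤ finrank k W := Submodule.one_le_finrank_iff.2 hbot
      rcases dich (resHom H W hW).ker inferInstance with h1 | h1
      · exact (sec_apply (IH _ hlt) rfl _ φ hφ h1).mono hlt.le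
      rcases dich (quoHom H W hW).ker inferInstance with h2 | h2
      · have hlt2 : finrank k (V ⧸ W) < finrank k V := by
          have := W.finrank_quotient_add_finrank
          omega
        exact (sec_apply (IH _ hlt2) rfl _ φ hφ h2).mono hlt2.le
      exfalso
      have hfix : ∀ (g : H) (w : W), ((g : GV k V) : Module.End k V) w = w := by
        intro g w
        have hm : g ∈ (resHom H W hW).ker := h1 ▸ Subgroup.mem_top g
        exact congrArg (fun e : GV k W => (((e : Module.End k W) w : W) : V))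
          (MonoidHom.mem_ker.1 hm)
      have hdiff : ∀ (g : H) (v : V), ((g : GV k V) : Module.End k V) v - v ∈ W := by
        intro g v
        have hm : g ∈ (quoHom H W hW).ker := h2 ▸ Subgroup.mem_top g
        have := congrArg (fun e : GV k (V ⧸ W) => (e : Module.End k (V ⧸ W)) (Submodule.Quotient.mk v))
          (MonoidHom.mem_ker.1 hm)
        exact (Submodule.Quotient.eq W).1 this
      obtain ⟨a, b, hab⟩ := alt_noncomm hr
      obtain ⟨x, rfl⟩ := hφ a
      obtain ⟨y, rfl⟩ := hφ b
      refine hab ?_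
      rw [← map_mul, ← map_mul]
      congr 1
      refine Subtype.ext (Units.ext (LinearMap.ext fun v => ?_))
      rw [Subgroup.coe_mul, Subgroup.coe_mul, gv_mul_apply, gv_mul_apply]
      have e1 := hfix x ⟨_, hdiff y v⟩
      have e2 := hfix y ⟨_, hdiff x v⟩
      simp only [map_sub] at e1 e2
      linear_combination (norm := module) e1 - e2

end Cfsg.Agent.AltSec
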