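import Cfsg.Agent.AltSec.TwoRank

/-! Characteristic two: lines attached to pairs and the degree bound. -/

namespace Cfsg.Agent.AltSec

open Equiv Module

variable {k V : Type*} [Field k] [AddCommGroup V] [Module k V] {r : ℕ}

namespace PRep

variable {ρ : PRep k V r}

local macro "ndg" : tactic =>
  `(tactic| (simp only [List.nodup_cons, List.mem_cons, List.not_mem_nil, or_false, not_or,
      List.nodup_nil, and_true, not_false_eq_true] at *; grind only))

theorem Three.apply_inv (H : ρ.Three) {a b c : Fin r} (h : [a, b, c].Nodup) (v : V) :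
    (x3 ρ a c b : Module.End k V) ((x3 ρ a b c : Module.End k V) v) = v := by
  rw [← x3_inv H.nine h, ← gv_apply_mul, inv_mul_cancel, Units.val_one, Module.End.one_apply]

theorem W3_rot (H : ρ.Three) {a b c : Fin r} (h : [a, b, c].Nodup) :
    W3 ρ b c a = W3 ρ a b c := by
  rw [W3, W3, x3_rot H.nine h]

theorem W3_swap (H : ρ.Three) {a b c : Fin r} (h : [a, b, c].Nodup) :
    W3 ρ a c b = W3 ρ a b c := by
  have key : ∀ a b c : Fin r, [a, b, c].Nodup → W3 ρ a b c ≤ W3 ρ a c b := by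
    intro a b c h v hv
    rw [mem_W3] at hv ⊢
    have hi := H.apply_inv h
    have h1 := congrArg (fun u => (x3 ρ a c b : Module.End k V)
      ((x3 ρ a c b : Module.End k V) u)) hv
    simp only [map_add, map_zero, hi] at h1
    rw [← h1]; abel
  exact le_antisymm (key a c b (by ndg)) (key a b c h)

theorem W3_move (H : ρ.Three) {a b c d e g : Fin r} (h : [a, b, c].Nodup) (h' : [d, e, g].Nodup)
    {v : V} (hv : v ∈ W3 ρ a b c) :
    (x3 ρ d e g : Module.End k V) v ∈ W3 ρ (tc d e g a) (tc d e g b) (tc d e g c) :=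
  W3_conj H.nine h (sign_tc' h') (lifts_x3 H.nine h') hv

theorem W3_invariant (H : ρ.Three) {a b c : Fin r} (h : [a, b, c].Nodup) {U : Submodule k V}
    (hU : W3 ρ a b c ≤ U) {v : V} (hv : v ∈ U) : (x3 ρ a b c : Module.End k V) v ∈ U := by
  have := add_mem (hU (H.toChar2.sub_mem_W3 h v)) hv
  rwa [sub_add_cancel] at this

theorem le_comap_of_move (H : ρ.Three) {a b c d e g : Fin r} (h : [a, b, c].Nodup)
    (h' : [d, e, g].Nodup) {U : Submodule k V} (hU : W3 ρ d e g ≤ U) (hW : W3 ρ a b c ≤ U) :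
    W3 ρ (tc d e g a) (tc d e g b) (tc d e g c) ≤ U := by
  intro v hv
  have hi : [d, g, e].Nodup := by ndg
  have h3 : [tc d e g a, tc d e g b, tc d e g c].Nodup := by simpa using nodup_map (tc d e g) h
  have h1 := W3_move H h3 hi hv
  have e1 : ∀ x, tc d g e (tc d e g x) = x := by
    intro x
    rw [← tc_inv h', Perm.inv_def, Equiv.symm_apply_apply]
  rw [e1, e1, e1] at h1
  have h2 := W3_invariant H h' hU (hW h1)
  rwa [H.apply_inv hi] at h2

/-- two triples meeting in one point generate the moving parts of the five-point group -/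
theorem cone (H : ρ.Three) {a b c d e : Fin r} (h : [a, b, c, d, e].Nodup) :
    W3 ρ a b d ≤ W3 ρ a b c ⊔ W3 ρ a d e := by
  set U := W3 ρ a b c ⊔ W3 ρ a d e
  have h1 : [a, b, c].Nodup := by ndg
  have h2 : [a, d, e].Nodup := by ndg
  have tX := tc_apply (a := a) (b := b) (c := c) (by ndg) (by ndg) (by ndg)
  have tY := tc_apply (a := a) (b := d) (c := e) (by ndg) (by ndg) (by ndg)
  have s1 := le_comap_of_move H h1 h2 (U := U) le_sup_right le_sup_left
  rw [tY.1, tc_apply_of_ne (x := b) (by ndg) (by ndg) (by ndg),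
    tc_apply_of_ne (x := c) (by ndg) (by ndg) (by ndg)] at s1
  have s2 := le_comap_of_move H (show [d, b, c].Nodup by ndg) h1 (U := U) le_sup_left s1
  rw [tc_apply_of_ne (x := d) (by ndg) (by ndg) (by ndg), tX.2.1, tX.2.2] at s2
  have s3 := le_comap_of_move H (show [d, c, a].Nodup by ndg) h1 (U := U) le_sup_left s2
  rw [tc_apply_of_ne (x := d) (by ndg) (by ndg) (by ndg), tX.2.2, tX.1] at s3
  rwa [← W3_rot H (show [d, a, b].Nodup by ndg)] at s3

variable [FiniteDimensional k V]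

theorem W3_disjoint (H : ρ.Three) {a b c d e g : Fin r} (h : [a, b, c, d, e, g].Nodup) :
    W3 ρ a b c ⊓ W3 ρ d e g = ⊥ := by
  rw [eq_bot_iff]
  intro v hv
  exact H.toChar2.W3_fix hv.2 (H.fix a b c d e g h v hv.1)

theorem six_le_of_pencil (H : ρ.Three) {a b : Fin r} (hab : a ≠ b) {U : Submodule k V}
    (hU : ∀ j, [a, b, j].Nodup → W3 ρ a b j ≤ U) : 6 ≤ finrank k U := by
  have hout : ∀ i j l : Fin r, [a, b, i, j, l].Nodup → W3 ρ l j i ≤ U := by
    intro i j l h
    have hj : [a, b, j].Nodup := by ndg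
    have tj := tc_apply (a := a) (b := b) (c := j) (by ndg) (by ndg) (by ndg)
    have s1 := le_comap_of_move H (show [a, b, i].Nodup by ndg) hj (hU j hj) (hU i (by ndg))
    rw [tj.1, tj.2.1, tc_apply_of_ne (x := i) (by ndg) (by ndg) (by ndg)] at s1
    have hl : [a, b, l].Nodup := by ndg
    have tl := tc_apply (a := a) (b := b) (c := l) (by ndg) (by ndg) (by ndg)
    have s2 := le_comap_of_move H (show [b, j, i].Nodup by ndg) hl (hU l hl) s1
    rwa [tl.2.1, tc_apply_of_ne (x := j) (by ndg) (by ndg) (by ndg),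
      tc_apply_of_ne (x := i) (by ndg) (by ndg) (by ndg)] at s2
  have hr := H.nine
  obtain ⟨c, hc⟩ := exists_avoid [a, b] (by simp; omega)
  obtain ⟨d, hd⟩ := exists_avoid [a, b, c] (by simp; omega)
  obtain ⟨e, he⟩ := exists_avoid [a, b, c, d] (by simp; omega)
  obtain ⟨f, hf⟩ := exists_avoid [a, b, c, d, e] (by simp; omega)
  obtain ⟨g, hg⟩ := exists_avoid [a, b, c, d, e, f] (by simp; omega)
  obtain ⟨i, hi⟩ := exists_avoid [a, b, c, d, e, f, g] (by simp; omega)
  obtain ⟨j, hj⟩ := exists_avoid [a, b, c, d, e, f, g, i] (by simp; omega)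
  set A := W3 ρ a b c
  set B := W3 ρ d e f
  set C := W3 ρ g i j
  have hAB : A ⊓ B = ⊥ := W3_disjoint H (by ndg)
  have hABC : (A ⊔ B) ⊓ C = ⊥ := by
    rw [eq_bot_iff]
    intro v hv
    refine H.toChar2.W3_fix hv.2 ?_
    obtain ⟨u, hu, w, hw, rfl⟩ := Submodule.mem_sup.1 hv.1
    rw [map_add, H.fix a b c g i j (by ndg) u hu, H.fix d e f g i j (by ndg) w hw]
  have h1 := Submodule.finrank_sup_add_finrank_inf_eq A B
  have h2 := Submodule.finrank_sup_add_finrank_inf_eq (A ⊔ B) C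
  have hle : A ⊔ B ⊔ C ≤ U :=
    sup_le (sup_le (hU c (by ndg)) (hout f e d (by ndg))) (hout j i g (by ndg))
  have h3 := Submodule.finrank_mono hle
  rw [hAB, finrank_bot, H.rank a b c (by ndg), H.rank d e f (by ndg)] at h1
  rw [hABC, finrank_bot, H.rank g i j (by ndg)] at h2
  omega

theorem W3_conj_le (H : ρ.Three) {a b c : Fin r} (h : [a, b, c].Nodup) {σ : Perm (Fin r)}
    (hσ : Perm.sign σ = 1) :
    W3 ρ (σ a) (σ b) (σ c) ≤ (W3 ρ a b c).map (ρ.f σ : Module.End k V) := by
  intro v hv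
  have h' : [σ a, σ b, σ c].Nodup := by simpa using nodup_map σ h
  have h1 := W3_conj H.nine h' (show Perm.sign σ⁻¹ = 1 by simp [hσ])
    ((ρ.lifts_f σ).inv hσ) hv
  simp only [Perm.inv_def, Equiv.symm_apply_apply] at h1
  refine ⟨_, h1, ?_⟩
  rw [← gv_apply_mul, mul_inv_cancel, Units.val_one, Module.End.one_apply]

theorem map_W3_le (H : ρ.Three) {a b c : Fin r} (h : [a, b, c].Nodup) {σ : Perm (Fin r)}
    (hσ : Perm.sign σ = 1) :
    (W3 ρ a b c).map (ρ.f σ : Module.End k V) ≤ W3 ρ (σ a) (σ b) (σ c) := by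
  rintro _ ⟨u, hu, rfl⟩
  exact W3_conj H.nine h hσ (ρ.lifts_f σ) hu

theorem finrank_pair (H : ρ.Three) {a b c d : Fin r} (h : [a, b, c, d].Nodup) :
    finrank k ↥(W3 ρ a b c ⊔ W3 ρ a b d) = 3 ∧ finrank k ↥(W3 ρ a b c ⊓ W3 ρ a b d) = 1 := by
  set U := W3 ρ a b c ⊔ W3 ρ a b d with hU
  have hc : [a, b, c].Nodup := by ndg
  have hd : [a, b, d].Nodup := by ndg
  have hab : a ≠ b := by ndg
  have hadd := Submodule.finrank_sup_add_finrank_inf_eq (W3 ρ a b c) (W3 ρ a b d)
  rw [← hU, H.rank a b c hc, H.rank a b d hd] at hadd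
  have hne4 : finrank k U ≠ 4 := by
    intro h4
    have := six_le_of_pencil H hab (U := U) fun j hj => ?_
    · omega
    by_cases hjc : j = c
    · rw [hjc]; exact le_sup_left
    by_cases hjd : j = d
    · rw [hjd]; exact le_sup_right
    have h5 : [a, b, c, d, j].Nodup := by ndg
    have hle : U ≤ W3 ρ a b c ⊔ W3 ρ a d j := sup_le le_sup_left (cone H h5)
    have hR : finrank k ↥(W3 ρ a b c ⊔ W3 ρ a d j) ≤ 4 := by
      have h' := Submodule.finrank_add_le_finrank_add_finrank (W3 ρ a b c) (W3 ρ a d j)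
      rw [H.rank a b c hc, H.rank a d j (by ndg)] at h'
      exact h'
    rw [Submodule.eq_of_le_of_finrank_le hle (by omega)]
    have := cone H (show [a, b, c, j, d].Nodup by ndg)
    rwa [W3_swap H (show [a, d, j].Nodup by ndg)] at this
  have hne2 : ¬ finrank k U ≤ 2 := by
    intro h2
    have := six_le_of_pencil H hab (U := U) fun j hj => ?_
    · omega
    by_cases hjc : j = c
    · rw [hjc]; exact le_sup_left
    by_cases hjd : j = d
    · rw [hjd]; exact le_sup_right
    obtain ⟨σ, hσ, hm⟩ := exists_even_map ![a, b, c, d] ![a, b, c, j]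
      (by rw [← List.nodup_ofFn]; simpa [List.ofFn_succ] using h)
      (by rw [← List.nodup_ofFn]; simpa [List.ofFn_succ] using (show [a, b, c, j].Nodup by ndg))
      (by have := H.nine; omega)
    have ea : σ a = a := hm 0
    have eb : σ b = b := hm 1
    have ec : σ c = c := hm 2
    have ed : σ d = j := hm 3
    have e : W3 ρ a b d = W3 ρ a b c := by
      have e1 : W3 ρ a b c = U := Submodule.eq_of_le_of_finrank_le le_sup_left (by
        rw [H.rank a b c hc]; exact h2)
      have e2 : W3 ρ a b d = U := Submodule.eq_of_le_of_finrank_le le_sup_right (by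
        rw [H.rank a b d hd]; exact h2)
      rw [e1, e2]
    have h1 := W3_conj_le H hd hσ
    rw [ea, eb, ed, e] at h1
    have h2' := map_W3_le H hc hσ
    rw [ea, eb, ec] at h2'
    exact (h1.trans h2').trans le_sup_left
  have hle4 : finrank k U ≤ 4 := by
    have h' := Submodule.finrank_add_le_finrank_add_finrank (W3 ρ a b c) (W3 ρ a b d)
    rw [H.rank a b c hc, H.rank a b d hd] at h'
    exact h'
  omega

theorem line_third (H : ρ.Three) {a b c d e : Fin r} (h : [a, b, c, d, e].Nodup) :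
    W3 ρ a b c ⊓ W3 ρ a b d = W3 ρ a b c ⊓ W3 ρ a b e := by
  have hr := H.nine
  have hc : [a, b, c].Nodup := by ndg
  have hd : [a, b, d].Nodup := by ndg
  obtain ⟨u1, l1⟩ := finrank_pair H (show [a, b, c, d].Nodup by ndg)
  obtain ⟨-, l2⟩ := finrank_pair H (show [a, b, c, e].Nodup by ndg)
  obtain ⟨-, l3⟩ := finrank_pair H (show [a, b, d, e].Nodup by ndg)
  set U := W3 ρ a b c ⊔ W3 ρ a b d with hU
  have hne : ¬ W3 ρ a b e ≤ U := by
    intro he
    have := six_le_of_pencil H (show a ≠ b by ndg) (U := U) fun j hj => ?_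
    · omega
    by_cases hjc : j = c
    · rw [hjc]; exact le_sup_left
    by_cases hjd : j = d
    · rw [hjd]; exact le_sup_right
    obtain ⟨σ, hσ, hm⟩ := exists_even_map ![a, b, c, d, e] ![a, b, c, d, j]
      (by rw [← List.nodup_ofFn]; simpa [List.ofFn_succ] using h)
      (by rw [← List.nodup_ofFn]; simpa [List.ofFn_succ] using (show [a, b, c, d, j].Nodup by ndg))
      (by omega)
    have ea : σ a = a := hm 0
    have eb : σ b = b := hm 1
    have ec : σ c = c := hm 2
    have ed : σ d = d := hm 3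
    have ee : σ e = j := hm 4
    have h1 := W3_conj_le H (show [a, b, e].Nodup by ndg) hσ
    rw [ea, eb, ee] at h1
    refine h1.trans ((Submodule.map_mono he).trans ?_)
    rw [hU, Submodule.map_sup]
    have h2 := map_W3_le H hc hσ
    have h3 := map_W3_le H hd hσ
    rw [ea, eb, ec] at h2
    rw [ea, eb, ed] at h3
    exact sup_le_sup h2 h3
  have hR : finrank k ↥(U ⊔ W3 ρ a b e) ≤ 4 := by
    have hle : U ⊔ W3 ρ a b e ≤ W3 ρ a b c ⊔ W3 ρ a d e := by
      refine sup_le (sup_le le_sup_left (cone H h)) ?_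
      have := cone H (show [a, b, c, e, d].Nodup by ndg)
      rwa [W3_swap H (show [a, d, e].Nodup by ndg)] at this
    refine (Submodule.finrank_mono hle).trans ?_
    have h' := Submodule.finrank_add_le_finrank_add_finrank (W3 ρ a b c) (W3 ρ a d e)
    rw [H.rank a b c hc, H.rank a d e (by ndg)] at h'
    exact h'
  have hlt : finrank k U < finrank k ↥(U ⊔ W3 ρ a b e) :=
    Submodule.finrank_lt_finrank_of_lt (lt_of_le_of_ne le_sup_left fun heq => hne (by
      rw [heq]; exact le_sup_right))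
  have hadd := Submodule.finrank_sup_add_finrank_inf_eq U (W3 ρ a b e)
  rw [u1, H.rank a b e (by ndg)] at hadd
  have hE : finrank k ↥(U ⊓ W3 ρ a b e) = 1 := by omega
  have e1 : W3 ρ a b c ⊓ W3 ρ a b e = U ⊓ W3 ρ a b e :=
    Submodule.eq_of_le_of_finrank_le (inf_le_inf le_sup_left le_rfl) (by omega)
  have e2 : W3 ρ a b d ⊓ W3 ρ a b e = U ⊓ W3 ρ a b e :=
    Submodule.eq_of_le_of_finrank_le (inf_le_inf le_sup_right le_rfl) (by omega)
  refine (Submodule.eq_of_le_of_finrank_le ?_ (by omega)).symm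
  intro v hv
  refine ⟨hv.1, ?_⟩
  have hv' : v ∈ U ⊓ W3 ρ a b e := e1 ▸ hv
  rw [← e2] at hv'
  exact hv'.1

open Classical in
/-- the line of the pair `{a, b}` -/
noncomputable def Ln3 (ρ : PRep k V r) (a b : Fin r) : Submodule k V :=
  if h : ∃ q : Fin r × Fin r, [a, b, q.1, q.2].Nodup then
    W3 ρ a b h.choose.1 ⊓ W3 ρ a b h.choose.2
  else ⊥

theorem Ln3_eq (H : ρ.Three) {a b c d : Fin r} (h : [a, b, c, d].Nodup) :
    Ln3 ρ a b = W3 ρ a b c ⊓ W3 ρ a b d := by
  have hex : ∃ q : Fin r × Fin r, [a, b, q.1, q.2].Nodup := ⟨(c, d), h⟩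
  rw [Ln3, dif_pos hex]
  have h' := hex.choose_spec
  generalize hex.choose.1 = c', hex.choose.2 = d' at h' ⊢
  obtain ⟨e, he⟩ := exists_avoid [a, b, c, d, c', d'] (by have := H.nine; simp; omega)
  rw [line_third H (show [a, b, c', d', e].Nodup by ndg),
    line_third H (show [a, b, c, d, e].Nodup by ndg)]
  by_cases hcc : c' = c
  · rw [hcc]
  rw [inf_comm, line_third H (show [a, b, e, c', c].Nodup by ndg), inf_comm]

theorem exists_two (H : ρ.Three) {a b : Fin r} (hab : a ≠ b) : ∃ c d, [a, b, c, d].Nodup := by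
  obtain ⟨c, d, hcd, hc, hd⟩ := exists_avoid2 [a, b] (by have := H.nine; simp; omega)
  exact ⟨c, d, by ndg⟩

theorem finrank_Ln3 (H : ρ.Three) {a b : Fin r} (hab : a ≠ b) :
    finrank k (Ln3 ρ a b) = 1 := by
  obtain ⟨c, d, h⟩ := exists_two H hab
  rw [Ln3_eq H h]; exact (finrank_pair H h).2

theorem Ln3_le (H : ρ.Three) {a b c : Fin r} (h : [a, b, c].Nodup) : Ln3 ρ a b ≤ W3 ρ a b c := by
  obtain ⟨d, hd⟩ := exists_avoid [a, b, c] (by have := H.nine; simp; omega)
  rw [Ln3_eq H (show [a, b, c, d].Nodup by ndg)]; exact inf_le_left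

theorem Ln3_comm (H : ρ.Three) {a b : Fin r} (hab : a ≠ b) : Ln3 ρ b a = Ln3 ρ a b := by
  obtain ⟨c, d, h⟩ := exists_two H hab
  rw [Ln3_eq H h, Ln3_eq H (show [b, a, c, d].Nodup by ndg)]
  rw [W3_swap H (show [b, c, a].Nodup by ndg), W3_rot H (show [a, b, c].Nodup by ndg),
    W3_swap H (show [b, d, a].Nodup by ndg), W3_rot H (show [a, b, d].Nodup by ndg)]

theorem Ln3_conj (H : ρ.Three) {a b : Fin r} (hab : a ≠ b) {σ : Perm (Fin r)} {G : GV k V}
    (hσ : Perm.sign σ = 1) (hG : ρ.Lifts σ G) {v : V} (hv : v ∈ Ln3 ρ a b) :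
    (G : Module.End k V) v ∈ Ln3 ρ (σ a) (σ b) := by
  obtain ⟨c, d, h⟩ := exists_two H hab
  rw [Ln3_eq H h] at hv
  rw [Ln3_eq H (show [σ a, σ b, σ c, σ d].Nodup by simpa using nodup_map σ h)]
  exact ⟨W3_conj H.nine (by ndg) hσ hG hv.1, W3_conj H.nine (by ndg) hσ hG hv.2⟩

theorem Ln3_fix (H : ρ.Three) {a b d e g : Fin r} (h : [a, b, d, e, g].Nodup) {v : V}
    (hv : v ∈ Ln3 ρ a b) : (x3 ρ d e g : Module.End k V) v = v := by
  obtain ⟨c, hc⟩ := exists_avoid [a, b, d, e, g] (by have := H.nine; simp; omega)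
  exact H.fix a b c d e g (by ndg) v (Ln3_le H (by ndg) hv)

theorem Ln3_disjoint (H : ρ.Three) {a b c d : Fin r} (h : [a, b, c, d].Nodup) :
    Ln3 ρ a b ⊓ Ln3 ρ c d = ⊥ := by
  obtain ⟨e, g, heg, he, hg⟩ := exists_avoid2 [a, b, c, d] (by have := H.nine; simp; omega)
  rw [eq_bot_iff, ← W3_disjoint H (show [a, b, e, c, d, g].Nodup by ndg)]
  exact inf_le_inf (Ln3_le H (by ndg)) (Ln3_le H (by ndg))

theorem Ln3_eq_of_inf_ne (H : ρ.Three) {a b c d : Fin r} (hab : a ≠ b) (hcd : c ≠ d)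
    (h : Ln3 ρ a b ⊓ Ln3 ρ c d ≠ ⊥) : Ln3 ρ a b = Ln3 ρ c d := by
  have h1 := Submodule.one_le_finrank_iff.2 h
  have e1 : Ln3 ρ a b ⊓ Ln3 ρ c d = Ln3 ρ a b :=
    Submodule.eq_of_le_of_finrank_le inf_le_left (by rw [finrank_Ln3 H hab]; exact h1)
  have e2 : Ln3 ρ a b ⊓ Ln3 ρ c d = Ln3 ρ c d :=
    Submodule.eq_of_le_of_finrank_le inf_le_right (by rw [finrank_Ln3 H hcd]; exact h1)
  exact e1.symm.trans e2

theorem Ln3_share (H : ρ.Three) {a b c : Fin r} (h : [a, b, c].Nodup) :
    Ln3 ρ a b ⊓ Ln3 ρ a c = ⊥ := by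
  by_contra hne
  have hL := Ln3_eq_of_inf_ne H (by ndg) (by ndg) hne
  set L := Ln3 ρ a b with hLdef
  -- every line through `a` is `L`
  have hstar : ∀ d, [a, b, d].Nodup → Ln3 ρ a d = L := by
    intro d hd
    obtain ⟨σ, hσ, hm⟩ := exists_even_map ![a, b, c] ![a, b, d]
      (by rw [← List.nodup_ofFn]; simpa [List.ofFn_succ] using h)
      (by rw [← List.nodup_ofFn]; simpa [List.ofFn_succ] using hd)
      (by have := H.nine; omega)
    have ea : σ a = a := hm 0
    have eb : σ b = b := hm 1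
    have ec : σ c = d := hm 2
    obtain ⟨v, hv, hv0⟩ := (Submodule.ne_bot_iff L).1 (Submodule.one_le_finrank_iff.1
      (finrank_Ln3 H (show a ≠ b by ndg)).ge)
    have h1 := Ln3_conj H (show a ≠ b by ndg) hσ (ρ.lifts_f σ) hv
    rw [hL] at hv
    have h2 := Ln3_conj H (show a ≠ c by ndg) hσ (ρ.lifts_f σ) hv
    rw [ea, eb] at h1
    rw [ea, ec] at h2
    exact (Ln3_eq_of_inf_ne H (by ndg) (by ndg) ((Submodule.ne_bot_iff _).2
      ⟨_, ⟨h2, h1⟩, fun h0 => hv0 (gv_injective (ρ.f σ) (by rw [h0, map_zero]))⟩))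
  -- so all lines are `L`
  have hall : ∀ p q, [a, p, q].Nodup → Ln3 ρ a p = L → Ln3 ρ a q = L → Ln3 ρ p q = L := by
    intro p q hpq hp hq
    have ht := tc_apply (a := a) (b := p) (c := q) (by ndg) (by ndg) (by ndg)
    obtain ⟨v, hv, hv0⟩ := (Submodule.ne_bot_iff L).1 (Submodule.one_le_finrank_iff.1
      (finrank_Ln3 H (show a ≠ b by ndg)).ge)
    have hvp : v ∈ Ln3 ρ a p := hp ▸ hv
    have hvq : v ∈ Ln3 ρ a q := hq ▸ hv
    have h1 := Ln3_conj H (show a ≠ p by ndg) (sign_tc' hpq) (lifts_x3 H.nine hpq) hvp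
    have h2 := Ln3_conj H (show a ≠ q by ndg) (sign_tc' hpq) (lifts_x3 H.nine hpq) hvq
    rw [ht.1, ht.2.1] at h1
    rw [ht.1, ht.2.2, Ln3_comm H (show a ≠ p by ndg), hp] at h2
    rw [← hp] at h2
    exact (Ln3_eq_of_inf_ne H (by ndg) (by ndg) ((Submodule.ne_bot_iff _).2
      ⟨_, ⟨h1, h2⟩, fun h0 => hv0 (gv_injective (x3 ρ a p q) (by rw [h0, map_zero]))⟩)).trans hp
  obtain ⟨d, e, hde, hd, he⟩ := exists_avoid2 [a, b, c] (by have := H.nine; simp; omega)
  have e1 := hall b d (by ndg) rfl (hstar d (by ndg))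
  have e2 := hall c e (by ndg) (hstar c h) (hstar e (by ndg))
  have := Ln3_disjoint H (show [b, d, c, e].Nodup by ndg)
  rw [e1, e2, inf_idem] at this
  exact hne (le_bot_iff.1 (this ▸ inf_le_left))

/-- the product formula for lifts of three-cycles sharing two points -/
theorem x3_prod (H : ρ.Three) {t j a b : Fin r} (h : [t, j, a, b].Nodup) :
    x3 ρ t j a = x3 ρ t j b * x3 ρ j a b := by
  have h1 : [t, j, b].Nodup := by ndg
  have h2 : [j, a, b].Nodup := by ndg
  have h3 : [t, j, a].Nodup := by ndg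
  have hperm : tc t j b * tc j a b = tc t j a := by
    rw [nodup_four] at h
    ext x
    simp [tc, Equiv.swap_apply_def]
    grind
  have l := (lifts_x3 (ρ := ρ) H.nine h1).mul (sign_tc' h1) (sign_tc' h2) (lifts_x3 H.nine h2)
  rw [hperm] at l
  obtain ⟨μ, hμ⟩ := l.unique (lifts_x3 H.nine h3)
  suffices hμ1 : μ = 1 by rw [hμ, hμ1, map_one, one_mul]
  by_contra hne
  -- the common fixed space of the two factors
  have hfix : ∀ a b c : Fin r, [a, b, c].Nodup → finrank k V ≤
      finrank k (LinearMap.ker ((x3 ρ a b c : Module.End k V) - 1)) + 2 := by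
    intro a b c h
    have := LinearMap.finrank_range_add_finrank_ker ((x3 ρ a b c : Module.End k V) - 1)
    have hle : LinearMap.range ((x3 ρ a b c : Module.End k V) - 1) ≤ W3 ρ a b c := by
      rintro _ ⟨v, rfl⟩
      rw [LinearMap.sub_apply, Module.End.one_apply]
      exact H.toChar2.sub_mem_W3 h v
    have h' := Submodule.finrank_mono hle
    rw [H.rank a b c h] at h'
    omega
  set A := LinearMap.ker ((x3 ρ t j b : Module.End k V) - 1)
  set B := LinearMap.ker ((x3 ρ j a b : Module.End k V) - 1)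
  have hadd := Submodule.finrank_sup_add_finrank_inf_eq A B
  have hle := Submodule.finrank_le (A ⊔ B)
  have f1 : finrank k V ≤ finrank k A + 2 := hfix _ _ _ h1
  have f2 : finrank k V ≤ finrank k B + 2 := hfix _ _ _ h2
  have hsub : A ⊓ B ≤ Module.End.eigenspace (x3 ρ t j a : Module.End k V) (μ : k) := by
    intro v hv
    have hA : (x3 ρ t j b : Module.End k V) v = v := by
      simpa [A, LinearMap.mem_ker, sub_eq_zero] using hv.1
    have hB : (x3 ρ j a b : Module.End k V) v = v := by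
      simpa [B, LinearMap.mem_ker, sub_eq_zero] using hv.2
    rw [Module.End.mem_eigenspace_iff, hμ, gv_apply_mul, gv_apply_mul, hB, hA, sc_apply]
  have hm := (Submodule.finrank_mono hsub).trans
    (H.mult t j a h3 (μ : k) (fun he => hne (Units.ext he)))
  have := H.six
  omega

/-! ### the frame -/

open Classical in
/-- frame vectors -/
noncomputable def vec3 (ρ : PRep k V r) (o t : Fin r) (v0 : V) (j : Fin r) : V :=
  if j = o then 0 else if j = t then v0 else
    if h : ∃ a, [o, t, j, a].Nodup then (x3 ρ t j h.choose : Module.End k V) v0 else 0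

/-- frame data -/
structure Frame3 (ρ : PRep k V r) (o t : Fin r) (v0 : V) : Prop where
  three : ρ.Three
  ne : o ≠ t
  mem : v0 ∈ Ln3 ρ o t
  nz : v0 ≠ 0

variable {o t : Fin r} {v0 : V}

theorem Frame3.vec_t (F : ρ.Frame3 o t v0) : vec3 ρ o t v0 t = v0 := by
  rw [vec3, if_neg F.ne.symm, if_pos rfl]

theorem Frame3.vec_eq (F : ρ.Frame3 o t v0) {j a : Fin r} (h : [o, t, j, a].Nodup) :
    vec3 ρ o t v0 j = (x3 ρ t j a : Module.End k V) v0 := by
  have hex : ∃ a, [o, t, j, a].Nodup := ⟨a, h⟩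
  rw [vec3, if_neg (by ndg), if_neg (by ndg), dif_pos hex]
  have h' := hex.choose_spec
  generalize hex.choose = b at h' ⊢
  by_cases hab : b = a
  · rw [hab]
  rw [x3_prod F.three (show [t, j, b, a].Nodup by ndg), gv_apply_mul,
    Ln3_fix F.three (show [o, t, j, b, a].Nodup by ndg) F.mem]

theorem Frame3.vec_mem (F : ρ.Frame3 o t v0) {j : Fin r} (hj : j ≠ o) :
    vec3 ρ o t v0 j ∈ Ln3 ρ o j ∧ vec3 ρ o t v0 j ≠ 0 := by
  by_cases hjt : j = t
  · subst hjt; rw [F.vec_t]; exact ⟨F.mem, F.nz⟩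
  have hne := F.ne
  obtain ⟨a, ha⟩ := exists_avoid [o, t, j] (by have := F.three.nine; simp; omega)
  have h4 : [o, t, j, a].Nodup := by ndg
  have h3 : [t, j, a].Nodup := by ndg
  rw [F.vec_eq h4]
  refine ⟨?_, fun h0 => F.nz (gv_injective _ (by rw [h0, map_zero]))⟩
  have := Ln3_conj F.three F.ne (sign_tc' h3) (lifts_x3 F.three.nine h3) F.mem
  rwa [tc_apply_of_ne (x := o) (by ndg) (by ndg) (by ndg),
    (tc_apply (a := t) (b := j) (c := a) (by ndg) (by ndg) (by ndg)).1] at this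

theorem Frame3.equiv_fix (F : ρ.Frame3 o t v0) {a b c : Fin r} (h : [o, t, a, b, c].Nodup)
    {i : Fin r} (hi : i ≠ o) :
    (x3 ρ a b c : Module.End k V) (vec3 ρ o t v0 i) = vec3 ρ o t v0 (tc a b c i) := by
  have h3 : [a, b, c].Nodup := by ndg
  have σo : tc a b c o = o := tc_apply_of_ne (by ndg) (by ndg) (by ndg)
  have σt : tc a b c t = t := tc_apply_of_ne (by ndg) (by ndg) (by ndg)
  by_cases hit : i = t
  · rw [hit, σt, F.vec_t, Ln3_fix F.three h F.mem]
  obtain ⟨y, hy⟩ := exists_avoid [o, t, i] (by have := F.three.nine; simp; omega)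
  have h4 : [o, t, i, y].Nodup := by have := F.ne; ndg
  have h4' : [o, t, tc a b c i, tc a b c y].Nodup := by
    have := nodup_map (tc a b c) h4
    simpa [σo, σt] using this
  rw [F.vec_eq h4, F.vec_eq h4', ← apply_conj3 F.three.nine (show [t, i, y].Nodup by ndg)
    (sign_tc' h3) (lifts_x3 F.three.nine h3), σt, Ln3_fix F.three h F.mem]

theorem Frame3.equiv_t (F : ρ.Frame3 o t v0) {j l : Fin r} (h : [o, t, j, l].Nodup) {i : Fin r}
    (hi : i ≠ o) :
    (x3 ρ t j l : Module.End k V) (vec3 ρ o t v0 i) = vec3 ρ o t v0 (tc t j l i) := by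
  have h3 : [t, j, l].Nodup := by ndg
  obtain ⟨t1, t2, t3⟩ := tc_apply (a := t) (b := j) (c := l) (by ndg) (by ndg) (by ndg)
  have hl : vec3 ρ o t v0 l = (x3 ρ t l j : Module.End k V) v0 := F.vec_eq (by ndg)
  by_cases hit : i = t
  · rw [hit, t1, F.vec_t, F.vec_eq h]
  by_cases hij : i = j
  · rw [hij, t2, hl, F.vec_eq h, ← x3_inv F.three.nine h3, ← gv_apply_mul]
    have h3' := x3_cube (ρ := ρ) F.three.nine h3
    rw [pow_succ, pow_two] at h3'
    rw [eq_inv_of_mul_eq_one_left h3']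
  by_cases hil : i = l
  · rw [hil, t3, F.vec_t, hl, F.three.apply_inv (show [t, l, j].Nodup by ndg)]
  obtain ⟨y, hy⟩ := exists_avoid [o, t, j, l, i] (by have := F.three.nine; simp; omega)
  have := F.ne
  rw [tc_apply_of_ne hit hij hil, F.vec_eq (show [o, t, i, y].Nodup by ndg),
    ← apply_conj3 F.three.nine (show [t, i, y].Nodup by ndg) (sign_tc' h3)
      (lifts_x3 F.three.nine h3), t1, tc_apply_of_ne hit hij hil,
    tc_apply_of_ne (x := y) (by ndg) (by ndg) (by ndg), ← F.vec_eq h,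
    F.equiv_fix (show [o, t, j, i, y].Nodup by ndg) (show j ≠ o by ndg),
    (tc_apply (a := j) (b := i) (c := y) (by ndg) (by ndg) (by ndg)).1,
    F.vec_eq (show [o, t, i, y].Nodup by ndg)]

theorem Frame3.equiv (F : ρ.Frame3 o t v0) {a b c : Fin r} (h : [o, a, b, c].Nodup) {i : Fin r}
    (hi : i ≠ o) :
    (x3 ρ a b c : Module.End k V) (vec3 ρ o t v0 i) = vec3 ρ o t v0 (tc a b c i) := by
  have h3 : [a, b, c].Nodup := by ndg
  by_cases ha : a = t
  · subst ha; exact F.equiv_t h hi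
  by_cases hb : b = t
  · subst hb
    rw [← x3_rot F.three.nine h3, ← tc_rot h3]
    exact F.equiv_t (by ndg) hi
  by_cases hc : c = t
  · subst hc
    have h3' : [b, c, a].Nodup := by ndg
    rw [← x3_rot F.three.nine h3, ← x3_rot F.three.nine h3', ← tc_rot h3, ← tc_rot h3']
    exact F.equiv_t (by ndg) hi
  have := F.ne
  exact F.equiv_fix (by ndg) hi

theorem Frame3.indep2 (F : ρ.Frame3 o t v0) {a b : Fin r} (h : [o, a, b].Nodup) {α β : k}
    (hz : α • vec3 ρ o t v0 a + β • vec3 ρ o t v0 b = 0) : α = 0 ∧ β = 0 := by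
  obtain ⟨ma, na⟩ := F.vec_mem (show a ≠ o by ndg)
  obtain ⟨mb, nb⟩ := F.vec_mem (show b ≠ o by ndg)
  have hmem : α • vec3 ρ o t v0 a ∈ Ln3 ρ o a ⊓ Ln3 ρ o b :=
    ⟨Submodule.smul_mem _ _ ma, by
      rw [eq_neg_of_add_eq_zero_left hz]
      exact Submodule.neg_mem _ (Submodule.smul_mem _ _ mb)⟩
  rw [Ln3_share F.three h, Submodule.mem_bot] at hmem
  refine ⟨(smul_eq_zero.1 hmem).resolve_right na, ?_⟩
  rw [hmem, zero_add] at hz
  exact (smul_eq_zero.1 hz).resolve_right nb

theorem Frame3.pair_line (F : ρ.Frame3 o t v0) {a b : Fin r} (h : [o, a, b].Nodup) :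
    vec3 ρ o t v0 a + vec3 ρ o t v0 b ∈ Ln3 ρ a b ∧
      vec3 ρ o t v0 a + vec3 ρ o t v0 b ≠ 0 := by
  have H := F.three
  have hr := H.nine
  set u := vec3 ρ o t v0 with hu
  refine ⟨?_, fun h0 => one_ne_zero (F.indep2 h (α := (1 : k)) (β := 1) (by simpa using h0)).1⟩
  obtain ⟨w, hw, hw0⟩ := (Submodule.ne_bot_iff _).1
    (Submodule.one_le_finrank_iff.1 (finrank_Ln3 H (show a ≠ b by ndg)).ge)
  -- the plane of `(o a b)`
  have hind : LinearIndependent k ![u a, u b] :=
    LinearIndependent.pair_iff.2 fun α β hz => F.indep2 h hz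
  have hab3 : [o, a, b].Nodup := h
  have ha : u a ∈ W3 ρ o a b := Ln3_le H h (F.vec_mem (show a ≠ o by ndg)).1
  have hb : u b ∈ W3 ρ o a b := by
    rw [← W3_swap H h]; exact Ln3_le H (by ndg) (F.vec_mem (show b ≠ o by ndg)).1
  have hsp : Submodule.span k (Set.range ![u a, u b]) = W3 ρ o a b := by
    refine Submodule.eq_of_le_of_finrank_eq (Submodule.span_le.2 ?_) ?_
    · rintro _ ⟨s, rfl⟩
      fin_cases s
      · exact ha
      · exact hb
    · rw [finrank_span_eq_card hind, H.rank o a b h, Fintype.card_fin]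
  have hw' : w ∈ Submodule.span k ({u a, u b} : Set V) := by
    rw [← Matrix.range_cons_cons_empty (u a) (u b) ![], hsp, ← W3_rot H h]
    exact Ln3_le H (show [a, b, o].Nodup by ndg) hw
  obtain ⟨α, β, hαβ⟩ := Submodule.mem_span_pair.1 hw'
  obtain ⟨x, y, hxy, hx, hy⟩ := exists_avoid2 [o, a, b] (by simp; omega)
  have n1 : [o, a, b, x].Nodup := by ndg
  have n2 : [o, b, x, y].Nodup := by ndg
  have n1' : [a, b, x].Nodup := by ndg
  have n2' : [b, x, y].Nodup := by ndg
  obtain ⟨p1, p2, p3⟩ := tc_apply (a := a) (b := b) (c := x) (by ndg) (by ndg) (by ndg)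
  obtain ⟨q1, q2, q3⟩ := tc_apply (a := b) (b := x) (c := y) (by ndg) (by ndg) (by ndg)
  have qa : tc b x y a = a := tc_apply_of_ne (by ndg) (by ndg) (by ndg)
  have h1 := Ln3_conj H (show a ≠ b by ndg) (sign_tc' n2') (lifts_x3 hr n2') hw
  rw [qa, q1] at h1
  have h2 := Ln3_conj H (show a ≠ x by ndg) (sign_tc' n1') (lifts_x3 hr n1') h1
  rw [p1, p3, Ln3_comm H (show a ≠ b by ndg)] at h2
  obtain ⟨s, hs⟩ : ∃ s : k, (x3 ρ a b x : Module.End k V) ((x3 ρ b x y : Module.End k V) w) =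
      s • w := by
    obtain ⟨⟨g, hg⟩, -, hgen⟩ := finrank_eq_one_iff'.1 (finrank_Ln3 H (show a ≠ b by ndg))
    obtain ⟨cw, hcw⟩ := hgen ⟨w, hw⟩
    obtain ⟨cz, hcz⟩ := hgen ⟨_, h2⟩
    have hcw' : cw • g = w := congrArg Subtype.val hcw
    have hcz' : cz • g = (x3 ρ a b x : Module.End k V) ((x3 ρ b x y : Module.End k V) w) :=
      congrArg Subtype.val hcz
    have hcw0 : cw ≠ 0 := by rintro rfl; exact hw0 (by rw [← hcw', zero_smul])
    exact ⟨cz * cw⁻¹, by rw [← hcz', ← hcw', smul_smul, inv_mul_cancel_right₀ hcw0]⟩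
  rw [← hαβ, map_add, map_add, map_smul, map_smul, map_smul, map_smul, hu,
    F.equiv n2 (show a ≠ o by ndg), F.equiv n2 (show b ≠ o by ndg), qa, q1,
    F.equiv n1 (show a ≠ o by ndg), F.equiv n1 (show x ≠ o by ndg), p1, p3, ← hu] at hs
  have hz : (β - s * α) • u a + (α - s * β) • u b = 0 := by
    linear_combination (norm := module) hs
  obtain ⟨e1, e2⟩ := F.indep2 h hz
  have hα : α ≠ 0 := by
    rintro rfl
    rw [mul_zero, sub_zero] at e1
    apply hw0
    rw [← hαβ, e1, zero_smul, zero_smul, add_zero]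
  have hs2 : (s - 1) * (s - 1) = 0 := by
    have : α * (1 - s * s) = 0 := by linear_combination e2 + s * e1
    have h12 := (mul_eq_zero.1 this).resolve_left hα
    linear_combination (-1 : k) * h12 + (1 - s) * H.two
  have hs1 : s = 1 := sub_eq_zero.1 (mul_self_eq_zero.1 hs2)
  have hβ : β = α := by linear_combination e1 + α * hs1
  have : u a + u b = α⁻¹ • w := by
    rw [← hαβ, hβ, ← smul_add, smul_smul, inv_mul_cancel₀ hα, one_smul]
  rw [this]
  exact Submodule.smul_mem _ _ hw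

theorem Frame3.line_eq (F : ρ.Frame3 o t v0) {a b : Fin r} (h : [o, a, b].Nodup) {w : V}
    (hw : w ∈ Ln3 ρ a b) : ∃ c : k, w = c • (vec3 ρ o t v0 a + vec3 ρ o t v0 b) := by
  obtain ⟨hm, hne⟩ := F.pair_line h
  obtain ⟨c, hc⟩ := (finrank_eq_one_iff_of_nonzero'
    (⟨_, hm⟩ : Ln3 ρ a b) (fun h0 => hne (congrArg Subtype.val h0))).1
    (finrank_Ln3 F.three (show a ≠ b by ndg)) ⟨w, hw⟩
  exact ⟨c, (congrArg Subtype.val hc).symm⟩

set_option maxHeartbeats 2000000 in
/-- the three-cycle through `o` -/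
theorem Frame3.move_o (F : ρ.Frame3 o t v0) {j : Fin r} (h : [o, t, j].Nodup) :
    (x3 ρ o t j : Module.End k V) v0 = v0 + vec3 ρ o t v0 j ∧
    (x3 ρ o t j : Module.End k V) (vec3 ρ o t v0 j) = v0 ∧
    ∀ i, i ∉ [o, t, j] →
      (x3 ρ o t j : Module.End k V) (vec3 ρ o t v0 i) = v0 + vec3 ρ o t v0 i := by
  have H := F.three
  have hr := H.nine
  obtain ⟨t1, t2, t3⟩ := tc_apply (a := o) (b := t) (c := j) (by ndg) (by ndg) (by ndg)
  have lg := lifts_x3 (ρ := ρ) hr h
  have sg := sign_tc' h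
  set g := (x3 ρ o t j : Module.End k V) with hg
  have hj := F.vec_mem (show j ≠ o by ndg)
  have m0 := Ln3_conj H F.ne sg lg F.mem
  rw [t1, t2] at m0
  obtain ⟨c, hc⟩ := F.line_eq h m0
  rw [F.vec_t, ← hg] at hc
  have mj := Ln3_conj H (show o ≠ j by ndg) sg lg hj.1
  rw [t1, t3, Ln3_comm H F.ne] at mj
  obtain ⟨d, hd⟩ := (finrank_eq_one_iff_of_nonzero'
    (⟨v0, F.mem⟩ : Ln3 ρ o t) (fun h0 => F.nz (congrArg Subtype.val h0))).1
    (finrank_Ln3 H F.ne) ⟨_, mj⟩
  have hd' : g (vec3 ρ o t v0 j) = d • v0 := (congrArg Subtype.val hd).symm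
  have hw := mem_W3.1 (Ln3_le H h F.mem)
  rw [← hg, hc, map_smul, map_add, hc, hd'] at hw
  have hz : (c * c + c * d + c + 1) • vec3 ρ o t v0 t + (c * c + c) • vec3 ρ o t v0 j = 0 := by
    rw [F.vec_t]; linear_combination (norm := module) hw
  obtain ⟨e1, e2⟩ := F.indep2 (show [o, t, j].Nodup from h) hz
  have hc0 : c ≠ 0 := by
    rintro rfl
    simp at e1
  have hc1 : c = 1 := by
    have : c * (c + 1) = 0 := by linear_combination e2
    linear_combination (mul_eq_zero.1 this).resolve_left hc0 - H.two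
  subst hc1
  have hd1 : d = 1 := by linear_combination e1 - 2 * H.two
  subst hd1
  rw [one_smul] at hc hd'
  refine ⟨hc, hd', fun i hi => ?_⟩
  have hio : [o, t, i].Nodup := by ndg
  have mi := Ln3_conj H (show o ≠ i by ndg) sg lg (F.vec_mem (show i ≠ o by ndg)).1
  rw [t1, tc_apply_of_ne (x := i) (by ndg) (by ndg) (by ndg)] at mi
  obtain ⟨c', hc'⟩ := F.line_eq hio mi
  rw [F.vec_t, ← hg] at hc'
  suffices c' = 1 by rw [hc', this, one_smul]
  by_contra hne
  have hW : vec3 ρ o t v0 i ∈ W3 ρ o t j := by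
    have h1 := H.toChar2.sub_mem_W3 h (vec3 ρ o t v0 i)
    rw [← hg, hc'] at h1
    have h2 : (c' - 1) • vec3 ρ o t v0 i ∈ W3 ρ o t j := by
      have := sub_mem h1 (Submodule.smul_mem _ c' (Ln3_le H h F.mem))
      convert this using 1
      module
    have := Submodule.smul_mem _ (c' - 1)⁻¹ h2
    rwa [smul_smul, inv_mul_cancel₀ (sub_ne_zero.2 hne), one_smul] at this
  have hW' : vec3 ρ o t v0 i ∈ W3 ρ o t i := by
    rw [← W3_swap H hio]
    exact Ln3_le H (by ndg) (F.vec_mem (show i ≠ o by ndg)).1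
  have hL : vec3 ρ o t v0 i ∈ Ln3 ρ o t ⊓ Ln3 ρ o i :=
    ⟨(Ln3_eq H (show [o, t, j, i].Nodup by ndg)).symm ▸ ⟨hW, hW'⟩,
      (F.vec_mem (show i ≠ o by ndg)).1⟩
  rw [Ln3_share H hio, Submodule.mem_bot] at hL
  exact (F.vec_mem (show i ≠ o by ndg)).2 hL

theorem Frame3.relation_const (F : ρ.Frame3 o t v0) {c : Fin r → k} (hco : c o = 0)
    (hc : ∑ i, c i • vec3 ρ o t v0 i = 0) {a b : Fin r} (ha : a ≠ o) (hb : b ≠ o) :
    c a = c b := by
  by_cases hab : a = b
  · rw [hab]
  have H := F.three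
  obtain ⟨x, hx⟩ := exists_avoid [o, a, b] (by have := H.nine; simp; omega)
  have h4 : [o, a, x, b].Nodup := by ndg
  set σ := tc a x b with hσ
  set u := vec3 ρ o t v0 with hu
  have h1 : ∑ i, c i • u (σ i) = 0 := by
    have := congrArg (x3 ρ a x b : Module.End k V) hc
    rw [map_sum, map_zero] at this
    rw [← this]
    refine Finset.sum_congr rfl fun i _ => ?_
    rw [map_smul]
    by_cases hio : i = o
    · rw [hio, hco, zero_smul, zero_smul]
    · rw [F.equiv h4 hio]
  have h0 : ∑ i, c i • (u i - u (σ i)) = 0 := by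
    simp only [smul_sub, Finset.sum_sub_distrib]
    rw [hc, h1, sub_zero]
  obtain ⟨t1, t2, t3⟩ := tc_apply (a := a) (b := x) (c := b) (by ndg) (by ndg) (by ndg)
  have hfin : ∑ i, c i • (u i - u (σ i)) =
      ∑ i ∈ ({a, x, b} : Finset (Fin r)), c i • (u i - u (σ i)) := by
    symm
    refine Finset.sum_subset (Finset.subset_univ _) fun i _ hi => ?_
    simp only [Finset.mem_insert, Finset.mem_singleton, not_or] at hi
    rw [hσ, tc_apply_of_ne hi.1 hi.2.1 hi.2.2, sub_self, smul_zero]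
  rw [hfin, Finset.sum_insert (by simp; ndg), Finset.sum_insert (by simp; ndg),
    Finset.sum_singleton, hσ, t1, t2, t3] at h0
  have hz : (c a - c b) • (u a - u x) + (c x - c b) • (u x - u b) = 0 := by
    rw [← h0]; module
  have hsub : ∀ p q : V, p - q = p + q := fun p q => by
    rw [sub_eq_add_neg, H.toChar2.neg_eq]
  rw [hsub, hsub] at hz
  obtain ⟨m1, n1⟩ := F.pair_line (show [o, a, x].Nodup by ndg)
  obtain ⟨m2, -⟩ := F.pair_line (show [o, x, b].Nodup by ndg)
  have hmem : (c a - c b) • (u a + u x) ∈ Ln3 ρ x a ⊓ Ln3 ρ x b :=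
    ⟨by rw [Ln3_comm H (show a ≠ x by ndg)]; exact Submodule.smul_mem _ _ m1, by
      rw [eq_neg_of_add_eq_zero_left hz]
      exact Submodule.neg_mem _ (Submodule.smul_mem _ _ m2)⟩
  rw [Ln3_share H (show [x, a, b].Nodup by ndg), Submodule.mem_bot] at hmem
  exact sub_eq_zero.1 ((smul_eq_zero.1 hmem).resolve_right n1)

theorem Three.bound (H : ρ.Three) :
    r - 2 ≤ finrank k V ∧ ((r : k) ≠ 0 → r - 1 ≤ finrank k V) := by
  classical
  have hr := H.nine
  set o : Fin r := ⟨0, by omega⟩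
  set t : Fin r := ⟨1, by omega⟩
  have hot : o ≠ t := by simp [o, t, Fin.ext_iff]
  obtain ⟨⟨v0, hv0⟩, hne0, -⟩ := finrank_eq_one_iff'.1 (finrank_Ln3 H hot)
  have F : ρ.Frame3 o t v0 := ⟨H, hot, hv0, fun h0 => hne0 (Subtype.ext h0)⟩
  have hext : ∀ (s : Finset (Fin r)), o ∉ s → ∀ g : {i // i ∈ s} → k,
      ∑ i, g i • vec3 ρ o t v0 i.1 = 0 →
      ∃ c : Fin r → k, c o = 0 ∧ ∑ i, c i • vec3 ρ o t v0 i = 0 ∧ (∀ i, c i.1 = g i) ∧
        ∀ i, i ∉ s → c i = 0 := by
    intro s hs g hg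
    refine ⟨fun i => if h : i ∈ s then g ⟨i, h⟩ else 0, by simp [hs], ?_,
      fun i => by simp [i.2], fun i hi => by simp [hi]⟩
    rw [← hg, ← Finset.sum_subset (Finset.subset_univ s) (by intro i _ hi; simp [hi]),
      ← Finset.sum_attach s]
    exact Finset.sum_congr rfl fun i _ => by simp
  constructor
  · set s : Finset (Fin r) := (Finset.univ.erase o).erase t with hs
    have hos : o ∉ s := by simp [hs]
    have hts : t ∉ s := by simp [hs]
    have li : LinearIndependent k (fun i : {i // i ∈ s} => vec3 ρ o t v0 i.1) := by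
      rw [Fintype.linearIndependent_iff]
      intro g hg i
      obtain ⟨c, hco, hc, hcg, hcs⟩ := hext s hos g hg
      rw [← hcg, F.relation_const hco hc (show i.1 ≠ o from fun h => hos (h ▸ i.2)) hot.symm]
      exact hcs t hts
    have hcard : Fintype.card {i // i ∈ s} = r - 2 := by
      rw [Fintype.card_coe, hs, Finset.card_erase_of_mem (by simp [hot.symm]),
        Finset.card_erase_of_mem (Finset.mem_univ o), Finset.card_univ, Fintype.card_fin]
      omega
    rw [← hcard]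
    exact li.fintype_card_le_finrank
  · intro hrk
    set s : Finset (Fin r) := Finset.univ.erase o with hs
    have hos : o ∉ s := by simp [hs]
    have li : LinearIndependent k (fun i : {i // i ∈ s} => vec3 ρ o t v0 i.1) := by
      rw [Fintype.linearIndependent_iff]
      intro g hg i
      obtain ⟨c, hco, hc, hcg, hcs⟩ := hext s hos g hg
      set ct := c t
      have hct : ∀ i, i ≠ o → c i = ct := fun i hi => F.relation_const hco hc hi hot.symm
      suffices ct = 0 by rw [← hcg, hct _ (show i.1 ≠ o from fun h => hos (h ▸ i.2)), this]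
      obtain ⟨j, hj⟩ := exists_avoid [o, t] (by simp; omega)
      have h3 : [o, t, j].Nodup := by ndg
      obtain ⟨m1, m2, m3⟩ := F.move_o h3
      set u := vec3 ρ o t v0 with hu
      have hut : u t = v0 := F.vec_t
      set s' := (s.erase t).erase j with hs'
      have hsj : s = insert t (insert j s') := by
        ext i
        simp only [hs', hs, Finset.mem_erase, Finset.mem_insert, Finset.mem_univ, and_true]
        simp only [List.nodup_cons, List.mem_cons, List.not_mem_nil, or_false, not_or] at h3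
        grind
      have ht' : t ∉ insert j s' := by
        simp only [List.nodup_cons, List.mem_cons, List.not_mem_nil, or_false, not_or] at h3
        simp [hs', h3.2.1]
      have hj' : j ∉ s' := by simp [hs']
      have hcard : s'.card + 3 = r := by
        have := congrArg Finset.card hsj
        rw [Finset.card_insert_of_notMem ht', Finset.card_insert_of_notMem hj', hs,
          Finset.card_erase_of_mem (Finset.mem_univ o), Finset.card_univ, Fintype.card_fin] at this
        omega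
      have hsum : ct • ∑ i ∈ s, u i = 0 := by
        rw [Finset.smul_sum, ← hc, ← Finset.sum_erase (s := Finset.univ) (a := o)
          (show c o • u o = 0 by rw [hco, zero_smul]), ← hs]
        exact Finset.sum_congr rfl fun i hi => by rw [hct i (by simpa [hs] using hi)]
      have hmem : ∀ i ∈ s', i ∉ [o, t, j] := by
        intro i hi
        simp only [hs', hs, Finset.mem_erase, Finset.mem_univ, and_true] at hi
        simp only [List.mem_cons, List.not_mem_nil, or_false, not_or]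
        exact ⟨hi.2.2, hi.2.1, hi.1⟩
      have himg : (x3 ρ o t j : Module.End k V) (∑ i ∈ s, u i) =
          (∑ i ∈ s, u i) + (r : k) • v0 := by
        rw [map_sum, hsj, Finset.sum_insert ht', Finset.sum_insert hj', Finset.sum_insert ht',
          Finset.sum_insert hj', Finset.sum_congr rfl (fun i hi => m3 i (hmem i hi)),
          Finset.sum_add_distrib, Finset.sum_const, hut, m1, m2,
          show (r : k) = (s'.card : k) + 3 by
            have := congrArg (Nat.cast : ℕ → k) hcard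
            push_cast at this
            exact this.symm,
          three_eq_one H.two, ← Nat.cast_smul_eq_nsmul k]
        module
      have := congrArg (x3 ρ o t j : Module.End k V) hsum
      rw [map_smul, map_zero, himg, smul_add, hsum, zero_add, smul_smul] at this
      exact (mul_eq_zero.1 ((smul_eq_zero.1 this).resolve_right F.nz)).resolve_right hrk
    have hcard : Fintype.card {i // i ∈ s} = r - 1 := by simp [hs]
    rw [← hcard]
    exact li.fintype_card_le_finrank

/-- the degree bound in characteristic two -/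
theorem two_bound [IsAlgClosed k] (ρ : PRep k V r) (hr : 9 ≤ r) (h2 : (2 : k) = 0) :
    r - 2 ≤ finrank k V ∧ ((r : k) ≠ 0 → r - 1 ≤ finrank k V) := by
  by_cases hn : finrank k V + 2 ≤ r
  · exact (three_of_small (ρ := ρ) ⟨hr, h2⟩ hn).bound
  · exact ⟨by omega, fun _ => by omega⟩

end PRep

end Cfsg.Agent.AltSec
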