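import Cfsg.Agent.AltSec.OddRank
import Cfsg.Agent.AltSec.TwoBound

/-! The spin case and the degree bound for projective representations. -/

namespace Cfsg.Agent.AltSec

open Equiv Module

universe u v

variable {k : Type u} {V : Type v} [Field k] [AddCommGroup V] [Module k V] {r : ℕ}

/-! ### the regular elementary subgroup of order eight -/

def e8a : Perm (Fin 8) := swap 0 1 * swap 2 3 * swap 4 5 * swap 6 7
def e8b : Perm (Fin 8) := swap 0 2 * swap 1 3 * swap 4 6 * swap 5 7
def e8c : Perm (Fin 8) := swap 0 4 * swap 1 5 * swap 2 6 * swap 3 7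
def m8 : Perm (Fin 8) := swap 1 2 * swap 2 4 * swap 4 3 * swap 3 6 * swap 6 7 * swap 7 5

set_option maxRecDepth 100000 in
theorem signs8 : Perm.sign e8a = 1 ∧ Perm.sign e8b = 1 ∧ Perm.sign e8c = 1 ∧
    Perm.sign m8 = 1 := by
  simp [e8a, e8b, e8c, m8, Perm.sign_mul, Perm.sign_swap']

set_option maxRecDepth 100000 in
theorem rel8 : e8a ^ 2 = 1 ∧ e8b ^ 2 = 1 ∧ e8c ^ 2 = 1 ∧ e8a * e8b = e8b * e8a ∧
    e8a * e8c = e8c * e8a ∧ m8 * e8a * m8⁻¹ = e8b ∧ m8 * e8b * m8⁻¹ = e8c ∧
    m8 * e8c * m8⁻¹ = e8a * e8b ∧ e8a ≠ 1 := by decide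

/-- the action of `m8` on sign patterns -/
def step8 (l : Bool) (s : Bool × Bool × Bool) : Bool × Bool × Bool :=
  (xor l (xor s.1 s.2.2), s.1, s.2.1)

theorem orbit8 : ∀ l s, s ≠ (l, l, l) →
    Function.Injective fun j : Fin 7 => (step8 l)^[j.val] s := by
  decide

/-- the sign of a bit -/
def sg (k : Type*) [Field k] (b : Bool) : k := if b then -1 else 1

theorem sg_xor (a b : Bool) : sg k (xor a b) = sg k a * sg k b := by
  cases a <;> cases b <;> simp [sg]

theorem sg_injective (h2 : (2 : k) ≠ 0) : Function.Injective (sg k) := by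
  intro a b h
  cases a <;> cases b <;> simp [sg] at h ⊢
  · exact h2 (by linear_combination h)
  · exact h2 (by linear_combination -h)

namespace PRep

variable {ρ : PRep k V r}

/-- in the spin case Klein generators anticommute -/
theorem anticomm (h2 : (2 : k) ≠ 0) (hr : 6 ≤ r) (hL : ¬ρ.Lin) {a b c d : Fin r}
    (h : [a, b, c, d].Nodup) {X Y : GV k V} (hX : ρ.Lifts (dt a b c d) X)
    (hY : ρ.Lifts (dt a c b d) Y) (v : V) :
    (X : Module.End k V) ((Y : Module.End k V) v) =
      -((Y : Module.End k V) ((X : Module.End k V) v)) := by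
  have h' : [a, c, b, d].Nodup := by rw [nodup_four] at h ⊢; tauto
  obtain ⟨η, hη⟩ := exists_scalar (sign_dt' h) (sign_dt' h') hX hY (commute_klein h)
  have hη2 : η ^ 2 = 1 := scalar_pow_eq_one (sign_dt' h') hY (dt_sq h') hη
  have hη1 : η ≠ 1 := by
    rintro rfl
    rw [map_one, one_mul] at hη
    exact hL (lin_of_one hr h (cm_of hX hY hη))
  have hval : (η : k) = -1 := by
    have h1 : (η : k) * η = 1 := by rw [← Units.val_mul, ← pow_two, hη2, Units.val_one]
    rcases mul_self_eq_one_iff.1 h1 with h1 | h1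
    · exact absurd (Units.ext h1) hη1
    · exact h1
  rw [← gv_apply_mul, hη, gv_apply_mul, gv_apply_mul, sc_apply, hval, neg_one_smul]

/-- no nonzero subspace on which a Klein pair acts by scalars -/
theorem klein_not_scalar (h2 : (2 : k) ≠ 0) (hr : 6 ≤ r) (hL : ¬ρ.Lin) {a b c d : Fin r}
    (h : [a, b, c, d].Nodup) {X Y : GV k V} (hX : ρ.Lifts (dt a b c d) X)
    (hY : ρ.Lifts (dt a c b d) Y) {v : V} (hv : v ≠ 0) {cx cy : k}
    (ex : (X : Module.End k V) v = cx • v) (ey : (Y : Module.End k V) v = cy • v) : False := by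
  have := anticomm h2 hr hL h hX hY v
  rw [ey, map_smul, ex, map_smul, ey, smul_smul, smul_smul] at this
  have hz : (2 * (cx * cy)) • v = 0 := by linear_combination (norm := module) this
  rcases mul_eq_zero.1 ((smul_eq_zero.1 hz).resolve_right hv) with h0 | h0
  · exact h2 h0
  rcases mul_eq_zero.1 h0 with h0 | h0
  · exact hv (gv_injective X (by rw [ex, h0, zero_smul, map_zero]))
  · exact hv (gv_injective Y (by rw [ey, h0, zero_smul, map_zero]))

theorem even_finrank [FiniteDimensional k V] (h2 : (2 : k) ≠ 0) (hr : 6 ≤ r) (hL : ¬ρ.Lin) :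
    Even (finrank k V) := by
  obtain ⟨a, b, c, d, h⟩ : ∃ a b c d : Fin r, [a, b, c, d].Nodup :=
    ⟨⟨0, by omega⟩, ⟨1, by omega⟩, ⟨2, by omega⟩, ⟨3, by omega⟩, by simp [List.nodup_cons]⟩
  set X : Module.End k V := (ρ.f (dt a b c d) : Module.End k V) with hXdef
  set Y : Module.End k V := (ρ.f (dt a c b d) : Module.End k V) with hYdef
  have e : X * Y = (-1 : k) • (Y * X) := by
    refine LinearMap.ext fun v => ?_
    rw [Module.End.mul_apply, LinearMap.smul_apply, Module.End.mul_apply, neg_one_smul]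
    exact anticomm h2 hr hL h (ρ.lifts_f _) (ρ.lifts_f _) v
  have e' := congrArg LinearMap.det e
  rw [map_mul, LinearMap.det_smul, map_mul] at e'
  have hX0 : LinearMap.det X ≠ 0 := ((ρ.f (dt a b c d)).isUnit.map LinearMap.det).ne_zero
  have hY0 : LinearMap.det Y ≠ 0 := ((ρ.f (dt a c b d)).isUnit.map LinearMap.det).ne_zero
  rcases Nat.even_or_odd (finrank k V) with he | ho
  · exact he
  exfalso
  rw [ho.neg_one_pow] at e'
  have : (2 : k) * (LinearMap.det X * LinearMap.det Y) = 0 := by linear_combination e'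
  rcases mul_eq_zero.1 this with h0 | h0
  · exact h2 h0
  · exact mul_ne_zero hX0 hY0 h0

theorem seven_le [IsAlgClosed k] [FiniteDimensional k V] (ρ : PRep k V r) (h2 : (2 : k) ≠ 0)
    (hr : 8 ≤ r) : 7 ≤ finrank k V := by
  classical
  have := ρ.nt
  set ι : Fin 8 ↪ Fin r := Fin.castLEEmb hr
  set A := Perm.viaEmbeddingHom ι e8a with hA
  set B := Perm.viaEmbeddingHom ι e8b with hB
  set C := Perm.viaEmbeddingHom ι e8c with hC
  set M := Perm.viaEmbeddingHom ι m8 with hM
  obtain ⟨r1, r2, r3, r4, r5, r6, r7, r8, r9⟩ := rel8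
  have sA : Perm.sign A = 1 := sign_via ι signs8.1
  have sB : Perm.sign B = 1 := sign_via ι signs8.2.1
  have sC : Perm.sign C = 1 := sign_via ι signs8.2.2.1
  have sM : Perm.sign M = 1 := sign_via ι signs8.2.2.2
  have q2 : B ^ 2 = 1 := by rw [hB, ← map_pow, r2, map_one]
  have q3 : C ^ 2 = 1 := by rw [hC, ← map_pow, r3, map_one]
  have eA : M * A * M⁻¹ = B := by rw [hM, hA, hB, ← map_inv, ← map_mul, ← map_mul, r6]
  have eB : M * B * M⁻¹ = C := by rw [hM, hB, hC, ← map_inv, ← map_mul, ← map_mul, r7]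
  have eC : M * C * M⁻¹ = A * B := by
    rw [hM, hC, hA, hB, ← map_inv, ← map_mul, ← map_mul, r8, map_mul]
  -- normalised lifts
  obtain ⟨c0, hc0⟩ := pow_scalar sA (ρ.lifts_f A) (n := 2) (by rw [hA, ← map_pow, r1, map_one])
  obtain ⟨e, he⟩ := IsAlgClosed.exists_pow_nat_eq ((c0⁻¹ : kˣ) : k) (show 0 < 2 by norm_num)
  obtain ⟨u, hu⟩ : ∃ u : kˣ, u ^ 2 = c0⁻¹ := by
    refine ⟨Units.mk0 e ?_, Units.ext (by rw [Units.val_pow_eq_pow_val]; exact he)⟩
    rintro rfl
    rw [zero_pow (by norm_num)] at he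
    exact (c0⁻¹).ne_zero he.symm
  set E1 := sc u * ρ.f A with hE1
  have lA : ρ.Lifts A E1 := (ρ.lifts_f A).smul u
  have s1 : E1 * E1 = 1 := by
    rw [← pow_two, hE1, (sc_commute u _).mul_pow, hc0, ← map_pow, ← map_mul, hu, inv_mul_cancel,
      map_one]
  set T := ρ.f M with hT
  set E2 := T * E1 * T⁻¹ with hE2
  set E3 := T * E2 * T⁻¹ with hE3
  have lB : ρ.Lifts B E2 := eA ▸ (ρ.lifts_f M).conj sM sA lA
  have lC : ρ.Lifts C E3 := eB ▸ (ρ.lifts_f M).conj sM sB lB
  have s2 : E2 * E2 = 1 := by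
    rw [hE2, show T * E1 * T⁻¹ * (T * E1 * T⁻¹) = T * (E1 * E1) * T⁻¹ by group, s1]; group
  have s3 : E3 * E3 = 1 := by
    rw [hE3, show T * E2 * T⁻¹ * (T * E2 * T⁻¹) = T * (E2 * E2) * T⁻¹ by group, s2]; group
  obtain ⟨lam, hlam⟩ := (lA.mul sA sB lB).unique (eC ▸ (ρ.lifts_f M).conj sM sC lC)
  -- the commutator scalars
  obtain ⟨a, ha⟩ := exists_scalar sA sB lA lB (by
    rw [hA, hB]; exact Commute.map r4 _)
  obtain ⟨b, hb⟩ := exists_scalar sA sC lA lC (by
    rw [hA, hC]; exact Commute.map r5 _)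
  have a2 : a * a = 1 := by
    rw [← pow_two]; exact scalar_pow_eq_one sB lB q2 ha
  have hba : E2 * E1 = sc a * (E1 * E2) := by
    rw [ha, ← mul_assoc (sc a) (sc a), ← map_mul, a2, map_one, one_mul]
  have h23 : E2 * E3 = sc a * (E3 * E2) :=
    scalar_conj (μ := 1) (ν := 1) (G := T) ha (by rw [← hE2, map_one, one_mul])
      (by rw [← hE3, map_one, one_mul])
  have h13 : E2 * (E1 * E2) = sc b * ((E1 * E2) * E2) :=
    scalar_conj (μ := 1) (ν := lam) (G := T) hb (by rw [← hE2, map_one, one_mul]) hlam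
  have h3ab : E3 * (E1 * E2) = sc a * ((E1 * E2) * E3) :=
    scalar_conj (μ := 1) (ν := lam) (G := T) h23 (by rw [← hE3, map_one, one_mul]) hlam
  have hab : a = b := by
    rw [← mul_assoc, hba, mul_assoc E1 E2 E2, s2, mul_one, mul_assoc (sc a), mul_assoc E1 E2 E2,
      s2, mul_one] at h13
    exact sc_injective (mul_right_cancel h13)
  subst hab
  have ha1 : a = 1 := by
    have h31 : E3 * E1 = sc a * (E1 * E3) := by
      rw [hb, ← mul_assoc (sc a) (sc a), ← map_mul, a2, map_one, one_mul]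
    have h32 : E3 * E2 = sc a * (E2 * E3) := by
      rw [h23, ← mul_assoc (sc a) (sc a), ← map_mul, a2, map_one, one_mul]
    have : E3 * (E1 * E2) = (E1 * E2) * E3 := by
      calc E3 * (E1 * E2) = (E3 * E1) * E2 := by group
        _ = sc a * E1 * (E3 * E2) := by rw [h31]; group
        _ = sc a * E1 * sc a * (E2 * E3) := by rw [h32]; group
        _ = sc a * sc a * E1 * (E2 * E3) := by rw [mul_assoc (sc a) E1 (sc a), ← sc_comm a E1]; group
        _ = E1 * E2 * E3 := by rw [← map_mul, a2, map_one]; group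
    rw [this] at h3ab
    exact sc_injective (by rw [map_one]; exact (mul_eq_right.1 h3ab.symm))
  rw [ha1, map_one, one_mul] at ha hb h23
  have lam2 : lam * lam = 1 := by
    have h1 : (T * E3 * T⁻¹) * (T * E3 * T⁻¹) = 1 := by
      rw [show T * E3 * T⁻¹ * (T * E3 * T⁻¹) = T * (E3 * E3) * T⁻¹ by group, s3]; group
    have hcomm : (E1 * E2) * (E1 * E2) = 1 := by
      calc E1 * E2 * (E1 * E2) = E1 * (E2 * E1) * E2 := by group
        _ = E1 * E1 * (E2 * E2) := by rw [← ha]; group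
        _ = 1 := by rw [s1, s2, one_mul]
    rw [hlam, show sc lam * (E1 * E2) * (sc lam * (E1 * E2)) =
      sc lam * (E1 * E2 * sc lam) * (E1 * E2) by group, ← sc_comm lam (E1 * E2),
      show sc lam * (sc lam * (E1 * E2)) * (E1 * E2) = sc lam * sc lam * ((E1 * E2) * (E1 * E2)) by
        group, hcomm, mul_one, ← map_mul] at h1
    exact sc_injective (by rw [h1, map_one])
  obtain ⟨l, hl⟩ : ∃ l, (lam : k) = sg k l := by
    have : (lam : k) * lam = 1 := by rw [← Units.val_mul, lam2, Units.val_one]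
    rcases mul_self_eq_one_iff.1 this with h | h
    · exact ⟨false, by simp [sg, h]⟩
    · exact ⟨true, by simp [sg, h]⟩
  let E : Fin 3 → Module.End k V :=
    ![(E1 : Module.End k V), (E2 : Module.End k V), (E3 : Module.End k V)]
  have hsq : ∀ i v, E i (E i v) = v := by
    intro i v
    fin_cases i <;> simp only [E] <;>
      simp only [Fin.isValue, Matrix.cons_val_zero, Matrix.cons_val_one, Matrix.cons_val_two,
        Matrix.head_cons, Matrix.tail_cons, Fin.zero_eta, Fin.mk_one, Fin.reduceFinMk] <;>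
      rw [← gv_apply_mul]
    · rw [s1, Units.val_one, Module.End.one_apply]
    · rw [s2, Units.val_one, Module.End.one_apply]
    · rw [s3, Units.val_one, Module.End.one_apply]
  have hc : ∀ i j v, E i (E j v) = E j (E i v) := by
    intro i j v
    fin_cases i <;> fin_cases j <;> simp only [E] <;>
      simp only [Fin.isValue, Matrix.cons_val_zero, Matrix.cons_val_one, Matrix.cons_val_two,
        Matrix.head_cons, Matrix.tail_cons, Fin.zero_eta, Fin.mk_one, Fin.reduceFinMk] <;>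
      rw [← gv_apply_mul, ← gv_apply_mul] <;>
      first | rw [ha] | rw [hb] | rw [h23]
  set W := LinearMap.ker (E 0 + sg k l • 1) with hW
  have hmemW : ∀ v, v ∈ W ↔ E 0 v = -(sg k l • v) := fun v => by
    simp [W, LinearMap.mem_ker, add_eq_zero_iff_eq_neg]
  have hl2 : sg k l * sg k l = 1 := by rw [← sg_xor]; cases l <;> simp [sg]
  have hWne : W ≠ ⊥ := by
    intro h0
    refine lA.not_scalar sA (fun h1 => r9 (Perm.viaEmbeddingHom_injective ι
      (h1.trans (map_one _).symm))) lam ?_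
    apply Units.ext; apply LinearMap.ext; intro v
    rw [sc_apply, hl]
    have hm : v - sg k l • E 0 v ∈ W := by
      rw [hmemW, map_sub, map_smul, hsq, smul_sub, smul_smul, hl2, one_smul]; abel
    rw [h0, Submodule.mem_bot, sub_eq_zero] at hm
    conv_rhs => rw [hm, smul_smul, hl2, one_smul]
    rfl
  obtain ⟨v, hvW, hv0, hv⟩ := exists_joint h2 E hsq hc [0, 1, 2] W hWne
    (fun i v hv => by rw [hmemW] at hv ⊢; rw [hc, hv, map_neg, map_smul])
  have hsign : ∀ i, ∃ s, E i v = sg k s • v := by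
    intro i
    rcases hv i (by fin_cases i <;> simp) with h | h
    · exact ⟨false, by simp [sg, h]⟩
    · exact ⟨true, by simp [sg, h]⟩
  choose s hs using hsign
  have hs0 : (s 0, s 1, s 2) ≠ (l, l, l) := by
    intro heq
    have h0 : s 0 = l := congrArg Prod.fst heq
    have h1 := (hmemW v).1 hvW
    rw [hs, h0] at h1
    have : (2 * sg k l) • v = 0 := by linear_combination (norm := module) h1
    rcases mul_eq_zero.1 ((smul_eq_zero.1 this).resolve_right hv0) with h | h
    · exact h2 h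
    · cases l <;> simp [sg] at h
  -- the weights of the translates
  let chi : Bool × Bool × Bool → Fin 3 → k := fun q => ![sg k q.1, sg k q.2.1, sg k q.2.2]
  have hstep : ∀ q, ∀ w ∈ joint E (chi q), (T : Module.End k V) w ∈ joint E (chi (step8 l q)) := by
    intro q w hw
    have w0 : (E1 : Module.End k V) w = sg k q.1 • w := mem_joint.1 hw 0
    have w1 : (E2 : Module.End k V) w = sg k q.2.1 • w := mem_joint.1 hw 1
    have w2 : (E3 : Module.End k V) w = sg k q.2.2 • w := mem_joint.1 hw 2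
    have x1 := eig_conj (A' := E2) (G := T) hE2.symm w0
    have x2 := eig_conj (A' := E3) (G := T) hE3.symm w1
    have x3' := eig_conj (A' := sc lam * (E1 * E2)) (G := T) hlam w2
    rw [gv_apply_mul, gv_apply_mul, sc_apply, x1, map_smul, smul_smul, hl] at x3'
    have x0 : (E1 : Module.End k V) ((T : Module.End k V) w) =
        sg k (step8 l q).1 • (T : Module.End k V) w := by
      have := congrArg (fun z => (sg k l * sg k q.1) • z) x3'
      simp only [smul_smul] at this
      have hq : sg k q.1 * sg k q.1 = 1 := by rw [← sg_xor]; cases q.1 <;> simp [sg]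
      rw [show sg k l * sg k q.1 * (sg k l * sg k q.1) = 1 by
        linear_combination (sg k q.1 * sg k q.1) * hl2 + hq, one_smul] at this
      rw [this]
      congr 1
      simp only [step8, sg_xor]
      ring
    rw [mem_joint]
    intro i
    fin_cases i
    · exact x0
    · exact x1
    · exact x2
  have hv' : ∀ j : ℕ, ((T ^ j : GV k V) : Module.End k V) v ∈
      joint E (chi ((step8 l)^[j] (s 0, s 1, s 2))) := by
    intro j
    induction j with
    | zero =>
      rw [pow_zero, Units.val_one, Module.End.one_apply, mem_joint]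
      intro i
      fin_cases i <;> exact hs _
    | succ j ih =>
      rw [pow_succ', gv_apply_mul, Function.iterate_succ_apply']
      exact hstep _ _ ih
  have hchi : Function.Injective chi := by
    intro q q' h
    exact Prod.ext (sg_injective h2 (congrFun h 0))
      (Prod.ext (sg_injective h2 (congrFun h 1)) (sg_injective h2 (congrFun h 2)))
  have := card_le_finrank (X := E) (f := fun j : Fin 7 => chi ((step8 l)^[j.val] (s 0, s 1, s 2)))
    (hchi.comp (orbit8 l _ hs0)) (fun j => (Submodule.ne_bot_iff _).2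
      ⟨_, hv' j.val, fun h0 => hv0 (gv_injective (T ^ j.val) (by rw [h0, map_zero]))⟩)
  simpa using this

/-- the last `m` points -/
def shiftEmb (s : ℕ) {m r : ℕ} (h : s + m ≤ r) : Fin m ↪ Fin r :=
  ⟨fun i => ⟨i.val + s, by omega⟩, fun i j hij => by simpa [Fin.ext_iff] using hij⟩

theorem shiftEmb_val {s m r : ℕ} (h : s + m ≤ r) (i : Fin m) :
    (shiftEmb s h i).val = i.val + s := rfl

/-- build a representation from a simple group argument -/
theorem faithful_of {W : Type*} [AddCommGroup W] [Module k W] {m : ℕ} (hm : 5 ≤ m)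
    (f : Perm (Fin m) → GV k W)
    (mul : ∀ σ τ, Perm.sign σ = 1 → Perm.sign τ = 1 → ∃ c, f σ * f τ = sc c * f (σ * τ))
    (hns : ∃ σ, Perm.sign σ = 1 ∧ ∀ c, f σ ≠ sc c) :
    ∀ σ, Perm.sign σ = 1 → (∃ c, f σ = sc c) → σ = 1 := by
  have h1 : ∃ c, f 1 = sc c := by
    obtain ⟨c, hc⟩ := mul 1 1 (by simp) (by simp)
    rw [mul_one] at hc
    exact ⟨c, mul_right_cancel hc⟩
  let K : Subgroup (alternatingGroup (Fin m)) :=
    { carrier := {σ | ∃ c, f (σ : Perm (Fin m)) = sc c}
      mul_mem' := by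
        rintro a b ⟨x, hx⟩ ⟨y, hy⟩
        obtain ⟨c, hc⟩ := mul a b a.2 b.2
        rw [hx, hy] at hc
        refine ⟨c⁻¹ * (x * y), ?_⟩
        rw [Subgroup.coe_mul, map_mul, map_mul, hc, map_inv, inv_mul_cancel_left]
      one_mem' := h1
      inv_mem' := by
        rintro a ⟨x, hx⟩
        obtain ⟨c, hc⟩ := mul a (a⁻¹ : alternatingGroup (Fin m)) a.2 (a⁻¹).2
        obtain ⟨e, he⟩ := h1
        rw [Subgroup.coe_inv, hx, mul_inv_cancel, he, ← map_mul] at hc
        refine ⟨x⁻¹ * (c * e), ?_⟩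
        rw [map_mul, ← hc, map_inv, Subgroup.coe_inv, inv_mul_cancel_left] }
  have hK : ∀ σ, σ ∈ K ↔ ∃ c, f (σ : Perm (Fin m)) = sc c := fun σ => Iff.rfl
  have hnorm : K.Normal := ⟨fun a ha g => by
    rw [hK] at ha ⊢
    obtain ⟨x, hx⟩ := ha
    obtain ⟨c1, hc1⟩ := mul g a g.2 a.2
    obtain ⟨c2, hc2⟩ := mul (g * a : alternatingGroup (Fin m)) (g⁻¹ : alternatingGroup (Fin m))
      (g * a).2 (g⁻¹).2
    obtain ⟨c3, hc3⟩ := mul g (g⁻¹ : alternatingGroup (Fin m)) g.2 (g⁻¹).2
    obtain ⟨e, he⟩ := h1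
    rw [hx, ← sc_comm] at hc1
    rw [Subgroup.coe_inv, mul_inv_cancel, he, ← map_mul] at hc3
    simp only [Subgroup.coe_mul, Subgroup.coe_inv] at hc1 hc2 hc3 ⊢
    have hga : f ((g : Perm (Fin m)) * a) = sc (c1⁻¹ * x) * f g := by
      rw [map_mul, mul_assoc, hc1, map_inv, inv_mul_cancel_left]
    rw [hga, mul_assoc, hc3, ← map_mul] at hc2
    refine ⟨c2⁻¹ * (c1⁻¹ * x * (c3 * e)), ?_⟩
    rw [map_mul, hc2, map_inv, inv_mul_cancel_left]⟩
  haveI := alternatingGroup.isSimpleGroup (α := Fin m) (by simpa using hm)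
  intro σ hσ hsc
  rcases IsSimpleGroup.eq_bot_or_eq_top_of_normal K hnorm with h | h
  · have hmem : (⟨σ, hσ⟩ : alternatingGroup (Fin m)) ∈ K := hsc
    rw [h, Subgroup.mem_bot] at hmem
    exact congrArg Subtype.val hmem
  · obtain ⟨τ, hτ, hne⟩ := hns
    have hmem : (⟨τ, hτ⟩ : alternatingGroup (Fin m)) ∈ K := h ▸ Subgroup.mem_top _
    obtain ⟨c, hc⟩ := hmem
    exact absurd hc (hne c)

/-- two eigenvalues of an element of order prime to the characteristic -/
theorem exists_two_eig [IsAlgClosed k] [FiniteDimensional k V] [Nontrivial V] {X : GV k V} {q : ℕ}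
    (hq : (q : k) ≠ 0) {c : kˣ} (hX : X ^ q = sc c) (hns : ∀ c, X ≠ sc c) :
    ∃ μ ν : k, μ ≠ ν ∧ Module.End.eigenspace (X : Module.End k V) μ ≠ ⊥ ∧
      Module.End.eigenspace (X : Module.End k V) ν ≠ ⊥ := by
  obtain ⟨μ, hμ⟩ := Module.End.exists_eigenvalue (X : Module.End k V)
  rw [Module.End.hasEigenvalue_iff] at hμ
  obtain ⟨v0, hv0, hv00⟩ := (Submodule.ne_bot_iff _).1 hμ
  rw [Module.End.mem_eigenspace_iff] at hv0
  have hμ0 : μ ≠ 0 := by
    rintro rfl
    exact hv00 (gv_injective X (by rw [hv0, zero_smul, map_zero]))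
  set R := LinearMap.range ((X : Module.End k V) - μ • 1) with hR
  have hmem : ∀ v ∈ R, (X : Module.End k V) v ∈ R := by
    rintro _ ⟨w, rfl⟩
    exact ⟨(X : Module.End k V) w, by simp [map_sub, map_smul]⟩
  have hRne : R ≠ ⊥ := by
    intro h0
    refine hns (Units.mk0 μ hμ0) (Units.ext (LinearMap.ext fun v => ?_))
    have : ((X : Module.End k V) - μ • 1) v ∈ R := ⟨v, rfl⟩
    rw [h0, Submodule.mem_bot, LinearMap.sub_apply, LinearMap.smul_apply, Module.End.one_apply,
      sub_eq_zero] at this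
    rw [this, sc_apply, Units.val_mk0]
  haveI : Nontrivial R := Submodule.nontrivial_iff_ne_bot.2 hRne
  obtain ⟨ν, hν⟩ := Module.End.exists_eigenvalue ((X : Module.End k V).restrict hmem)
  obtain ⟨⟨v, hvR⟩, hv, hv0'⟩ := (Submodule.ne_bot_iff _).1
    (Module.End.hasEigenvalue_iff.1 hν)
  have hXv : (X : Module.End k V) v = ν • v :=
    congrArg Subtype.val (Module.End.mem_eigenspace_iff.1 hv)
  have hvne : v ≠ 0 := fun h => hv0' (Subtype.ext h)
  refine ⟨μ, ν, fun he => ?_, hμ,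
    (Submodule.ne_bot_iff _).2 ⟨v, Module.End.mem_eigenspace_iff.2 hXv, hvne⟩⟩
  subst he
  obtain ⟨w, hw⟩ := hvR
  rw [LinearMap.sub_apply, LinearMap.smul_apply, Module.End.one_apply] at hw
  have hXw : (X : Module.End k V) w = μ • w + v := by rw [← hw]; abel
  have hpow : ∀ i : ℕ, ((X ^ (i + 1) : GV k V) : Module.End k V) w =
      μ ^ (i + 1) • w + ((i + 1 : ℕ) * μ ^ i : k) • v := by
    intro i
    induction i with
    | zero => simp [hXw]
    | succ i ih =>
      rw [pow_succ' X, gv_apply_mul, ih, map_add, map_smul, map_smul, hXw, hXv]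
      push_cast
      rw [pow_succ μ (i + 1), pow_succ μ i]
      module
  obtain ⟨j, rfl⟩ : ∃ j, q = j + 1 := ⟨q - 1, by
    rcases Nat.eq_zero_or_pos q with h | h
    · exact absurd (by simp [h]) hq
    · omega⟩
  have e1 := hpow j
  have e0 := eig_pow hXv (j + 1)
  rw [hX, sc_apply] at e1 e0
  have hc : (c : k) = μ ^ (j + 1) := smul_left_injective k hvne e0
  rw [hc, left_eq_add, smul_eq_zero] at e1
  exact hvne (e1.resolve_left (mul_ne_zero hq (pow_ne_zero _ hμ0)))

open Classical in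
/-- restriction of lifts to an invariant subspace -/
noncomputable def resf (ρ : PRep k V r) {m : ℕ} (ι : Fin m ↪ Fin r) (W : Submodule k V)
    (hW : ∀ σ : Perm (Fin m), Perm.sign σ = 1 → ∀ Z, ρ.Lifts (Perm.viaEmbeddingHom ι σ) Z →
      ∀ v ∈ W, (Z : Module.End k V) v ∈ W) (σ : Perm (Fin m)) : GV k W :=
  if hσ : Perm.sign σ = 1 then
    { val := (ρ.f (Perm.viaEmbeddingHom ι σ) : Module.End k V).restrict
        (hW σ hσ _ (ρ.lifts_f _))
      inv := ((ρ.f (Perm.viaEmbeddingHom ι σ))⁻¹ : GV k V).val.restrict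
        (hW σ⁻¹ (by simp [hσ]) _ (by
          rw [map_inv]; exact (ρ.lifts_f _).inv (sign_via ι hσ)))
      val_inv := by
        refine LinearMap.ext fun v => Subtype.ext ?_
        rw [Module.End.mul_apply, LinearMap.restrict_coe_apply, LinearMap.restrict_coe_apply,
          ← gv_apply_mul, mul_inv_cancel]
        rfl
      inv_val := by
        refine LinearMap.ext fun v => Subtype.ext ?_
        rw [Module.End.mul_apply, LinearMap.restrict_coe_apply, LinearMap.restrict_coe_apply,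
          ← gv_apply_mul, inv_mul_cancel]
        rfl }
  else 1

theorem resf_apply {m : ℕ} {ι : Fin m ↪ Fin r} {W : Submodule k V}
    {hW : ∀ σ : Perm (Fin m), Perm.sign σ = 1 → ∀ Z, ρ.Lifts (Perm.viaEmbeddingHom ι σ) Z →
      ∀ v ∈ W, (Z : Module.End k V) v ∈ W} {σ : Perm (Fin m)} (hσ : Perm.sign σ = 1) (v : W) :
    (((resf ρ ι W hW σ : GV k W) : Module.End k W) v : V) =
      (ρ.f (Perm.viaEmbeddingHom ι σ) : Module.End k V) v := by
  rw [resf, dif_pos hσ]
  rfl

theorem halve [IsAlgClosed k] [FiniteDimensional k V] (h2 : (2 : k) ≠ 0) (hr : 6 ≤ r)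
    (hL : ¬ρ.Lin) {σ₀ : Perm (Fin r)} (hσ₀ : Perm.sign σ₀ = 1) (hne : σ₀ ≠ 1) {q : ℕ}
    (hq : σ₀ ^ q = 1) (hqk : (q : k) ≠ 0) {m : ℕ} (hm : 5 ≤ m) (ι : Fin m ↪ Fin r)
    (hcm : ∀ a b c d : Fin m, [a, b, c, d].Nodup → ρ.Cm σ₀ (dt (ι a) (ι b) (ι c) (ι d)))
    {d : ℕ} (IH : ∀ (W : Submodule k V) (ρ' : PRep k W m), ¬ρ'.Lin → d ≤ finrank k W) :
    2 * d ≤ finrank k V := by
  have := ρ.nt
  obtain ⟨c, hc⟩ := pow_scalar hσ₀ (ρ.lifts_f σ₀) hq
  obtain ⟨μ, ν, hμν, hμ, hν⟩ := exists_two_eig hqk hc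
    (fun c => (ρ.lifts_f σ₀).not_scalar hσ₀ hne c)
  have key : ∀ μ : k, Module.End.eigenspace (ρ.f σ₀ : Module.End k V) μ ≠ ⊥ →
      d ≤ finrank k (Module.End.eigenspace (ρ.f σ₀ : Module.End k V) μ) := by
    intro μ hμ
    set W := Module.End.eigenspace (ρ.f σ₀ : Module.End k V) μ with hWdef
    have hW : ∀ σ : Perm (Fin m), Perm.sign σ = 1 → ∀ Z, ρ.Lifts (Perm.viaEmbeddingHom ι σ) Z →
        ∀ v ∈ W, (Z : Module.End k V) v ∈ W := by
      intro σ hσ Z hZ v hv
      rw [hWdef, Module.End.mem_eigenspace_iff] at hv ⊢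
      rw [← gv_apply_mul, ((cm_via hm ι hcm hσ).lifts (ρ.lifts_f σ₀) hZ).eq, gv_apply_mul, hv,
        map_smul]
    obtain ⟨v, hvW, hv0⟩ := (Submodule.ne_bot_iff _).1 hμ
    have hq4 : [(⟨0, by omega⟩ : Fin m), ⟨1, by omega⟩, ⟨2, by omega⟩, ⟨3, by omega⟩].Nodup := by
      simp [List.nodup_cons]
    have hq4' := hq4.map ι.injective
    simp only [List.map_cons, List.map_nil] at hq4'
    set a : Fin m := ⟨0, by omega⟩
    set b : Fin m := ⟨1, by omega⟩
    set c' : Fin m := ⟨2, by omega⟩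
    set e : Fin m := ⟨3, by omega⟩
    have hq5 : [a, c', b, e].Nodup := by rw [nodup_four] at hq4 ⊢; tauto
    have s1 := sign_dt' hq4
    have s2 := sign_dt' hq5
    have mul : ∀ σ τ, Perm.sign σ = 1 → Perm.sign τ = 1 →
        ∃ c, resf ρ ι W hW σ * resf ρ ι W hW τ = sc c * resf ρ ι W hW (σ * τ) := by
      intro σ τ hσ hτ
      obtain ⟨c, hc⟩ := ρ.mul _ _ (sign_via ι hσ) (sign_via ι hτ)
      refine ⟨c, Units.ext (LinearMap.ext fun w => Subtype.ext ?_)⟩
      rw [gv_apply_mul, gv_apply_mul, sc_apply, SetLike.val_smul, resf_apply hσ, resf_apply hτ,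
        resf_apply (by simp [hσ, hτ]), ← gv_apply_mul, hc, gv_apply_mul, sc_apply, map_mul]
    have hno : ∀ cx cy : kˣ, resf ρ ι W hW (dt a b c' e) = sc cx →
        resf ρ ι W hW (dt a c' b e) = sc cy → False := by
      intro cx cy ex ey
      have e1 := congrArg (fun Z : GV k W => ((Z : Module.End k W) ⟨v, hvW⟩ : V)) ex
      have e2 := congrArg (fun Z : GV k W => ((Z : Module.End k W) ⟨v, hvW⟩ : V)) ey
      simp only [resf_apply s1, resf_apply s2, sc_apply, SetLike.val_smul, map_dt] at e1 e2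
      exact klein_not_scalar h2 hr hL hq4' (ρ.lifts_f _) (ρ.lifts_f _) hv0 e1 e2
    have hns : ∃ σ, Perm.sign σ = 1 ∧ ∀ c, resf ρ ι W hW σ ≠ sc c := by
      by_contra! hall
      obtain ⟨cx, ex⟩ := hall _ s1
      obtain ⟨cy, ey⟩ := hall _ s2
      exact hno cx cy ex ey
    let ρ' : PRep k W m :=
      { f := resf ρ ι W hW
        mul := mul
        faithful := faithful_of hm _ mul hns
        nt := Submodule.nontrivial_iff_ne_bot.2 hμ }
    refine IH W ρ' fun hlin => ?_
    have hcw : Commute (resf ρ ι W hW (dt a b c' e)) (resf ρ ι W hW (dt a c' b e)) :=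
      hlin a b c' e hq4
    have e1 := congrArg (fun Z : GV k W => ((Z : Module.End k W) ⟨v, hvW⟩ : V)) hcw.eq
    simp only [gv_apply_mul, resf_apply s1, resf_apply s2, map_dt] at e1
    rw [anticomm h2 hr hL hq4' (ρ.lifts_f _) (ρ.lifts_f _)] at e1
    have hz := neg_ne_self h2 e1.symm
    exact hv0 (gv_injective _ (gv_injective _ (by rw [hz, map_zero, map_zero])))
  have hdis := Module.End.eigenspaces_iSupIndep (ρ.f σ₀ : Module.End k V)
  have hinf := (hdis.pairwiseDisjoint hμν).eq_bot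
  have := Submodule.finrank_sup_add_finrank_inf_eq
    (Module.End.eigenspace (ρ.f σ₀ : Module.End k V) μ)
    (Module.End.eigenspace (ρ.f σ₀ : Module.End k V) ν)
  rw [hinf, finrank_bot] at this
  have h1 := key μ hμ
  have h2' := key ν hν
  have := Submodule.finrank_le (Module.End.eigenspace (ρ.f σ₀ : Module.End k V) μ ⊔
    Module.End.eigenspace (ρ.f σ₀ : Module.End k V) ν)
  omega

theorem eight_le [IsAlgClosed k] [FiniteDimensional k V] (h2 : (2 : k) ≠ 0) (hr : 8 ≤ r)
    (hL : ¬ρ.Lin) : 8 ≤ finrank k V := by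
  have := seven_le ρ h2 hr
  obtain ⟨j, hj⟩ := even_finrank h2 (by omega) hL
  omega

theorem spin_large [IsAlgClosed k] (h2 : (2 : k) ≠ 0) : ∀ (r : ℕ) {V : Type v} [AddCommGroup V]
    [Module k V] [FiniteDimensional k V] (ρ : PRep k V r), 12 ≤ r → ¬ρ.Lin →
    r - 1 ≤ finrank k V := by
  intro r
  induction r using Nat.strong_induction_on with
  | _ r IH =>
    intro V _ _ _ ρ hr hL
    set ι : Fin (r - 4) ↪ Fin r := shiftEmb 4 (by omega) with hι
    let a : Fin r := ⟨0, by omega⟩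
    let b : Fin r := ⟨1, by omega⟩
    let c : Fin r := ⟨2, by omega⟩
    let d : Fin r := ⟨3, by omega⟩
    have h4 : [a, b, c, d].Nodup := by simp [a, b, c, d, List.nodup_cons]
    have hcm : ∀ i j l n : Fin (r - 4), [i, j, l, n].Nodup →
        ρ.Cm (dt a b c d) (dt (ι i) (ι j) (ι l) (ι n)) := by
      intro i j l n hn
      refine cm_disjoint h4 (hn.map ι.injective) ?_
      intro x hx
      simp only [List.mem_cons, List.not_mem_nil, or_false, a, b, c, d, hι,
        shiftEmb_val, Fin.ext_iff, not_or] at hx ⊢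
      omega
    have hmax : ∀ (W : Submodule k V) (ρ' : PRep k W (r - 4)), ¬ρ'.Lin →
        max 8 (if 16 ≤ r then r - 5 else 0) ≤ finrank k W := by
      intro W ρ' hL'
      refine max_le (eight_le h2 (by omega) hL') ?_
      split_ifs with h16
      · have := IH (r - 4) (by omega) ρ' (by omega) hL'
        omega
      · exact Nat.zero_le _
    have := halve (ρ := ρ) h2 (by omega) hL (sign_dt' h4) (dt_ne_one h4) (dt_sq h4)
      (by exact_mod_cast h2) (by omega) ι hcm hmax
    split_ifs at this with h16 <;> omega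

theorem spin_five [IsAlgClosed k] [FiniteDimensional k V] (h2 : (2 : k) ≠ 0) (h5 : (5 : k) ≠ 0)
    (hr : 10 ≤ r) (hL : ¬ρ.Lin) : 10 ≤ finrank k V := by
  by_contra hlt
  set p : Fin 10 ↪ Fin r := Fin.castLEEmb hr
  obtain ⟨U, hU4, hU⟩ := five (ρ := ρ) h5 (by omega) p
  set ι := (Fin.castLEEmb (show 5 ≤ 10 by norm_num)).trans p
  obtain ⟨v, hv, hv0⟩ := (Submodule.ne_bot_iff U).1 (Submodule.one_le_finrank_iff.1 (by omega))
  have h4 : [ι 0, ι 1, ι 2, ι 3].Nodup := by simp [List.nodup_cons, ι.injective.eq_iff]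
  obtain ⟨cx, hx⟩ := hU (dt 0 1 2 3) (by decide) (ρ.f (dt (ι 0) (ι 1) (ι 2) (ι 3)))
    (by rw [map_dt]; exact ρ.lifts_f _)
  obtain ⟨cy, hy⟩ := hU (dt 0 2 1 3) (by decide) (ρ.f (dt (ι 0) (ι 2) (ι 1) (ι 3)))
    (by rw [map_dt]; exact ρ.lifts_f _)
  exact klein_not_scalar h2 (by omega) hL h4 (ρ.lifts_f _) (ρ.lifts_f _) hv0 (hx v hv) (hy v hv)

theorem spin_eleven [IsAlgClosed k] [FiniteDimensional k V] (h2 : (2 : k) ≠ 0) (h3 : (3 : k) ≠ 0)
    (hr : r = 11) (hL : ¬ρ.Lin) : 16 ≤ finrank k V := by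
  subst hr
  set ι : Fin 8 ↪ Fin 11 := shiftEmb 3 (by omega) with hι
  have h3' : [(0 : Fin 11), 1, 2].Nodup := by decide
  have hne : tc (0 : Fin 11) 1 2 ≠ 1 := by
    intro h
    have := congrArg (fun σ : Perm (Fin 11) => σ 0) h
    simp [tc, Equiv.swap_apply_def] at this
  refine halve (ρ := ρ) (d := 8) h2 (by omega) hL (sign_tc' h3') hne (tc_cube h3')
    (by exact_mod_cast h3) (by omega) ι (fun a b c d hn => ?_)
    (fun W ρ' hL' => eight_le h2 le_rfl hL')
  have h4 : [ι a, ι b, ι c, ι d].Nodup := hn.map ι.injective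
  refine cm_of_coprime (sign_tc' h3') (sign_dt' h4) (commute_tc_dt h3' h4 ?_) (tc_cube h3')
    (dt_sq h4) (by norm_num)
  intro x hx
  simp only [List.mem_cons, List.not_mem_nil, or_false, hι, shiftEmb_val,
    Fin.ext_iff, not_or, Fin.val_zero, Fin.val_one, Fin.val_two] at hx ⊢
  omega

/-- a projective representation of the alternating group has degree at least `r - 2` -/
theorem proj_bound [IsAlgClosed k] [FiniteDimensional k V] (ρ : PRep k V r) (hr : 9 ≤ r) :
    r - 2 ≤ finrank k V ∧ ((r : k) ≠ 0 → r - 1 ≤ finrank k V) := by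
  by_cases h2 : (2 : k) = 0
  · exact two_bound ρ hr h2
  by_cases hL : ρ.Lin
  · exact lin_bound hr h2 hL
  have h8 := eight_le h2 (by omega) hL
  rcases (show r = 9 ∨ r = 10 ∨ r = 11 ∨ 12 ≤ r by omega) with rfl | rfl | rfl | h12
  · exact ⟨by omega, fun _ => by omega⟩
  · refine ⟨by omega, fun h10 => ?_⟩
    have h5 : (5 : k) ≠ 0 := fun h => h10 (by push_cast; linear_combination (2 : k) * h)
    have := spin_five h2 h5 le_rfl hL
    omega
  · have : 10 ≤ finrank k V := by
      by_cases h5 : (5 : k) = 0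
      · have h3 : (3 : k) ≠ 0 := fun h => h2 (by linear_combination h5 - h)
        have := spin_eleven h2 h3 rfl hL
        omega
      · exact spin_five h2 h5 (by omega) hL
    exact ⟨by omega, fun _ => by omega⟩
  · have := spin_large h2 r ρ h12 hL
    exact ⟨by omega, fun _ => by omega⟩

end PRep

end Cfsg.Agent.AltSec
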