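import Cfsg.Agent.AltSec.TorusTest
import Cfsg.Agent.Chev.All
import Cfsg.Prelude.Def_ChevG2
import Cfsg.Prelude.Def_ChevF4

/-! Alcove data of `chevG2` and `chevF4` and the certificates, checked by the kernel. -/

set_option autoImplicit false
set_option maxRecDepth 100000

namespace Cfsg.Agent.AltSec.TorusData

open Cfsg.Lie Cfsg.Agent.Chev Cfsg.Agent.Chev.SS Cfsg.Agent.AltSec.TorusTest

/-- The alcove of type G2. -/
def g2 : Alcove chevG2 := ⟨1, [[2, 1], [3, 2]], 6, [1, 0, 1], 1⟩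

/-- The alcove of type F4. -/
def f4 : Alcove chevF4 :=
  ⟨1, [[2, 3, 2, 1], [3, 6, 4, 2], [4, 8, 6, 3], [2, 4, 3, 2]], 12, [3, 2, 1, 2, 3, 0, 1, 2], 2⟩

theorem g2_valid : g2.Valid where
  e_pos := by decide +kernel
  u0_lt := by decide +kernel
  i0_lt := by decide +kernel
  low_neg := by decide +kernel
  inv := by decide +kernel
  rho_spec := by decide +kernel
  coord_spec := by decide +kernel
  coord_neg := by decide +kernel
  coord_pos := by decide +kernel
  minuscule := by decide +kernel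

theorem f4_valid : f4.Valid where
  e_pos := by decide +kernel
  u0_lt := by decide +kernel
  i0_lt := by decide +kernel
  low_neg := by decide +kernel
  inv := by decide +kernel
  rho_spec := by decide +kernel
  coord_spec := by decide +kernel
  coord_neg := by decide +kernel
  coord_pos := by decide +kernel
  minuscule := by decide +kernel

/-- The roots of type G2. -/
def g2Rows : List (List ℤ) := [[-3, -2], [-3, -1], [-2, -1], [-1, -1], [-1, 0], [0, -1], [0, 1],
  [1, 0], [1, 1], [2, 1], [3, 1], [3, 2]]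

/-- The roots of type F4. -/
def f4Rows : List (List ℤ) := [[-2, -4, -3, -2], [-2, -4, -3, -1], [-2, -4, -2, -1],
  [-2, -3, -2, -1], [-2, -2, -2, -1], [-2, -2, -1, -1], [-2, -2, -1, 0], [-1, -3, -2, -1],
  [-1, -2, -2, -1], [-1, -2, -1, -1], [-1, -2, -1, 0], [-1, -1, -1, -1], [-1, -1, -1, 0],
  [-1, -1, 0, 0], [-1, 0, 0, 0], [0, -2, -2, -1], [0, -2, -1, -1], [0, -2, -1, 0],
  [0, -1, -1, -1], [0, -1, -1, 0], [0, -1, 0, 0], [0, 0, -1, -1], [0, 0, -1, 0], [0, 0, 0, -1],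
  [0, 0, 0, 1], [0, 0, 1, 0], [0, 0, 1, 1], [0, 1, 0, 0], [0, 1, 1, 0], [0, 1, 1, 1],
  [0, 2, 1, 0], [0, 2, 1, 1], [0, 2, 2, 1], [1, 0, 0, 0], [1, 1, 0, 0], [1, 1, 1, 0],
  [1, 1, 1, 1], [1, 2, 1, 0], [1, 2, 1, 1], [1, 2, 2, 1], [1, 3, 2, 1], [2, 2, 1, 0],
  [2, 2, 1, 1], [2, 2, 2, 1], [2, 3, 2, 1], [2, 4, 2, 1], [2, 4, 3, 1], [2, 4, 3, 2]]

theorem g2_rowsOK : rowsOK chevG2 g2 g2Rows [3, 2] = true := by decide +kernel

theorem f4_rowsOK : rowsOK chevF4 f4 f4Rows [2, 4, 3, 2] = true := by decide +kernel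

theorem g2_test_five : test g2Rows [3, 2] 5 2 [5] = true := by decide +kernel

theorem f4_test_eleven : test f4Rows [2, 4, 3, 2] 11 3 [11] = true := by decide +kernel

theorem f4_test_thirtyfive : test f4Rows [2, 4, 3, 2] 35 17 [5, 7] = true := by decide +kernel

end Cfsg.Agent.AltSec.TorusData
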