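import Cfsg.Agent.Chev.Semisimple.Cover
import Cfsg.Agent.Chev.Semisimple.Cent
import Cfsg.Agent.Chev.Semisimple.Affine
import Mathlib.FieldTheory.IsSepClosed
import Mathlib.RingTheory.RootsOfUnity.AlgebraicallyClosed

/-!
A certificate that no semisimple element of order `N` is conjugate to its `j`-th power: at every
point of the fundamental alcove the multiset of root values is not invariant.
-/

set_option autoImplicit false

namespace Cfsg.Agent.AltSec.TorusTest

open Cfsg.Lie Cfsg.Agent.Chev Cfsg.Agent.Chev.SS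
open scoped MatrixGroups

universe u

/-- The integer points of a simplex with the given marks. -/
def simplex : List ℕ → ℕ → List (List ℕ)
  | [], _ => [[]]
  | m :: ms, n => (List.range (n + 1)).flatMap fun x =>
      if x * m ≤ n then (simplex ms (n - x * m)).map (x :: ·) else []

theorem mem_simplex : ∀ {r : ℕ} (m a : Fin r → ℕ) (n : ℕ), (∀ i, 0 < m i) →
    ∑ i, m i * a i ≤ n → List.ofFn a ∈ simplex (List.ofFn m) n := by
  intro r
  induction r with
  | zero => intro m a n _ _; simp [simplex]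
  | succ r ih =>
    intro m a n hm h
    rw [Fin.sum_univ_succ] at h
    rw [List.ofFn_succ (f := m), List.ofFn_succ (f := a), simplex, List.mem_flatMap]
    have ha : a 0 ≤ m 0 * a 0 := Nat.le_mul_of_pos_left _ (hm 0)
    refine ⟨a 0, List.mem_range.2 (by omega), ?_⟩
    rw [if_pos (by rw [mul_comm]; omega), List.mem_map]
    exact ⟨_, ih (fun i => m i.succ) (fun i => a i.succ) _ (fun i => hm _)
      (by rw [mul_comm (a 0)]; omega), rfl⟩

/-- The value of a root at a point, modulo `N`. -/
def val (N : ℕ) (row : List ℤ) (a : List ℕ) : ℤ :=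
  (List.zipWith (fun c x => c * ((x : ℕ) : ℤ)) row a).sum % (N : ℤ)

/-- The certificate. -/
def test (rows : List (List ℤ)) (marks : List ℕ) (N j : ℕ) (ps : List ℕ) : Bool :=
  (simplex marks N).all fun a =>
    (ps.any fun l => a.all fun x => x % l == 0) ||
      (let vals := rows.map fun row => val N row a
       (List.range N).any fun t =>
        vals.countP (fun v => v == (t : ℤ)) !=
          vals.countP (fun v => v == ((j * t % N : ℕ) : ℤ)))

/-- The data of a datum agree with the rows and marks. -/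
def rowsOK (D : ChevalleyDatum) (C : Alcove D) (rows : List (List ℤ)) (marks : List ℕ) : Bool :=
  (rows == List.ofFn fun s : Fin D.nroots => List.ofFn fun i : Fin D.rank => C.coord s i) &&
  ((List.ofFn fun i : Fin D.rank => -C.coord C.low i) == marks.map fun m => ((m : ℕ) : ℤ)) &&
  (marks.all fun m => 0 < m) &&
  ((List.finRange D.rank).all fun l => (List.finRange D.rank).all fun i =>
    (∑ a : Fin D.rank, C.mat a i * D.cartan a (D.simple l)) == (if l = i then C.e else 0))

theorem zipWith_ofFn {α β γ : Type} (f : α → β → γ) : ∀ {n : ℕ} (a : Fin n → α) (b : Fin n → β),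
    List.zipWith f (List.ofFn a) (List.ofFn b) = List.ofFn fun i => f (a i) (b i) := by
  intro n
  induction n with
  | zero => intro a b; simp
  | succ n ih => intro a b; simp [List.ofFn_succ, ih]

theorem countP_ofFn {α : Type} : ∀ {n : ℕ} (g : Fin n → α) (p : α → Bool),
    (List.ofFn g).countP p = (Finset.univ.filter fun i => p (g i) = true).card := by
  intro n g p
  rw [List.ofFn_eq_map, List.countP_map]
  rw [Finset.card_def, Finset.filter_val, ← Multiset.countP_eq_card_filter, Fin.univ_def]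
  simp [Multiset.coe_countP, Function.comp_def]

variable {D : ChevalleyDatum}

theorem zpow_sum' {G : Type u} [CommGroup G] {α : Type} [Fintype α] (x : G) (f : α → ℤ) :
    x ^ (∑ i, f i) = ∏ i, x ^ f i := by
  classical
  induction (Finset.univ : Finset α) using Finset.induction_on with
  | empty => simp
  | @insert a s ha ih => rw [Finset.sum_insert ha, Finset.prod_insert ha, zpow_add, ih]

theorem zpow_iff {k : Type u} [CommRing k] {ζ : kˣ} {N : ℕ} (hζ : IsPrimitiveRoot ζ N) (a b : ℤ) :
    ζ ^ a = ζ ^ b ↔ (N : ℤ) ∣ a - b := by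
  rw [← hζ.zpow_eq_one_iff_dvd, zpow_sub, mul_inv_eq_one]

theorem chiU_pow' {F : Type u} [Field F] (c : Fin D.rank → Fˣ) (n : ℕ) (s : ℕ) :
    chiU (c ^ n) s = chiU c s ^ n := by
  simp only [chiU, ← Finset.prod_pow, Pi.pow_apply]
  exact Finset.prod_congr rfl fun i _ => by
    rw [← zpow_natCast, ← zpow_natCast, ← zpow_mul, ← zpow_mul, mul_comm]

theorem false_of_test {k : Type u} [Field k] [IsAlgClosed k] (hF : Facts.{u} D) (C : Alcove D)
    (hC : C.Valid) {rows : List (List ℤ)} {marks : List ℕ} (hrows : rowsOK D C rows marks = true)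
    (p₀ : ℕ) [Fact p₀.Prime] [CharP k p₀] {N j : ℕ} {ps : List ℕ}
    (htest : test rows marks N j ps = true) (hN : 0 < N) (hNk : (N : k) ≠ 0)
    (hps : ∀ l ∈ ps, l ∣ N) (hNe : Int.gcd N C.e = 1) (hj : N.Coprime j) {g b : GL D.Idx k}
    (hg : g ∈ D.group k) (hb : b ∈ D.group k) (hgN : g ^ N = 1)
    (hgl : ∀ l ∈ ps, g ^ (N / l) ≠ 1) (hbg : b * g * b⁻¹ = g ^ j) : False := by
  classical
  simp only [rowsOK, Bool.and_eq_true, beq_iff_eq, List.all_eq_true, List.mem_finRange,
    forall_const, decide_eq_true_eq] at hrows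
  obtain ⟨⟨⟨hR, hM⟩, hMpos⟩, hinv'⟩ := hrows
  have hB : CartanInv D C.e.toNat := ⟨C.mat, fun a j => by
    rw [hC.inv, Int.toNat_of_nonneg hC.e_pos.le]⟩
  obtain ⟨y, hy, c, hc⟩ :=
    exists_conj_torus hF p₀ (Int.pos_iff_toNat_pos.1 hC.e_pos) hB hg hNk hgN
  have hcN : ∀ s : Fin D.nroots, chiU c (s : ℕ) ^ N = 1 := by
    intro s
    rw [← chiU_pow']
    refine (torusHom_eq_one_iff _).1 ?_ s
    rw [map_pow, ← hc, conj_pow, hgN, mul_one, mul_inv_cancel]
  -- the conjugating element
  obtain ⟨-, -, -, -, -, w, -, hw⟩ := exists_decomp hF (c₁ := c ^ j) (c₂ := c)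
    (g := y * b * y⁻¹) (Subgroup.mul_mem _ (Subgroup.mul_mem _ hy hb) (Subgroup.inv_mem _ hy)) (by
      rw [map_pow, ← hc, conj_pow, ← hbg]; group)
  haveI : NeZero (N : k) := ⟨hNk⟩
  haveI : NeZero N := ⟨hN.ne'⟩
  obtain ⟨ζ₀, hζ₀⟩ := HasEnoughRootsOfUnity.exists_primitiveRoot k N
  obtain ⟨ζ, rfl⟩ := (hζ₀.isUnit hN.ne')
  have hζ : IsPrimitiveRoot ζ N := IsPrimitiveRoot.coe_units_iff.1 hζ₀
  have hlog : ∀ i : Fin D.rank, ∃ a : ℕ, chiU c (D.simple i) = ζ ^ a := fun i => by
    have h := hcN ⟨D.simple i, hF.simple_lt i i.2⟩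
    obtain ⟨a, -, ha⟩ := hζ₀.eq_pow_of_pow_eq_one (ξ := ((chiU c (D.simple i) : kˣ) : k))
      (by rw [← Units.val_pow_eq_pow_val, h]; rfl)
    exact ⟨a, Units.ext (by rw [Units.val_pow_eq_pow_val, ha])⟩
  choose a ha using hlog
  have hchi : ∀ s : Fin D.nroots,
      chiU c (s : ℕ) = ζ ^ (∑ i : Fin D.rank, C.coord s i * (a i : ℤ)) := by
    intro s
    rw [zpow_sum']
    simp only [mul_comm (C.coord (s : ℕ) _), zpow_mul, zpow_natCast, ← ha]
    simp only [chiU, ← Finset.prod_zpow, ← zpow_mul]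
    rw [Finset.prod_comm]
    refine Finset.prod_congr rfl fun i _ => ?_
    rw [← zpow_sum', hC.coord_spec s i]
    exact congrArg _ (Finset.sum_congr rfl fun l _ => mul_comm _ _)
  -- a point with these values
  obtain ⟨e', he'⟩ : ∃ e' : ℤ, (N : ℤ) ∣ e' * C.e - 1 := by
    refine ⟨Int.gcdB N C.e, -Int.gcdA N C.e, ?_⟩
    have h := Int.gcd_eq_gcd_ab N C.e
    rw [hNe] at h
    push_cast at h
    linear_combination -h
  set v : Fin D.rank → ℤ := fun b => e' * ∑ i : Fin D.rank, C.mat b i * (a i : ℤ) with hv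
  have hvs : ∀ l : Fin D.rank, (N : ℤ) ∣ ip D v (D.simple l) - a l := by
    intro l
    have h : ip D v (D.simple l) = e' * C.e * a l := by
      simp only [ip, hv, Finset.mul_sum, Finset.sum_mul]
      rw [Finset.sum_comm]
      have e : ∀ i : Fin D.rank, ∑ x : Fin D.rank, e' * (C.mat x i * (a i : ℤ)) *
          D.cartan x (D.simple l) = e' * (a i : ℤ) * (if l = i then C.e else 0) := fun i => by
        rw [← hinv' l i, Finset.mul_sum]
        exact Finset.sum_congr rfl fun x _ => by ring
      simp only [e, mul_ite, mul_zero, Finset.sum_ite_eq, Finset.mem_univ, if_true]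
      ring
    rw [h]
    exact dvd_trans he' ⟨a l, by ring⟩
  have hval : ∀ s : Fin D.nroots, chiU c (s : ℕ) = ζ ^ ip D v (s : ℕ) := by
    intro s
    rw [hchi, ip_eq_coord hF hC]
    refine (zpow_iff hζ _ _).2 ?_
    rw [← Finset.sum_sub_distrib]
    refine Finset.dvd_sum fun i _ => ?_
    rw [← mul_sub]
    exact Dvd.dvd.mul_left (dvd_sub_comm.1 (hvs i)) _
  -- the representative in the alcove
  have hHpos : 0 < C.e * C.h := by
    obtain ⟨h1, h2⟩ := hC.rho_spec (sRoot hF ⟨0, hF.rank_pos⟩)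
    simp only [offs] at h1 h2
    split at h1 <;> simp_all <;> omega
  obtain ⟨u, μ, hu⟩ := exists_alcove hF hC (show (0 : ℤ) < N by exact_mod_cast hN) _ rfl hHpos _ v rfl
  set z := Eigen.wordV D u v + (N : ℤ) • μ with hz
  set π := pWord hF u with hπ
  have hzval : ∀ s : Fin D.nroots, chiU c (s : ℕ) = ζ ^ ip D z (π s : ℕ) := by
    intro s
    rw [hval, hz, hπ, ip_add, ip_wordV hF, ip_smul]
    exact (zpow_iff hζ _ _).2 ⟨-ip D μ (pWord hF u s : ℕ), by ring⟩
  have hz0 : ∀ i : Fin D.rank, 0 ≤ ip D z (D.simple i) := fun i => by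
    have := hu (sRoot hF i)
    rwa [show (sRoot hF i : ℕ) = D.simple i from rfl, offs,
      if_neg (not_lt.2 (hF.simple_pos i i.2)), mul_zero, add_zero] at this
  set a' : Fin D.rank → ℕ := fun i => (ip D z (D.simple i)).toNat with ha'
  have ha'v : ∀ i, ((a' i : ℕ) : ℤ) = ip D z (D.simple i) := fun i => Int.toNat_of_nonneg (hz0 i)
  have hzc : ∀ s : Fin D.nroots,
      ip D z (s : ℕ) = ∑ i : Fin D.rank, C.coord s i * (a' i : ℤ) := fun s => by
    rw [ip_eq_coord hF hC]; simp only [ha'v]
  have hlen : marks.length = D.rank := by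
    have := congrArg List.length hM
    simpa using this.symm
  have hmarks : marks = List.ofFn fun i : Fin D.rank => marks.getD i 0 := by
    refine List.ext_getElem (by simp [hlen]) fun n h1 h2 => ?_
    simp [List.getD_eq_getElem, h1]
  have hmi : ∀ i : Fin D.rank, ((marks.getD i 0 : ℕ) : ℤ) = -C.coord C.low i := fun i => by
    have := congrArg (fun l => l.getD (i : ℕ) (0 : ℤ)) hM
    simp only [List.getD_eq_getElem?_getD, List.getElem?_map, List.getElem?_ofFn, i.2,
      dite_true, Option.getD_some] at this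
    rw [this, List.getD_eq_getElem?_getD]
    rcases h : marks[(i : ℕ)]? with _ | m <;> simp [h]
  have hsum : ∑ i : Fin D.rank, marks.getD i 0 * a' i ≤ N := by
    have hlow : C.low < D.nroots := lt_of_lt_of_le hC.low_neg (by rw [hF.nroots_even]; omega)
    have h := hu ⟨C.low, hlow⟩
    rw [hzc] at h
    simp only [offs, if_pos hC.low_neg, mul_one] at h
    have e : ((∑ i : Fin D.rank, marks.getD i 0 * a' i : ℕ) : ℤ) =
        -∑ i : Fin D.rank, C.coord C.low i * (a' i : ℤ) := by
      push_cast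
      rw [← Finset.sum_neg_distrib]
      exact Finset.sum_congr rfl fun i _ => by rw [hmi]; ring
    omega
  have hmem : List.ofFn a' ∈ simplex marks N := by
    rw [hmarks]
    refine mem_simplex _ a' N (fun i => ?_) hsum
    refine hMpos _ ?_
    rw [List.getD_eq_getElem _ _ (by rw [hlen]; exact i.2)]
    exact List.getElem_mem _
  have hpt := List.all_eq_true.1 htest _ hmem
  simp only [Bool.or_eq_true, List.any_eq_true, List.all_eq_true, beq_iff_eq, List.mem_range,
    bne_iff_ne, ne_eq] at hpt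
  rcases hpt with ⟨l, hl, hall⟩ | ⟨t, ht, hcnt⟩
  · refine hgl l hl ?_
    have h1 : ∀ s : Fin D.nroots, chiU c (s : ℕ) ^ (N / l) = 1 := fun s => by
      rw [hzval, ← zpow_natCast, ← zpow_mul, hζ.zpow_eq_one_iff_dvd, hzc]
      have hd : (l : ℤ) ∣ ∑ i : Fin D.rank, C.coord (π s) i * (a' i : ℤ) :=
        Finset.dvd_sum fun i _ => Dvd.dvd.mul_left
          (Int.natCast_dvd_natCast.2 (Nat.dvd_of_mod_eq_zero
            (hall _ (List.mem_ofFn.2 ⟨i, rfl⟩)))) _
      obtain ⟨q, hq⟩ := hd
      refine ⟨q, ?_⟩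
      rw [hq, mul_right_comm]
      congr 1
      exact_mod_cast Nat.mul_div_cancel' (hps l hl)
    have h2 : torusHom (c ^ (N / l)) = (1 : GL D.Idx k) :=
      (torusHom_eq_one_iff _).2 fun s => by rw [chiU_pow', h1]
    rw [map_pow, ← hc, conj_pow, mul_inv_eq_one, mul_eq_left] at h2
    exact h2
  · refine hcnt ?_
    have hcount : ∀ t' : ℕ, t' < N →
        (rows.map fun row => val N row (List.ofFn a')).countP (fun v => v == (t' : ℤ)) =
          (Finset.univ.filter fun s : Fin D.nroots => chiU c (s : ℕ) = ζ ^ t').card := by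
      intro t' ht'
      rw [hR, List.map_ofFn, countP_ofFn]
      refine Finset.card_equiv π.symm fun s => ?_
      simp only [Finset.mem_filter, Finset.mem_univ, true_and, Function.comp_apply, beq_iff_eq,
        val, zipWith_ofFn, List.sum_ofFn]
      rw [hzval, Equiv.apply_symm_apply, hzc, ← zpow_natCast, zpow_iff hζ]
      have hr : (t' : ℤ) % (N : ℤ) = t' :=
        Int.emod_eq_of_lt (Int.natCast_nonneg _) (by exact_mod_cast ht')
      conv_lhs => rw [← hr]
      exact Int.modEq_comm.trans Int.modEq_iff_dvd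
    rw [hcount t ht, hcount _ (Nat.mod_lt _ hN)]
    refine (Finset.card_equiv (pWord hF w) fun r => ?_).symm
    simp only [Finset.mem_filter, Finset.mem_univ, true_and]
    rw [← pow_eq_pow_mod _ hζ.pow_eq_one, ← hw r, chiU_pow', mul_comm j t, pow_mul]
    constructor
    · intro h
      obtain ⟨j', hj'⟩ : ∃ j' : ℕ, (ζ ^ j) ^ j' = ζ :=
        exists_pow_eq_self_of_coprime (by rw [← hζ.eq_orderOf]; exact hj.symm)
      have hju : j * j' ≡ 1 [MOD N] := by
        rw [hζ.eq_orderOf, ← pow_eq_pow_iff_modEq, pow_mul, hj', pow_one]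
      have e : ∀ z : kˣ, z ^ N = 1 → (z ^ j) ^ j' = z := fun z hz => by
        conv_rhs => rw [← pow_one z]
        rw [← pow_mul, pow_eq_pow_iff_modEq]
        exact hju.of_dvd (orderOf_dvd_of_pow_eq_one hz)
      have h' := congrArg (· ^ j') h
      simp only [e _ (hcN _), e _ (show (ζ ^ t) ^ N = 1 by
        rw [← pow_mul, mul_comm, pow_mul, hζ.pow_eq_one, one_pow])] at h'
      exact h'
    · intro h; rw [h]

end Cfsg.Agent.AltSec.TorusTest
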