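import Cfsg.Agent.AltSec.Klein

/-! Canonical lifts of three-cycles. -/

namespace Cfsg.Agent.AltSec

open Equiv
open scoped commutatorElement

variable {k V : Type*} [Field k] [AddCommGroup V] [Module k V] {r : ℕ}

section Perms

variable {a b c d e f g : Fin r}

local macro "perm_ext" : tactic =>
  `(tactic| (ext x; simp [tc, dt, Equiv.swap_apply_def]; grind))

theorem nodup_five : [a, b, c, d, e].Nodup ↔ (a ≠ b ∧ a ≠ c ∧ a ≠ d ∧ a ≠ e ∧ b ≠ c ∧ b ≠ d ∧
    b ≠ e ∧ c ≠ d ∧ c ≠ e ∧ d ≠ e) := by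
  simp [List.nodup_cons]; tauto

theorem nodup_three : [a, b, c].Nodup ↔ (a ≠ b ∧ a ≠ c ∧ b ≠ c) := by
  simp [List.nodup_cons]; tauto

theorem sign_tc' (h : [a, b, c].Nodup) : Perm.sign (tc a b c) = 1 := by
  rw [nodup_three] at h; exact sign_tc h.1 h.2.2

theorem tc_rot (h : [a, b, c].Nodup) : tc b c a = tc a b c := by
  rw [nodup_three] at h; perm_ext

theorem tc_cube (h : [a, b, c].Nodup) : tc a b c ^ 3 = 1 := by
  rw [nodup_three] at h
  rw [pow_succ, pow_two]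
  perm_ext

theorem tc_inv (h : [a, b, c].Nodup) : (tc a b c)⁻¹ = tc a c b := by
  rw [nodup_three] at h
  refine inv_eq_of_mul_eq_one_right ?_
  perm_ext

theorem tc_sq (h : [a, b, c].Nodup) : tc a c b * tc a c b = tc a b c := by
  rw [nodup_three] at h; perm_ext

theorem dt_chain (h : [b, c, d, e].Nodup) (h' : [b, c, f, g].Nodup) (h'' : [d, e, f, g].Nodup) :
    dt b c d e * dt d e f g = dt b c f g := by
  rw [nodup_four] at h h' h''; perm_ext

theorem dt_mul_tc (h : [a, b, c, d, e].Nodup) : dt b c d e * tc a b c = dt c a d e := by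
  rw [nodup_five] at h; perm_ext

theorem conj_dt_tc (h : [a, b, c, d, e].Nodup) :
    dt b c d e * tc a b c * (dt b c d e)⁻¹ = tc a c b := by
  rw [nodup_five] at h
  rw [conj_tc]
  obtain ⟨h1, h2, -, -⟩ := dt_apply (show [b, c, d, e].Nodup by rw [nodup_four]; tauto)
  rw [h1, h2, dt_apply_of_ne h.1 h.2.1 h.2.2.1 h.2.2.2.1]

theorem commute_tc_dt (h : [a, b, c].Nodup) (h' : [d, e, f, g].Nodup)
    (hd : ∀ x ∈ [a, b, c], x ∉ [d, e, f, g]) : Commute (tc a b c) (dt d e f g) := by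
  refine Perm.Disjoint.commute fun x => ?_
  by_cases hx : x ∈ [a, b, c]
  · right
    have := hd x hx
    simp only [List.mem_cons, List.not_mem_nil, or_false, not_or] at this
    exact dt_apply_of_ne this.1 this.2.1 this.2.2.1 this.2.2.2
  · left
    simp only [List.mem_cons, List.not_mem_nil, or_false, not_or] at hx
    exact tc_apply_of_ne hx.1 hx.2.1 hx.2.2

theorem commute_tc_tc {a' b' c' : Fin r} (hd : ∀ x ∈ [a, b, c], x ∉ [a', b', c']) :
    Commute (tc a b c) (tc a' b' c') := by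
  refine Perm.Disjoint.commute fun x => ?_
  by_cases hx : x ∈ [a, b, c]
  · right
    have := hd x hx
    simp only [List.mem_cons, List.not_mem_nil, or_false, not_or] at this
    exact tc_apply_of_ne this.1 this.2.1 this.2.2
  · left
    simp only [List.mem_cons, List.not_mem_nil, or_false, not_or] at hx
    exact tc_apply_of_ne hx.1 hx.2.1 hx.2.2

end Perms

theorem comm_mul_commute {G : Type*} [Group G] {S P T : G} (h : Commute P T) :
    ⁅S * P, T⁆ = ⁅S, T⁆ := by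
  rw [commutatorElement_def, commutatorElement_def,
    show S * P * T * (S * P)⁻¹ = S * (P * T) * P⁻¹ * S⁻¹ by group, h.eq]
  group

open Classical in
/-- canonical lift of the three-cycle `(a b c)` -/
noncomputable def x3 (ρ : PRep k V r) (a b c : Fin r) : GV k V :=
  if h : ∃ q : Fin r × Fin r, [a, b, c, q.1, q.2].Nodup then
    ⁅ρ.f (dt b c h.choose.1 h.choose.2), ρ.f (tc a b c)⁆
  else 1

namespace PRep

variable {ρ : PRep k V r}

theorem x3_eq (hr : 9 ≤ r) {a b c d e : Fin r} (h : [a, b, c, d, e].Nodup) :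
    x3 ρ a b c = ⁅ρ.f (dt b c d e), ρ.f (tc a b c)⁆ := by
  have key : ∀ d e f g : Fin r, [a, b, c, d, e, f, g].Nodup →
      ⁅ρ.f (dt b c f g), ρ.f (tc a b c)⁆ = ⁅ρ.f (dt b c d e), ρ.f (tc a b c)⁆ := by
    intro d e f g h7
    have h3 : [a, b, c].Nodup := h7.sublist (List.take_sublist 3 [a, b, c, d, e, f, g])
    have h1 : [b, c, d, e].Nodup := by simp [List.nodup_cons] at h7 ⊢; grind
    have h2 : [b, c, f, g].Nodup := by simp [List.nodup_cons] at h7 ⊢; grind
    have hP : [d, e, f, g].Nodup := h7.sublist (List.drop_sublist 3 [a, b, c, d, e, f, g])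
    have hd : ∀ x ∈ [a, b, c], x ∉ [d, e, f, g] := by
      simp [List.nodup_cons] at h7 ⊢; grind
    have lS := (ρ.lifts_f (dt b c d e)).mul (sign_dt' h1) (sign_dt' hP) (ρ.lifts_f (dt d e f g))
    rw [dt_chain h1 h2 hP] at lS
    rw [← comm_eq (ρ.lifts_f (dt b c f g)) lS (ρ.lifts_f _) (ρ.lifts_f (tc a b c)),
      comm_mul_commute]
    exact (cm_of_coprime (sign_dt' hP) (sign_tc' h3) (commute_tc_dt h3 hP hd).symm
      (dt_sq hP) (tc_cube h3) (by norm_num)).lifts (ρ.lifts_f _) (ρ.lifts_f _)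
  have hex : ∃ q : Fin r × Fin r, [a, b, c, q.1, q.2].Nodup := ⟨(d, e), h⟩
  rw [x3, dif_pos hex]
  have h' := hex.choose_spec
  generalize hex.choose.1 = d', hex.choose.2 = e' at h' ⊢
  obtain ⟨f, g, hfg, hf, hg⟩ := exists_avoid2 [a, b, c, d, e, d', e'] (by simp; omega)
  simp only [List.mem_cons, List.not_mem_nil, or_false, not_or] at hf hg
  rw [← key d' e' f g (by simp [List.nodup_cons] at h' ⊢; grind),
    key d e f g (by simp [List.nodup_cons] at h ⊢; grind)]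

theorem exists_pair (hr : 9 ≤ r) {a b c : Fin r} (h : [a, b, c].Nodup) :
    ∃ d e, [a, b, c, d, e].Nodup := by
  obtain ⟨d, e, hde, hd, he⟩ := exists_avoid2 [a, b, c] (by simp; omega)
  exact ⟨d, e, by simp [List.nodup_cons] at h hd he ⊢; grind⟩

theorem lifts_x3 (hr : 9 ≤ r) {a b c : Fin r} (h : [a, b, c].Nodup) :
    ρ.Lifts (tc a b c) (x3 ρ a b c) := by
  obtain ⟨d, e, h5⟩ := exists_pair hr h
  have h4 : [b, c, d, e].Nodup := h5.sublist (List.drop_sublist 1 [a, b, c, d, e])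
  rw [x3_eq hr h5]
  have := (ρ.lifts_f (dt b c d e)).comm (sign_dt' h4) (sign_tc' h) (ρ.lifts_f (tc a b c))
  rw [commutatorElement_def (dt b c d e), conj_dt_tc h5, tc_inv h, tc_sq h] at this
  exact this

theorem conj_x3 (hr : 9 ≤ r) {a b c : Fin r} (h : [a, b, c].Nodup) {σ : Perm (Fin r)} {G : GV k V}
    (hσ : Perm.sign σ = 1) (hG : ρ.Lifts σ G) :
    G * x3 ρ a b c * G⁻¹ = x3 ρ (σ a) (σ b) (σ c) := by
  obtain ⟨d, e, h5⟩ := exists_pair hr h
  have h4 : [b, c, d, e].Nodup := h5.sublist (List.drop_sublist 1 [a, b, c, d, e])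
  rw [x3_eq hr h5, x3_eq hr (d := σ d) (e := σ e) (by simpa using nodup_map σ h5),
    conjugate_commutatorElement]
  have l1 := hG.conj hσ (sign_dt' h4) (ρ.lifts_f (dt b c d e))
  have l2 := hG.conj hσ (sign_tc' h) (ρ.lifts_f (tc a b c))
  rw [conj_dt] at l1
  rw [conj_tc] at l2
  exact comm_eq (ρ.lifts_f _) l1 (ρ.lifts_f _) l2

theorem x3_rot (hr : 9 ≤ r) {a b c : Fin r} (h : [a, b, c].Nodup) :
    x3 ρ b c a = x3 ρ a b c := by
  obtain ⟨d, e, h5⟩ := exists_pair hr h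
  have h5' : [b, c, a, d, e].Nodup := by rw [nodup_five] at h5 ⊢; tauto
  have h4 : [b, c, d, e].Nodup := h5.sublist (List.drop_sublist 1 [a, b, c, d, e])
  rw [x3_eq hr h5, x3_eq hr h5', tc_rot h]
  have lS := (ρ.lifts_f (dt b c d e)).mul (sign_dt' h4) (sign_tc' h) (ρ.lifts_f (tc a b c))
  rw [dt_mul_tc h5] at lS
  rw [← comm_eq (ρ.lifts_f (dt c a d e)) lS (ρ.lifts_f (tc a b c)) (ρ.lifts_f _),
    comm_mul_commute (Commute.refl _)]

theorem x3_core (hr : 9 ≤ r) {a b c d e : Fin r} (h : [a, b, c, d, e].Nodup) :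
    x3 ρ a b c ^ 3 = 1 ∧
      ρ.f (dt b c d e) * x3 ρ a b c * (ρ.f (dt b c d e))⁻¹ = (x3 ρ a b c)⁻¹ := by
  have h3 : [a, b, c].Nodup := h.sublist (List.take_sublist 3 [a, b, c, d, e])
  have h4 : [b, c, d, e].Nodup := h.sublist (List.drop_sublist 1 [a, b, c, d, e])
  have lT := ρ.lifts_f (tc a b c)
  have l := (ρ.lifts_f (dt b c d e)).conj (sign_dt' h4) (sign_tc' h3) lT
  rw [conj_dt_tc h, ← tc_inv h3] at l
  obtain ⟨lam, hlam⟩ := (lT.inv (sign_tc' h3)).unique l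
  obtain ⟨c', hc⟩ := pow_scalar (sign_tc' h3) lT (tc_cube h3)
  rw [x3_eq hr h, commutatorElement_def]
  generalize ρ.f (dt b c d e) = S at hlam
  generalize ρ.f (tc a b c) = T at hlam hc
  have := ρ.nt
  have hlam3 : lam ^ 3 = c' * c' := by
    have h1 : (S * T * S⁻¹) ^ 3 = sc c' := by rw [conj_pow, hc, ← sc_comm]; group
    rw [hlam, (sc_commute lam _).mul_pow, inv_pow, hc, ← map_pow, ← map_inv, ← map_mul] at h1
    have := sc_injective h1
    rw [mul_inv_eq_iff_eq_mul] at this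
    exact this
  constructor
  · rw [hlam, mul_assoc, (sc_commute lam _).mul_pow, ← pow_two, ← pow_mul,
      show 2 * 3 = 3 * 2 by norm_num, pow_mul, inv_pow, hc, ← map_pow, ← map_inv, ← map_pow,
      ← map_mul, hlam3, inv_pow, ← pow_two, mul_inv_cancel, map_one]
  · rw [hlam]
    calc S * (sc lam * T⁻¹ * T⁻¹) * S⁻¹
        = S * sc lam * S⁻¹ * (S * T * S⁻¹)⁻¹ * (S * T * S⁻¹)⁻¹ := by group
      _ = sc lam * (T * (sc lam)⁻¹) * (T * (sc lam)⁻¹) := by rw [← sc_comm, hlam]; group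
      _ = sc lam * (sc lam⁻¹ * T) * (T * (sc lam)⁻¹) := by rw [← map_inv, sc_comm lam⁻¹ T]
      _ = (sc lam * T⁻¹ * T⁻¹)⁻¹ := by simp [mul_assoc, map_inv]

theorem x3_cube (hr : 9 ≤ r) {a b c : Fin r} (h : [a, b, c].Nodup) : x3 ρ a b c ^ 3 = 1 := by
  obtain ⟨d, e, h5⟩ := exists_pair hr h
  exact (x3_core hr h5).1

theorem x3_inv (hr : 9 ≤ r) {a b c : Fin r} (h : [a, b, c].Nodup) :
    (x3 ρ a b c)⁻¹ = x3 ρ a c b := by
  obtain ⟨d, e, h5⟩ := exists_pair hr h
  have h4 : [b, c, d, e].Nodup := h5.sublist (List.drop_sublist 1 [a, b, c, d, e])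
  have hd := dt_apply h4
  have hn := nodup_five.1 h5
  rw [← (x3_core hr h5).2, conj_x3 hr h (sign_dt' h4) (ρ.lifts_f _), hd.1, hd.2.1,
    dt_apply_of_ne hn.1 hn.2.1 hn.2.2.1 hn.2.2.2.1]

theorem x3_commute (hr : 9 ≤ r) {a b c a' b' c' : Fin r} (h : [a, b, c, a', b', c'].Nodup) :
    Commute (x3 ρ a b c) (x3 ρ a' b' c') := by
  have := ρ.nt
  have h3 : [a, b, c].Nodup := h.sublist (List.take_sublist 3 [a, b, c, a', b', c'])
  have h3' : [a', b', c'].Nodup := h.sublist (List.drop_sublist 3 [a, b, c, a', b', c'])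
  obtain ⟨d, e, hde, hd, he⟩ := exists_avoid2 [a, b, c, a', b', c'] (by simp; omega)
  simp only [List.mem_cons, List.not_mem_nil, or_false, not_or] at hd he
  have h5 : [a, b, c, d, e].Nodup := by
    simp [List.nodup_cons] at h ⊢; grind
  have h4 : [b, c, d, e].Nodup := h5.sublist (List.drop_sublist 1 [a, b, c, d, e])
  have hx : ∀ x ∈ [a, b, c], x ∉ [a', b', c'] := by
    simp [List.nodup_cons] at h ⊢; grind
  obtain ⟨η, hη⟩ := exists_scalar (sign_tc' h3) (sign_tc' h3') (lifts_x3 (ρ := ρ) hr h3) (lifts_x3 (ρ := ρ) hr h3')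
    (commute_tc_tc hx)
  have hη3 : η ^ 3 = 1 :=
    scalar_pow_eq_one (sign_tc' h3') (lifts_x3 hr h3') (tc_cube h3') hη
  have hfix : dt b c d e a' = a' ∧ dt b c d e b' = b' ∧ dt b c d e c' = c' := by
    simp [List.nodup_cons] at h
    refine ⟨dt_apply_of_ne ?_ ?_ ?_ ?_, dt_apply_of_ne ?_ ?_ ?_ ?_,
      dt_apply_of_ne ?_ ?_ ?_ ?_⟩ <;> grind
  have hY := conj_x3 (ρ := ρ) hr h3' (sign_dt' h4) (ρ.lifts_f (dt b c d e))
  rw [hfix.1, hfix.2.1, hfix.2.2] at hY
  have hX := (x3_core (ρ := ρ) hr h5).2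
  generalize x3 ρ a b c = X at hη hX
  generalize x3 ρ a' b' c' = Y at hη hY
  have h1 : X⁻¹ * Y = sc η * (Y * X⁻¹) :=
    scalar_conj (μ := 1) (ν := 1) (G := ρ.f (dt b c d e)) hη (by rw [hX, map_one, one_mul])
      (by rw [hY, map_one, one_mul])
  have h2 : Y * X = sc η * (X * Y) := by
    calc Y * X = X * (X⁻¹ * Y) * X := by group
      _ = X * sc η * Y := by rw [h1]; group
      _ = sc η * X * Y := by rw [sc_comm η X]
      _ = _ := by group
  have hh : X * Y = sc (η * η) * (X * Y) := by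
    conv_lhs => rw [hη, h2]
    rw [map_mul]; group
  have hη2 : η * η = 1 := sc_injective (by rw [map_one]; exact mul_eq_right.1 hh.symm)
  have : η = 1 := by
    calc η = η ^ 3 * (η * η)⁻¹ := by group
      _ = 1 := by rw [hη3, hη2, inv_one, one_mul]
  rw [this, map_one, one_mul] at hη
  exact hη

end PRep

end Cfsg.Agent.AltSec
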