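import Cfsg.Agent.AltSec.TwoBasic
import Cfsg.Agent.AltSec.Five
import Cfsg.Agent.AltSec.OddRank

/-! Characteristic two: in small degree the lifted three-cycles have rank two. -/

namespace Cfsg.Agent.AltSec

open Equiv Module
open scoped commutatorElement

variable {k V : Type*} [Field k] [AddCommGroup V] [Module k V] {r : ℕ}

/-- powers of a cube root of unity -/
def z3 (ω : k) (e : Fin 3) : k := ω ^ e.val

section Omega

variable {ω : k}

theorem exists_omega (k : Type*) [Field k] [IsAlgClosed k] : ∃ ω : k, ω ^ 2 + ω + 1 = 0 := by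
  obtain ⟨ω, h⟩ := IsAlgClosed.exists_root
    (Polynomial.X ^ 2 + Polynomial.X + 1 : Polynomial k) (by
      have hd : (Polynomial.X ^ 2 + Polynomial.X + 1 : Polynomial k).degree = 2 := by compute_degree!
      rw [hd]; decide)
  exact ⟨ω, by simpa [Polynomial.IsRoot] using h⟩

theorem omega_cube (hω : ω ^ 2 + ω + 1 = 0) : ω ^ 3 = 1 := by linear_combination (ω - 1) * hω

theorem z3_add (hω : ω ^ 2 + ω + 1 = 0) (a b : Fin 3) : z3 ω (a + b) = z3 ω a * z3 ω b := by
  rw [z3, z3, z3, ← pow_add, Fin.val_add, ← pow_eq_pow_mod _ (omega_cube hω)]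

@[simp] theorem z3_zero : z3 ω 0 = 1 := by simp [z3]

theorem three_eq_one (h2 : (2 : k) = 0) : (3 : k) = 1 := by linear_combination h2

theorem z3_eq_one (h2 : (2 : k) = 0) (hω : ω ^ 2 + ω + 1 = 0) {e : Fin 3} (h : z3 ω e = 1) :
    e = 0 := by
  have h1 : ω ≠ 1 := by
    rintro rfl
    exact one_ne_zero (by linear_combination hω - h2 : (1 : k) = 0)
  fin_cases e
  · rfl
  · simp [z3] at h; exact absurd h h1
  · have h' : ω ^ (2 : ℕ) = 1 := h
    have h0 : ω = 0 := by linear_combination hω - h' - h2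
    rw [h0] at h'
    simp at h'

theorem z3_ne_zero (hω : ω ^ 2 + ω + 1 = 0) (e : Fin 3) : z3 ω e ≠ 0 := by
  refine pow_ne_zero _ ?_
  rintro rfl
  simp at hω

theorem z3_injective (h2 : (2 : k) = 0) (hω : ω ^ 2 + ω + 1 = 0) : Function.Injective (z3 ω) := by
  intro a b h
  have : z3 ω (a - b) = 1 := by
    refine mul_right_cancel₀ (z3_ne_zero hω b) ?_
    rw [← z3_add hω, sub_add_cancel, one_mul, h]
  exact sub_eq_zero.1 (z3_eq_one h2 hω this)

theorem z3_inv (hω : ω ^ 2 + ω + 1 = 0) (e : Fin 3) : (z3 ω e)⁻¹ = z3 ω (-e) := by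
  refine inv_eq_of_mul_eq_one_right ?_
  rw [← z3_add hω, add_neg_cancel, z3_zero]

theorem z3_trace (hω : ω ^ 2 + ω + 1 = 0) (i : Fin 3) (hi : i ≠ 0) :
    z3 ω (i + i) + z3 ω i + 1 = 0 := by
  fin_cases i
  · exact absurd rfl hi
  · simp [z3]; exact hω
  · simp [z3]; linear_combination hω

end Omega

/-- the moving part of a three-cycle lift -/
noncomputable def W3 (ρ : PRep k V r) (a b c : Fin r) : Submodule k V :=
  LinearMap.ker ((x3 ρ a b c : Module.End k V) * (x3 ρ a b c : Module.End k V) +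
    (x3 ρ a b c : Module.End k V) + 1)

theorem mem_W3 {ρ : PRep k V r} {a b c : Fin r} {v : V} :
    v ∈ W3 ρ a b c ↔ (x3 ρ a b c : Module.End k V) ((x3 ρ a b c : Module.End k V) v) +
      (x3 ρ a b c : Module.End k V) v + v = 0 := by
  simp [W3, LinearMap.mem_ker, Module.End.mul_apply]

/-- linearly independent vectors from distinct joint eigenvalues inside a subspace -/
theorem card_le_sub [FiniteDimensional k V] {ι J : Type*} [Fintype J]
    {X : ι → Module.End k V} {f : J → ι → k} (hf : Function.Injective f) (U : Submodule k V)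
    (h : ∀ j, ∃ v ∈ U, v ≠ 0 ∧ v ∈ joint X (f j)) : Fintype.card J ≤ finrank k U := by
  classical
  choose b hbU hb0 hb using h
  have li : LinearIndependent k (fun j => (⟨b j, hbU j⟩ : U)) := by
    apply LinearIndependent.of_comp U.subtype
    rw [Fintype.linearIndependent_iff]
    intro g hg j
    have := joint_sum_eq_zero hf Finset.univ (fun j => g j • b j)
      (fun j _ => Submodule.smul_mem _ _ (hb j)) (by simpa using hg) j (Finset.mem_univ j)
    exact (smul_eq_zero.1 this).resolve_right (hb0 j)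
  exact li.fintype_card_le_finrank

namespace PRep

variable {ρ : PRep k V r}

/-- characteristic two, many points -/
structure Char2 (ρ : PRep k V r) : Prop where
  nine : 9 ≤ r
  two : (2 : k) = 0

theorem Char2.add_self (C : ρ.Char2) (v : V) : v + v = 0 := by
  rw [← two_smul k v, C.two, zero_smul]

theorem Char2.neg_eq (C : ρ.Char2) (v : V) : -v = v := (eq_neg_of_add_eq_zero_left (C.add_self v)).symm

theorem Char2.apply3 (C : ρ.Char2) {a b c : Fin r} (h : [a, b, c].Nodup) (v : V) :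
    (x3 ρ a b c : Module.End k V) ((x3 ρ a b c : Module.End k V)
      ((x3 ρ a b c : Module.End k V) v)) = v := by
  have h3 := x3_cube (ρ := ρ) C.nine h
  rw [pow_succ, pow_two] at h3
  rw [← gv_apply_mul, ← gv_apply_mul, h3, Units.val_one, Module.End.one_apply]

theorem Char2.sub_mem_W3 (C : ρ.Char2) {a b c : Fin r} (h : [a, b, c].Nodup) (v : V) :
    (x3 ρ a b c : Module.End k V) v - v ∈ W3 ρ a b c := by
  rw [mem_W3]
  simp only [map_sub]
  rw [C.apply3 h]
  abel

theorem Char2.W3_fix (C : ρ.Char2) {a b c : Fin r} {v : V} (h : v ∈ W3 ρ a b c)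
    (hv : (x3 ρ a b c : Module.End k V) v = v) : v = 0 := by
  rw [mem_W3, hv, hv] at h
  rwa [C.add_self, zero_add] at h

theorem apply_conj3 (hr : 9 ≤ r) {a b c : Fin r} (h : [a, b, c].Nodup) {σ : Perm (Fin r)}
    {G : GV k V} (hσ : Perm.sign σ = 1) (hG : ρ.Lifts σ G) (v : V) :
    (x3 ρ (σ a) (σ b) (σ c) : Module.End k V) ((G : Module.End k V) v) =
      (G : Module.End k V) ((x3 ρ a b c : Module.End k V) v) := by
  rw [← conj_x3 hr h hσ hG, ← gv_apply_mul, ← gv_apply_mul]
  congr 2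
  group

theorem W3_conj (hr : 9 ≤ r) {a b c : Fin r} (h : [a, b, c].Nodup) {σ : Perm (Fin r)}
    {G : GV k V} (hσ : Perm.sign σ = 1) (hG : ρ.Lifts σ G) {v : V} (hv : v ∈ W3 ρ a b c) :
    (G : Module.End k V) v ∈ W3 ρ (σ a) (σ b) (σ c) := by
  rw [mem_W3] at hv ⊢
  rw [apply_conj3 hr h hσ hG, apply_conj3 hr h hσ hG, ← map_add, ← map_add, hv, map_zero]

/-- spectral projections of a three-cycle lift -/
noncomputable def pr3 (ω : k) (X : GV k V) (e : Fin 3) (v : V) : V :=
  ∑ j : Fin 3, z3 ω (-(e * j)) • ((X ^ j.val : GV k V) : Module.End k V) v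

theorem shift3 : ∀ e j : Fin 3, e + -(e * j) = -(e * (j - 1)) + 0 * j := by decide

theorem apply_pr3 {ω : k} (hω : ω ^ 2 + ω + 1 = 0) {X : GV k V} (hX : X ^ 3 = 1) (e : Fin 3)
    (v : V) : (X : Module.End k V) (pr3 ω X e v) = z3 ω e • pr3 ω X e v := by
  simp only [pr3, map_sum, map_smul, Finset.smul_sum, smul_smul, ← z3_add hω]
  refine Fintype.sum_equiv (Equiv.addRight (1 : Fin 3)) _ _ fun j => ?_
  simp only [Equiv.coe_addRight]
  congr 1
  · congr 1; revert e j; decide
  · rw [← gv_apply_mul, ← pow_succ', Fin.val_add, ← pow_eq_pow_mod _ hX]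
    rfl

theorem sum_pr3 {ω : k} (h2 : (2 : k) = 0) (hω : ω ^ 2 + ω + 1 = 0) (X : GV k V) (v : V) :
    ∑ e, pr3 ω X e v = v := by
  simp only [pr3, Fin.sum_univ_three]
  simp only [show ∀ e : Fin 3, -(e * 0) = 0 by decide, show (-((0 : Fin 3) * 1)) = 0 by decide,
    show (-((0 : Fin 3) * 2)) = 0 by decide, show (-((1 : Fin 3) * 1)) = 2 by decide,
    show (-((1 : Fin 3) * 2)) = 1 by decide, show (-((2 : Fin 3) * 1)) = 1 by decide,
    show (-((2 : Fin 3) * 2)) = 2 by decide, z3_zero, Fin.val_zero, pow_zero, Units.val_one,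
    Module.End.one_apply, one_smul]
  have h1 : z3 ω 1 = ω := by simp [z3]
  have h22 : z3 ω 2 = ω ^ 2 := by simp [z3]
  rw [h1, h22]
  set A := ((X ^ ((1 : Fin 3) : ℕ) : GV k V) : Module.End k V) v
  set B := ((X ^ ((2 : Fin 3) : ℕ) : GV k V) : Module.End k V) v
  calc _ = (3 : k) • v + (ω ^ 2 + ω + 1) • A + (ω ^ 2 + ω + 1) • B := by module
    _ = v := by rw [hω, three_eq_one h2]; simp

theorem pr3_mem {ω : k} {X : GV k V} {W : Submodule k V}
    (hW : ∀ v ∈ W, (X : Module.End k V) v ∈ W) (e : Fin 3) {v : V} (hv : v ∈ W) :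
    pr3 ω X e v ∈ W := by
  refine Submodule.sum_mem _ fun j _ => Submodule.smul_mem _ _ ?_
  induction j.val with
  | zero => simpa using hv
  | succ n ih => rw [pow_succ', gv_apply_mul]; exact hW _ ih

theorem exists_joint3 {ι : Type*} {ω : k} (h2 : (2 : k) = 0) (hω : ω ^ 2 + ω + 1 = 0)
    (X : ι → GV k V) (hX : ∀ i, X i ^ 3 = 1) (hc : ∀ i j, Commute (X i) (X j)) (l : List ι)
    (W : Submodule k V) (hW : W ≠ ⊥) (hinv : ∀ i, ∀ v ∈ W, (X i : Module.End k V) v ∈ W) :
    ∃ v ∈ W, v ≠ 0 ∧ ∀ i ∈ l, ∃ e, (X i : Module.End k V) v = z3 ω e • v := by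
  induction l generalizing W with
  | nil =>
    obtain ⟨v, hv, hv0⟩ := (Submodule.ne_bot_iff W).1 hW
    exact ⟨v, hv, hv0, by simp⟩
  | cons a l ih =>
    obtain ⟨v0, hv0, hv00⟩ := (Submodule.ne_bot_iff W).1 hW
    obtain ⟨e, he⟩ : ∃ e, pr3 ω (X a) e v0 ≠ 0 := by
      by_contra! hall
      exact hv00 (by rw [← sum_pr3 h2 hω (X a) v0]; exact Finset.sum_eq_zero fun e _ => hall e)
    obtain ⟨v, hv, hv', hl⟩ := ih (W ⊓ Module.End.eigenspace (X a : Module.End k V) (z3 ω e))
      ((Submodule.ne_bot_iff _).2 ⟨_, ⟨pr3_mem (hinv a) e hv0,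
        Module.End.mem_eigenspace_iff.2 (apply_pr3 hω (hX a) e v0)⟩, he⟩)
      (fun i u hu => ⟨hinv i u hu.1, Module.End.mem_eigenspace_iff.2 (by
        rw [← gv_apply_mul, (hc a i).eq, gv_apply_mul, Module.End.mem_eigenspace_iff.1 hu.2,
          map_smul])⟩)
    refine ⟨v, hv.1, hv', fun i hi => ?_⟩
    rcases List.mem_cons.1 hi with rfl | hi
    · exact ⟨e, Module.End.mem_eigenspace_iff.1 hv.2⟩
    · exact hl i hi

/-- the operators of blocks of three points -/
noncomputable def bX (ρ : PRep k V r) {m : ℕ} (p : Fin m → Fin 3 → Fin r) (b : Fin m) : GV k V :=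
  x3 ρ (p b 0) (p b 1) (p b 2)

/-- joint eigenspaces of the blocks -/
noncomputable def Jt (ρ : PRep k V r) (ω : k) {m : ℕ} (p : Fin m → Fin 3 → Fin r)
    (w : Fin m → Fin 3) : Submodule k V :=
  joint (fun b => (bX ρ p b : Module.End k V)) (fun b => z3 ω (w b))

theorem mem_Jt {ω : k} {m : ℕ} {p : Fin m → Fin 3 → Fin r} {w : Fin m → Fin 3} {v : V} :
    v ∈ Jt ρ ω p w ↔ ∀ b, (bX ρ p b : Module.End k V) v = z3 ω (w b) • v := mem_joint

/-- block data -/
structure Blk (ρ : PRep k V r) (ω : k) {m : ℕ} (p : Fin m → Fin 3 → Fin r) : Prop where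
  char : ρ.Char2
  root : ω ^ 2 + ω + 1 = 0
  inj : Function.Injective fun x : Fin m × Fin 3 => p x.1 x.2

variable {ω : k} {m : ℕ} {p : Fin m → Fin 3 → Fin r}

theorem Blk.inj' (B : ρ.Blk ω p) (b : Fin m) : Function.Injective (p b) := fun i j h =>
  (Prod.ext_iff.1 (@B.inj (b, i) (b, j) h)).2

theorem Blk.ne (B : ρ.Blk ω p) {b b' : Fin m} (h : b ≠ b') (i j : Fin 3) : p b i ≠ p b' j :=
  fun e => h (Prod.ext_iff.1 (@B.inj (b, i) (b', j) e)).1

theorem Blk.nodup (B : ρ.Blk ω p) (b : Fin m) {i j l : Fin 3} (h : [i, j, l].Nodup) :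
    [p b i, p b j, p b l].Nodup :=
  h.map (B.inj' b)

theorem Blk.nodup6 (B : ρ.Blk ω p) {b b' : Fin m} (h : b ≠ b') :
    [p b 0, p b 1, p b 2, p b' 0, p b' 1, p b' 2].Nodup := by
  rw [nodup_six]
  simp [(B.inj' b).eq_iff, (B.inj' b').eq_iff, B.ne h]

theorem Blk.comm (B : ρ.Blk ω p) (b b' : Fin m) : Commute (bX ρ p b) (bX ρ p b') := by
  by_cases h : b = b'
  · subst h; exact Commute.refl _
  · exact x3_commute B.char.nine (B.nodup6 h)

theorem Blk.cube (B : ρ.Blk ω p) (b : Fin m) : bX ρ p b ^ 3 = 1 :=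
  x3_cube B.char.nine (B.nodup b (by decide))

theorem Blk.exists_eig (B : ρ.Blk ω p) (W : Submodule k V) (hW : W ≠ ⊥)
    (hinv : ∀ b, ∀ v ∈ W, (bX ρ p b : Module.End k V) v ∈ W) :
    ∃ v ∈ W, ∃ w, v ≠ 0 ∧ v ∈ Jt ρ ω p w := by
  obtain ⟨v, hv, hv0, hs⟩ := exists_joint3 B.char.two B.root (bX ρ p) B.cube B.comm
    (Finset.univ : Finset (Fin m)).toList W hW hinv
  choose w hw using fun b => hs b (Finset.mem_toList.2 (Finset.mem_univ b))
  exact ⟨v, hv, w, hv0, mem_Jt.2 hw⟩

theorem flip_choice : ∀ a c : Fin 3, (a = 0 ↔ c = 0) →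
    a = if decide (a ≠ c) then -c else c := by decide

theorem Blk.key (B : ρ.Blk ω p) (π : Perm (Fin m)) (f : Fin m → Bool) (σ : Perm (Fin r))
    (hs : Perm.sign σ = 1)
    (hσ : ∀ b i, σ (p b i) = p (π b) (if f b then swap 1 2 i else i)) {w u : Fin m → Fin 3}
    (hu : ∀ b, u (π b) = if f b then -w b else w b) :
    ∀ v ∈ Jt ρ ω p w, (ρ.f σ : Module.End k V) v ∈ Jt ρ ω p u := by
  intro v hv
  rw [mem_Jt] at hv ⊢
  intro b'
  obtain ⟨b, rfl⟩ := π.surjective b'
  have h1 := apply_conj3 B.char.nine (B.nodup b (show [(0 : Fin 3), 1, 2].Nodup by decide)) hs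
    (ρ.lifts_f σ) v
  rw [← bX, hv b, map_smul, hσ, hσ, hσ] at h1
  rw [hu]
  cases hf : f b
  · simpa [hf, bX] using h1
  · simp only [hf, if_true, Equiv.swap_apply_left, Equiv.swap_apply_right,
      Equiv.swap_apply_of_ne_of_ne (show (0 : Fin 3) ≠ 1 by decide) (show (0 : Fin 3) ≠ 2 by decide)] at h1
    rw [bX, ← x3_inv B.char.nine (B.nodup (π b) (show [(0 : Fin 3), 2, 1].Nodup by decide))]
    have h2 := eig_inv (z3_ne_zero B.root _) h1
    rwa [z3_inv B.root] at h2

theorem pigeon {m : ℕ} (hm : 3 ≤ m) (u : Fin m → Fin 3) (h : ∀ b, u b ≠ 0) :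
    ∃ b b', b ≠ b' ∧ u b = u b' := by
  obtain ⟨x, -, y, -, hxy, he⟩ := Finset.exists_ne_map_eq_of_card_lt_of_maps_to
    (s := (Finset.univ : Finset (Fin m))) (t := ({1, 2} : Finset (Fin 3))) (by simp; omega)
    (f := u) (fun b _ => by
      have := h b
      revert this
      generalize u b = i
      revert i; decide)
  exact ⟨x, y, hxy, he⟩

theorem Blk.transfer (B : ρ.Blk ω p) (hm : 3 ≤ m) {w u : Fin m → Fin 3} (π : Perm (Fin m))
    (hsupp : ∀ b, u (π b) = 0 ↔ w b = 0) :
    ∃ G : GV k V, ∀ v ∈ Jt ρ ω p w, (G : Module.End k V) v ∈ Jt ρ ω p u := by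
  classical
  set f : Fin m → Bool := fun b => decide (u (π b) ≠ w b) with hf
  have hu : ∀ b, u (π b) = if f b then -w b else w b := fun b => flip_choice _ _ (hsupp b)
  obtain ⟨σ, hσ'⟩ := Equiv.Perm.exists_extending_pair (fun x : Fin m × Fin 3 => p x.1 x.2)
    (fun x => p (π x.1) (if f x.1 then swap 1 2 x.2 else x.2)) B.inj (by
      intro x y hxy
      have := @B.inj (π x.1, if f x.1 then swap 1 2 x.2 else x.2)
        (π y.1, if f y.1 then swap 1 2 y.2 else y.2) hxy
      simp only [Prod.mk.injEq, EmbeddingLike.apply_eq_iff_eq] at this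
      refine Prod.ext this.1 ?_
      have h2 := this.2
      rw [this.1] at h2
      split_ifs at h2
      · exact (swap (1 : Fin 3) 2).injective h2
      · exact h2)
  have hσ : ∀ b i, σ (p b i) = p (π b) (if f b then swap 1 2 i else i) := fun b i => hσ' (b, i)
  rcases Int.units_eq_one_or (Perm.sign σ) with hs | hs
  · exact ⟨_, B.key π f σ hs hσ hu⟩
  by_cases hz : ∃ B0, u B0 = 0
  · obtain ⟨B0, hB0⟩ := hz
    obtain ⟨b0, rfl⟩ := π.surjective B0
    refine ⟨_, B.key π (Function.update f b0 (!f b0)) (swap (p (π b0) 1) (p (π b0) 2) * σ)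
      (by simp [hs, Perm.sign_swap ((B.inj' (π b0)).ne (show (1 : Fin 3) ≠ 2 by decide))])
      (fun b i => ?_) (fun b => ?_)⟩
    · rw [Perm.mul_apply, hσ]
      by_cases hb : b = b0
      · subst hb
        rw [← (B.inj' (π b)).map_swap, Function.update_self]
        cases f b <;> simp
      · rw [Function.update_of_ne hb, Equiv.swap_apply_of_ne_of_ne
          (B.ne (π.injective.ne hb) _ _) (B.ne (π.injective.ne hb) _ _)]
    · by_cases hb : b = b0
      · subst hb
        rw [hB0, (hsupp b).1 hB0]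
        simp
      · rw [Function.update_of_ne hb]; exact hu b
  · rw [not_exists] at hz
    obtain ⟨B0, B1, hne, he⟩ := pigeon hm u hz
    set τ := swap (p B0 0) (p B1 0) * swap (p B0 1) (p B1 1) * swap (p B0 2) (p B1 2) with hτ
    have hτv : ∀ b i, τ (p b i) = p (swap B0 B1 b) i := by
      intro b i
      have e : ∀ j, swap (p B0 j) (p B1 j) (p b i) =
          if i = j then p (swap B0 B1 b) i else p b i := by
        intro j
        by_cases hij : i = j
        · subst hij
          rw [if_pos rfl]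
          exact (Function.Injective.map_swap (f := fun c => p c i) (fun c c' h =>
            (Prod.ext_iff.1 (@B.inj (c, i) (c', i) h)).1) B0 B1 b).symm
        · rw [if_neg hij, Equiv.swap_apply_of_ne_of_ne] <;>
            exact fun h => hij (Prod.ext_iff.1 (@B.inj (_, i) (_, j) h)).2
      have e' : ∀ j, i ≠ j → swap (p B0 j) (p B1 j) (p (swap B0 B1 b) i) = p (swap B0 B1 b) i := by
        intro j hij
        refine Equiv.swap_apply_of_ne_of_ne ?_ ?_ <;>
          exact fun h => hij (Prod.ext_iff.1 (@B.inj (_, i) (_, j) h)).2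
      simp only [hτ, Perm.mul_apply]
      rcases (show i = 0 ∨ i = 1 ∨ i = 2 by clear e e'; revert i; decide) with
        rfl | rfl | rfl
      · rw [e 2, if_neg (by decide), e 1, if_neg (by decide), e 0, if_pos rfl]
      · rw [e 2, if_neg (by decide), e 1, if_pos rfl, e' 0 (by decide)]
      · rw [e 2, if_pos rfl, e' 1 (by decide), e' 0 (by decide)]
    refine ⟨_, B.key (swap B0 B1 * π) f (τ * σ)
      (by simp [hτ, hs, Perm.sign_swap (B.ne hne _ _)])
      (fun b i => by rw [Perm.mul_apply, hσ, hτv, Perm.mul_apply]) (fun b => ?_)⟩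
    rw [← hu, Perm.mul_apply]
    by_cases h0 : π b = B0
    · rw [h0, Equiv.swap_apply_left, he]
    by_cases h1 : π b = B1
    · rw [h1, Equiv.swap_apply_right, he]
    rw [Equiv.swap_apply_of_ne_of_ne h0 h1]

variable [FiniteDimensional k V]

/-- weights with a given number of nonzero entries -/
theorem card_weights (m s : ℕ) : m.choose s * 2 ^ s ≤
    ((Finset.univ : Finset (Fin m → Fin 3)).filter fun u =>
      (Finset.univ.filter fun b => u b ≠ 0).card = s).card := by
  classical
  let D := (Finset.powersetCard s (Finset.univ : Finset (Fin m))).sigma fun T =>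
    T.pi fun _ => ({1, 2} : Finset (Fin 3))
  have hD : D.card = m.choose s * 2 ^ s := by
    rw [Finset.card_sigma, Finset.sum_congr rfl (g := fun _ => 2 ^ s) (fun T hT => by
      rw [Finset.card_pi, Finset.prod_const, (Finset.mem_powersetCard.1 hT).2]; rfl),
      Finset.sum_const, Finset.card_powersetCard, Finset.card_univ, Fintype.card_fin, smul_eq_mul]
  rw [← hD]
  have hnz : ∀ q ∈ D, ∀ b (hb : b ∈ q.1), q.2 b hb ≠ 0 := by
    intro q hq b hb
    have := (Finset.mem_pi.1 (Finset.mem_sigma.1 hq).2) b hb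
    revert this
    generalize q.2 b hb = i
    revert i; decide
  refine Finset.card_le_card_of_injOn (fun q b => if hb : b ∈ q.1 then q.2 b hb else 0) ?_ ?_
  · intro q hq
    have hsupp : (Finset.univ.filter fun b =>
        (if hb : b ∈ q.1 then q.2 b hb else 0) ≠ 0) = q.1 := by
      ext b
      by_cases hb : b ∈ q.1 <;> simp [hb, hnz q hq b]
    simp only [Finset.mem_coe, Finset.mem_filter, Finset.mem_univ, true_and]
    rw [hsupp]
    exact (Finset.mem_powersetCard.1 (Finset.mem_sigma.1 hq).1).2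
  · rintro ⟨T, g⟩ hq ⟨T', g'⟩ hq' heq
    have hT : T = T' := by
      ext b
      have := congrFun heq b
      simp only at this
      constructor
      · intro hb
        by_contra hb'
        rw [dif_pos hb, dif_neg hb'] at this
        exact hnz _ hq b hb this
      · intro hb
        by_contra hb'
        rw [dif_neg hb', dif_pos hb] at this
        exact hnz _ hq' b hb this.symm
    subst hT
    congr 1
    funext b hb
    have := congrFun heq b
    simpa [hb] using this

omit [FiniteDimensional k V] in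
theorem Blk.conjugates (B : ρ.Blk ω p) (hm : 3 ≤ m) {v : V} (hv : v ≠ 0) {w : Fin m → Fin 3}
    (hw : v ∈ Jt ρ ω p w) {u : Fin m → Fin 3}
    (hs : (Finset.univ.filter fun b => u b ≠ 0).card = (Finset.univ.filter fun b => w b ≠ 0).card) :
    ∃ v' ∈ Jt ρ ω p u, v' ≠ 0 := by
  classical
  obtain ⟨π, hπ⟩ := Equiv.Perm.exists_map_finset_eq (Finset.univ.filter fun b => w b ≠ 0)
    (Finset.univ.filter fun b => u b ≠ 0) hs.symm
  obtain ⟨G, hG⟩ := B.transfer hm (w := w) (u := u) π fun b => by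
    have h1 : π b ∈ (Finset.univ.filter fun b => u b ≠ 0) ↔
        b ∈ (Finset.univ.filter fun b => w b ≠ 0) := by rw [← hπ]; simp
    simp only [Finset.mem_filter, Finset.mem_univ, true_and, ne_eq] at h1
    exact not_iff_not.1 h1
  exact ⟨_, hG v hw, fun h0 => hv (gv_injective G (by rw [h0, map_zero]))⟩

theorem Blk.orbit (B : ρ.Blk ω p) (hm : 3 ≤ m) {v : V} (hv : v ≠ 0) {w : Fin m → Fin 3}
    (hw : v ∈ Jt ρ ω p w) :
    m.choose (Finset.univ.filter fun b => w b ≠ 0).card *
      2 ^ (Finset.univ.filter fun b => w b ≠ 0).card ≤ finrank k V := by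
  classical
  refine (card_weights m _).trans ?_
  obtain ⟨U, hU⟩ : ∃ U, U = (Finset.univ : Finset (Fin m → Fin 3)).filter fun u =>
      (Finset.univ.filter fun b => u b ≠ 0).card = (Finset.univ.filter fun b => w b ≠ 0).card :=
    ⟨_, rfl⟩
  rw [← hU, ← Fintype.card_coe]
  refine card_le_finrank (X := fun b => (bX ρ p b : Module.End k V))
    (f := fun u : {x // x ∈ U} => fun b => z3 ω (u.1 b)) ?_ fun ⟨u, hu⟩ => ?_
  · intro x y hxy
    exact Subtype.ext (funext fun b => z3_injective B.char.two B.root (congrFun hxy b))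
  · rw [hU] at hu
    obtain ⟨v', hv', hv0⟩ := B.conjugates hm hv hw (Finset.mem_filter.1 hu).2
    exact (Submodule.ne_bot_iff _).2 ⟨v', hv', hv0⟩

theorem three_mul_lt : ∀ m : ℕ, 4 ≤ m → 3 * m < 2 ^ m := by
  intro m hm
  induction m, hm using Nat.le_induction with
  | base => norm_num
  | succ m hm ih => rw [pow_succ]; omega

/-- the standard blocks -/
def blk3 {m : ℕ} (h : 3 * m ≤ r) (b : Fin m) (i : Fin 3) : Fin r :=
  ⟨3 * b.val + i.val, by omega⟩

theorem blk3_inj {m : ℕ} (h : 3 * m ≤ r) :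
    Function.Injective fun x : Fin m × Fin 3 => blk3 h x.1 x.2 := by
  intro x y hxy
  have := congrArg Fin.val hxy
  simp only [blk3] at this
  exact Prod.ext (Fin.ext (by omega)) (Fin.ext (by omega))

theorem no_full [IsAlgClosed k] (C : ρ.Char2) (hr10 : 10 ≤ r) (hn : finrank k V ≤ 9)
    (h3 : 3 * 3 ≤ r) (B : ρ.Blk ω (blk3 h3)) {v : V} (hv : v ≠ 0) {w : Fin 3 → Fin 3}
    (hw : v ∈ Jt ρ ω (blk3 h3) w) (hfull : ∀ b, w b ≠ 0) : False := by
  classical
  have h5 : (5 : k) ≠ 0 := by
    intro h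
    exact one_ne_zero (by linear_combination h - 2 * C.two : (1 : k) = 0)
  obtain ⟨U, hU4, hU⟩ := five (ρ := ρ) h5 hn (Fin.castLEEmb hr10)
  set ι := (Fin.castLEEmb (show 5 ≤ 10 by norm_num)).trans (Fin.castLEEmb hr10) with hι
  have hι' : ∀ i : Fin 5, ι i = ⟨i.val, by omega⟩ := fun i => rfl
  have hp : ∀ i : Fin 3, blk3 h3 0 i = ι (Fin.castLE (by norm_num) i) := by
    intro i; ext; simp [blk3, hι']
  have h5n : [ι 0, ι 1, ι 2, ι 3, ι 4].Nodup := by
    simp [List.nodup_cons, ι.injective.eq_iff]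
  have hX : bX ρ (blk3 h3) 0 = ⁅ρ.f (dt (ι 1) (ι 2) (ι 3) (ι 4)), ρ.f (tc (ι 0) (ι 1) (ι 2))⁆ := by
    rw [bX, hp, hp, hp]
    exact x3_eq C.nine h5n
  obtain ⟨cs, hcs⟩ := hU (dt 1 2 3 4) (by decide) (ρ.f (dt (ι 1) (ι 2) (ι 3) (ι 4)))
    (by rw [map_dt]; exact ρ.lifts_f _)
  obtain ⟨ct, hct⟩ := hU (tc 0 1 2) (by decide) (ρ.f (tc (ι 0) (ι 1) (ι 2)))
    (by rw [map_tc]; exact ρ.lifts_f _)
  have hfix : ∀ x ∈ U, (bX ρ (blk3 h3) 0 : Module.End k V) x = x := by
    intro x hx
    by_cases hx0 : x = 0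
    · simp [hx0]
    have n1 : cs ≠ 0 := by
      rintro rfl
      exact hx0 (gv_injective _ (by rw [hcs x hx, zero_smul, map_zero]))
    have n2 : ct ≠ 0 := by
      rintro rfl
      exact hx0 (gv_injective _ (by rw [hct x hx, zero_smul, map_zero]))
    simp only [hX, commutatorElement_def, gv_apply_mul, eig_inv n2 (hct x hx), map_smul,
      eig_inv n1 (hcs x hx), hct x hx, hcs x hx, smul_smul]
    conv_rhs => rw [← one_smul k x]
    congr 1
    field_simp
  set W := W3 ρ (blk3 h3 0 0) (blk3 h3 0 1) (blk3 h3 0 2) with hW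
  have h8 : 8 ≤ finrank k W := by
    have := card_le_sub (k := k) (V := V) (X := fun b => (bX ρ (blk3 h3) b : Module.End k V))
      (J := {u : Fin 3 → Fin 3 // ∀ b, u b ≠ 0}) (f := fun u b => z3 ω (u.1 b))
      (fun x y hxy => Subtype.ext (funext fun b => z3_injective C.two B.root (congrFun hxy b)))
      W fun u => by
        obtain ⟨v', hv', hv0⟩ := B.conjugates le_rfl hv hw (u := u.1) (by
          rw [Finset.filter_true_of_mem fun b _ => hfull b,
            Finset.filter_true_of_mem fun b _ => u.2 b])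
        refine ⟨v', ?_, hv0, hv'⟩
        have e0 := mem_Jt.1 hv' 0
        rw [hW, mem_W3, ← bX, e0, map_smul, e0, smul_smul, ← z3_add B.root]
        rw [← add_smul]
        conv_lhs => arg 2; rw [← one_smul k v']
        rw [← add_smul, z3_trace B.root _ (u.2 0), zero_smul]
    rw [Fintype.card_congr (Equiv.subtypePiEquivPi (β := fun _ : Fin 3 => Fin 3)
      (p := fun _ x => x ≠ 0))] at this
    simpa using this
  have hdisj : U ⊓ W = ⊥ := by
    rw [eq_bot_iff]
    intro x hx
    exact C.W3_fix hx.2 (hfix x hx.1)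
  have := Submodule.finrank_sup_add_finrank_inf_eq U W
  rw [hdisj, finrank_bot] at this
  have := Submodule.finrank_le (U ⊔ W)
  omega

/-- the rank two situation -/
structure Three (ρ : PRep k V r) : Prop extends ρ.Char2 where
  six : 6 ≤ finrank k V
  rank : ∀ a b c : Fin r, [a, b, c].Nodup → finrank k (W3 ρ a b c) = 2
  fix : ∀ a b c d e g : Fin r, [a, b, c, d, e, g].Nodup → ∀ v ∈ W3 ρ a b c,
    (x3 ρ d e g : Module.End k V) v = v
  mult : ∀ a b c : Fin r, [a, b, c].Nodup → ∀ μ : k, μ ≠ 1 →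
    finrank k (Module.End.eigenspace (x3 ρ a b c : Module.End k V) μ) ≤ 1

set_option maxHeartbeats 2000000 in
theorem three_of_small [IsAlgClosed k] (C : ρ.Char2) (hn : finrank k V + 2 ≤ r) : ρ.Three := by
  classical
  obtain ⟨ω, hω⟩ := exists_omega k
  obtain ⟨m, hm, hm', hm3⟩ : ∃ m, 3 * m ≤ r ∧ r ≤ 3 * m + 2 ∧ 3 ≤ m :=
    ⟨r / 3, by omega, by omega, by have := C.nine; omega⟩
  set p := blk3 (r := r) hm with hp
  have B : ρ.Blk ω p := ⟨C, hω, blk3_inj hm⟩
  have hsupp : ∀ (v : V) (w : Fin m → Fin 3), v ≠ 0 → v ∈ Jt ρ ω p w →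
      ∀ b b', w b ≠ 0 → w b' ≠ 0 → b = b' := by
    intro v w hv hw b b' hb hb'
    by_contra hne
    have horb := B.orbit hm3 hv hw
    set s := (Finset.univ.filter fun b => w b ≠ 0).card with hs
    have hs2 : 2 ≤ s := Finset.one_lt_card.2 ⟨b, by simp [hb], b', by simp [hb'], hne⟩
    have hsm : s ≤ m := le_trans (Finset.card_le_univ _) (by simp)
    have h4 : 4 ≤ 2 ^ s := (by norm_num : (4 : ℕ) = 2 ^ 2) ▸ Nat.pow_le_pow_right (by norm_num) hs2
    rcases hsm.eq_or_lt with hsm' | hlt
    · rw [hsm', Nat.choose_self, one_mul] at horb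
      by_cases hm4 : 4 ≤ m
      · have := three_mul_lt m hm4; omega
      obtain rfl : m = 3 := by omega
      norm_num at horb
      refine no_full C (by omega) (by omega) hm B hv hw fun c => ?_
      have := (Finset.card_eq_iff_eq_univ _).1 (hsm'.trans (Fintype.card_fin 3).symm)
      have hc := this ▸ Finset.mem_univ c
      simpa using hc
    · have := self_le_choose m s (by omega) hlt
      have : m * 4 ≤ m.choose s * 2 ^ s := Nat.mul_le_mul this h4
      omega
  set b0 : Fin m := ⟨0, by omega⟩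
  set E : Fin m → Fin 3 → Submodule k V := fun b e =>
    Module.End.eigenspace (bX ρ p b : Module.End k V) (z3 ω e) with hE
  have hEinv : ∀ b e c, ∀ v ∈ E b e, (bX ρ p c : Module.End k V) v ∈ E b e := by
    intro b e c v hv
    simp only [hE, Module.End.mem_eigenspace_iff] at hv ⊢
    rw [← gv_apply_mul, (B.comm b c).eq, gv_apply_mul, hv, map_smul]
  have hsingle : ∀ b e, e ≠ 0 → E b e ≤ Jt ρ ω p (Function.update 0 b e) := by
    intro b e he v hv
    rw [mem_Jt]
    intro c
    by_cases hc : c = b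
    · subst hc
      rw [Function.update_self]
      exact Module.End.mem_eigenspace_iff.1 hv
    rw [Function.update_of_ne hc, Pi.zero_apply, z3_zero, one_smul]
    by_contra hne
    have h3c := B.nodup c (show [(0 : Fin 3), 1, 2].Nodup by decide)
    set W' := E b e ⊓ W3 ρ (p c 0) (p c 1) (p c 2)
    have hW' : W' ≠ ⊥ := (Submodule.ne_bot_iff _).2
      ⟨_, ⟨sub_mem (hEinv b e c v hv) hv, C.sub_mem_W3 h3c v⟩, sub_ne_zero.2 hne⟩
    obtain ⟨u, hu, w, hu0, huw⟩ := B.exists_eig W' hW' (fun c' u hu => ⟨hEinv b e c' u hu.1, by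
      have h1 := mem_W3.1 hu.2
      change _ ∈ W3 ρ (p c 0) (p c 1) (p c 2)
      rw [mem_W3]
      change (bX ρ p c : Module.End k V) ((bX ρ p c : Module.End k V)
        ((bX ρ p c' : Module.End k V) u)) + (bX ρ p c : Module.End k V)
        ((bX ρ p c' : Module.End k V) u) + (bX ρ p c' : Module.End k V) u = 0
      rw [← gv_apply_mul (bX ρ p c) (bX ρ p c'), (B.comm c c').eq, gv_apply_mul,
        ← gv_apply_mul (bX ρ p c) (bX ρ p c'), (B.comm c c').eq, gv_apply_mul, ← map_add,
        ← map_add, show (bX ρ p c : Module.End k V) ((bX ρ p c : Module.End k V) u) +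
          (bX ρ p c : Module.End k V) u + u = 0 from h1, map_zero]⟩)
    refine hc (hsupp u w hu0 huw c b ?_ ?_)
    · intro h0
      have := mem_Jt.1 huw c
      rw [h0, z3_zero, one_smul] at this
      exact hu0 (C.W3_fix hu.2 this)
    · intro h0
      have h1 := mem_Jt.1 huw b
      rw [h0, Module.End.mem_eigenspace_iff.1 hu.1] at h1
      exact he (z3_injective C.two hω (smul_left_injective k hu0 h1))
  have hsupp1 : ∀ (b : Fin m) (e : Fin 3), e ≠ 0 → ∀ c : Fin m,
      Function.update (0 : Fin m → Fin 3) b e c = 0 ↔ c ≠ b := by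
    intro b e he c
    by_cases hc : c = b
    · subst hc; simp [he]
    · simp [Function.update_of_ne hc, hc]
  have hle : ∀ b e c e', e ≠ 0 → e' ≠ 0 → ∃ G : GV k V,
      ∀ v ∈ E b e, (G : Module.End k V) v ∈ Jt ρ ω p (Function.update 0 c e') := by
    intro b e c e' he he'
    obtain ⟨G, hG⟩ := B.transfer hm3 (w := Function.update 0 b e) (u := Function.update 0 c e')
      (swap b c) fun d => by
        rw [hsupp1 c e' he', hsupp1 b e he]
        rw [ne_eq, ne_eq, ← (swap b c).injective.eq_iff (a := d) (b := b), Equiv.swap_apply_left]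
    exact ⟨G, fun v hv => hG v (hsingle b e he hv)⟩
  have hEJ : ∀ c e', Jt ρ ω p (Function.update 0 c e') ≤ E c e' := by
    intro c e' v hv
    have := mem_Jt.1 hv c
    rw [Function.update_self] at this
    exact Module.End.mem_eigenspace_iff.2 this
  have hdim : ∀ b e, e ≠ 0 → finrank k (E b e) = finrank k (E b0 1) := by
    intro b e he
    obtain ⟨G, hG⟩ := hle b e b0 1 he one_ne_zero
    obtain ⟨G', hG'⟩ := hle b0 1 b e one_ne_zero he
    exact le_antisymm (finrank_le_of_maps G fun v hv => hEJ _ _ (hG v hv))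
      (finrank_le_of_maps G' fun v hv => hEJ _ _ (hG' v hv))
  have hcount : finrank k (E b0 1) * (2 * m) ≤ finrank k V := by
    have := mul_card_le_finrank (X := fun b => (bX ρ p b : Module.End k V))
      (J := Fin m × Fin 2) (f := fun (x : Fin m × Fin 2) (b : Fin m) =>
        z3 ω (Function.update (0 : Fin m → Fin 3) x.1 x.2.succ b))
      (fun x y hxy => by
        have heq : Function.update (0 : Fin m → Fin 3) x.1 x.2.succ = Function.update (0 : Fin m → Fin 3) y.1 y.2.succ :=
          funext fun b => z3_injective C.two hω (congrFun hxy b)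
        have h1 : x.1 = y.1 := by
          by_contra hne
          exact Fin.succ_ne_zero x.2 (by simpa [hne] using congrFun heq x.1)
        refine Prod.ext h1 (Fin.succ_injective _ ?_)
        simpa [h1] using congrFun heq x.1)
      (finrank k (E b0 1)) (fun x => E x.1 x.2.succ)
      (fun x => hsingle _ _ (Fin.succ_ne_zero x.2))
      (fun x => (hdim _ _ (Fin.succ_ne_zero x.2)).ge)
    simpa [mul_comm 2 m] using this
  have hd1 : finrank k (E b0 1) ≤ 1 := by
    by_contra hgt
    have : 2 * (2 * m) ≤ finrank k (E b0 1) * (2 * m) := Nat.mul_le_mul_right _ (by omega)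
    omega
  have hdec : ∀ b v, ∑ e, pr3 ω (bX ρ p b) e v = v ∧ ∀ e, pr3 ω (bX ρ p b) e v ∈ E b e :=
    fun b v => ⟨sum_pr3 C.two hω _ v, fun e =>
      Module.End.mem_eigenspace_iff.2 (apply_pr3 hω (B.cube b) e v)⟩
  have hd : finrank k (E b0 1) = 1 := by
    refine le_antisymm hd1 ?_
    by_contra h0
    have hz : ∀ e : Fin 3, e ≠ 0 → E b0 e = ⊥ := fun e he =>
      Submodule.finrank_eq_zero.1 (by rw [hdim b0 e he]; omega)
    have h3 := B.nodup b0 (show [(0 : Fin 3), 1, 2].Nodup by decide)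
    refine (lifts_x3 (ρ := ρ) C.nine h3).not_scalar (sign_tc' h3) (fun h1 => ?_) 1 ?_
    · have := congrArg (fun σ : Perm (Fin r) => σ (p b0 0)) h1
      rw [nodup_three] at h3
      simp only [(tc_apply h3.1 h3.2.2 h3.2.1).1, Perm.one_apply] at this
      exact h3.1 this.symm
    apply Units.ext; apply LinearMap.ext; intro v
    rw [sc_apply, Units.val_one, one_smul]
    obtain ⟨hsum, hmem⟩ := hdec b0 v
    rw [← hsum, map_sum]
    refine Finset.sum_congr rfl fun e _ => ?_
    by_cases he : e = 0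
    · have := Module.End.mem_eigenspace_iff.1 (hmem e)
      rw [he, z3_zero, one_smul] at this
      rw [he]
      exact this
    · have := hmem e
      rw [hz e he, Submodule.mem_bot] at this
      rw [this, map_zero]
  have hb0 := B.nodup b0 (show [(0 : Fin 3), 1, 2].Nodup by decide)
  have hWE : W3 ρ (p b0 0) (p b0 1) (p b0 2) = E b0 1 ⊔ E b0 2 := by
    refine le_antisymm (fun v hv => ?_) (sup_le ?_ ?_)
    · obtain ⟨hsum, hmem⟩ := hdec b0 v
      have h0 : pr3 ω (bX ρ p b0) 0 v = 0 := by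
        refine C.W3_fix (pr3_mem (fun u hu => ?_) 0 hv) ?_
        · rw [mem_W3] at hu ⊢
          change (bX ρ p b0 : Module.End k V) ((bX ρ p b0 : Module.End k V)
            ((bX ρ p b0 : Module.End k V) u)) + (bX ρ p b0 : Module.End k V)
            ((bX ρ p b0 : Module.End k V) u) + (bX ρ p b0 : Module.End k V) u = 0
          rw [← map_add, ← map_add, show (bX ρ p b0 : Module.End k V)
            ((bX ρ p b0 : Module.End k V) u) + (bX ρ p b0 : Module.End k V) u + u = 0 from hu,
            map_zero]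
        · have := Module.End.mem_eigenspace_iff.1 (hmem 0)
          rwa [z3_zero, one_smul] at this
      rw [← hsum, Fin.sum_univ_three, h0, zero_add]
      exact Submodule.add_mem_sup (hmem 1) (hmem 2)
    all_goals
      intro v hv
      have e1 := Module.End.mem_eigenspace_iff.1 hv
      rw [mem_W3]
      change (bX ρ p b0 : Module.End k V) ((bX ρ p b0 : Module.End k V) v) +
        (bX ρ p b0 : Module.End k V) v + v = 0
      rw [e1, map_smul, e1, smul_smul, ← z3_add hω]
      conv_lhs => arg 2; rw [← one_smul k v]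
      rw [← add_smul, ← add_smul, z3_trace hω _ (by decide), zero_smul]
  have hW2 : finrank k (W3 ρ (p b0 0) (p b0 1) (p b0 2)) = 2 := by
    have hinf : E b0 1 ⊓ E b0 2 = ⊥ := by
      rw [eq_bot_iff]
      intro v hv
      by_contra hv0
      exact absurd (z3_injective C.two hω (smul_left_injective k hv0
        ((Module.End.mem_eigenspace_iff.1 hv.1).symm.trans (Module.End.mem_eigenspace_iff.1 hv.2))))
        (by decide)
    have := Submodule.finrank_sup_add_finrank_inf_eq (E b0 1) (E b0 2)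
    rw [← hWE, hinf, finrank_bot, hd, hdim b0 2 (by decide), hd] at this
    omega
  have hmove : ∀ a b c : Fin r, [a, b, c].Nodup → ∃ σ, Perm.sign σ = 1 ∧
      σ (p b0 0) = a ∧ σ (p b0 1) = b ∧ σ (p b0 2) = c := by
    intro a b c h
    obtain ⟨σ, hσ, hm'⟩ := exists_even_map ![p b0 0, p b0 1, p b0 2] ![a, b, c]
      (by rw [← List.nodup_ofFn]; simpa [List.ofFn_succ] using hb0)
      (by rw [← List.nodup_ofFn]; simpa [List.ofFn_succ] using h) (by omega)
    exact ⟨σ, hσ, hm' 0, hm' 1, hm' 2⟩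
  refine ⟨C, ?_, fun a b c h => ?_, fun a b c d e g h v hv => ?_, fun a b c h μ hμ => ?_⟩
  · rw [hd, one_mul] at hcount; omega
  · obtain ⟨σ, hσ, e0, e1, e2⟩ := hmove a b c h
    refine le_antisymm ?_ (hW2 ▸ ?_)
    · rw [← hW2]
      refine finrank_le_of_maps (ρ.f σ)⁻¹ fun v hv => ?_
      have := W3_conj C.nine h (show Perm.sign σ⁻¹ = 1 by simp [hσ]) ((ρ.lifts_f σ).inv hσ) hv
      simpa [← e0, ← e1, ← e2] using this
    · refine finrank_le_of_maps (ρ.f σ) fun v hv => ?_
      have := W3_conj C.nine hb0 hσ (ρ.lifts_f σ) hv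
      rwa [e0, e1, e2] at this
  · -- disjoint cycles fix the moving part
    set b1 : Fin m := ⟨1, by omega⟩
    have hb01 : b0 ≠ b1 := by simp [b0, b1, Fin.ext_iff]
    have hbase : ∀ u ∈ W3 ρ (p b0 0) (p b0 1) (p b0 2), (bX ρ p b1 : Module.End k V) u = u := by
      intro u hu
      rw [hWE] at hu
      obtain ⟨u1, h1, u2, h2, rfl⟩ := Submodule.mem_sup.1 hu
      have key : ∀ e, e ≠ 0 → ∀ x ∈ E b0 e, (bX ρ p b1 : Module.End k V) x = x := by
        intro e he x hx
        have := mem_Jt.1 (hsingle b0 e he hx) b1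
        rwa [Function.update_of_ne (Ne.symm hb01), Pi.zero_apply, z3_zero, one_smul] at this
      rw [map_add, key 1 one_ne_zero u1 h1, key 2 (by decide) u2 h2]
    obtain ⟨σ, hσ, hm6⟩ := exists_even_map
      ![p b0 0, p b0 1, p b0 2, p b1 0, p b1 1, p b1 2] ![a, b, c, d, e, g]
      (by rw [← List.nodup_ofFn]; simpa [List.ofFn_succ] using B.nodup6 hb01)
      (by rw [← List.nodup_ofFn]; simpa [List.ofFn_succ] using h) (by have := C.nine; omega)
    have ea : σ (p b0 0) = a := hm6 0
    have eb : σ (p b0 1) = b := hm6 1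
    have ec : σ (p b0 2) = c := hm6 2
    have ed : σ (p b1 0) = d := hm6 3
    have ee : σ (p b1 1) = e := hm6 4
    have eg : σ (p b1 2) = g := hm6 5
    have h3 : [a, b, c].Nodup := h.sublist (List.take_sublist 3 [a, b, c, d, e, g])
    have hv' := W3_conj C.nine h3 (show Perm.sign σ⁻¹ = 1 by simp [hσ]) ((ρ.lifts_f σ).inv hσ) hv
    simp only [← ea, ← eb, ← ec, Perm.inv_def, Equiv.symm_apply_apply] at hv'
    have h1 := apply_conj3 C.nine (B.nodup b1 (show [(0 : Fin 3), 1, 2].Nodup by decide)) hσ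
      (ρ.lifts_f σ) (((ρ.f σ)⁻¹ : GV k V).val v)
    have hself : (ρ.f σ : Module.End k V) (((ρ.f σ)⁻¹ : GV k V).val v) = v := by
      rw [← gv_apply_mul, mul_inv_cancel, Units.val_one, Module.End.one_apply]
    rw [ed, ee, eg, hself] at h1
    rw [h1, ← bX, hbase _ hv', hself]
  · obtain ⟨σ, hσ, e0, e1, e2⟩ := hmove a b c h
    have hle' : finrank k (Module.End.eigenspace (x3 ρ a b c : Module.End k V) μ) ≤
        finrank k (Module.End.eigenspace (bX ρ p b0 : Module.End k V) μ) := by
      refine finrank_le_of_maps (ρ.f σ)⁻¹ fun v hv => ?_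
      rw [Module.End.mem_eigenspace_iff] at hv ⊢
      refine eig_conj ?_ hv
      rw [inv_inv, ← e0, ← e1, ← e2, ← conj_x3 C.nine hb0 hσ (ρ.lifts_f σ), bX]
      group
    refine hle'.trans ?_
    by_cases hz : ∃ e, z3 ω e = μ
    · obtain ⟨e, rfl⟩ := hz
      have he : e ≠ 0 := by rintro rfl; exact hμ z3_zero
      exact le_of_eq ((hdim b0 e he).trans hd)
    · rw [not_exists] at hz
      have : Module.End.eigenspace (bX ρ p b0 : Module.End k V) μ = ⊥ := by
        rw [eq_bot_iff]
        intro v hv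
        rw [Submodule.mem_bot, ← (hdec b0 v).1]
        refine Finset.sum_eq_zero fun e _ => ?_
        by_contra hne
        have h1 := pr3_mem (ω := ω) (X := bX ρ p b0) (fun u hu => by
          rw [Module.End.mem_eigenspace_iff] at hu ⊢
          rw [hu, map_smul, hu]) e hv
        rw [Module.End.mem_eigenspace_iff, Module.End.mem_eigenspace_iff.1 ((hdec b0 v).2 e)] at h1
        exact hz e (smul_left_injective k hne h1)
      rw [this, finrank_bot]; exact Nat.zero_le _

end PRep

end Cfsg.Agent.AltSec
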